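import Groth.Agent.H0FBC.FlatBC

/-!
# Base change for sheaves of sets is local for the etale topology
-/

set_option autoImplicit false
set_option linter.style.haveILetI false
set_option linter.unusedSectionVars false
set_option backward.isDefEq.respectTransparency false
set_option backward.isDefEq.respectTransparency.types false
universe u

open CategoryTheory CategoryTheory.Limits AlgebraicGeometry TopologicalSpace Opposite

namespace Groth.Agent.H0FBC

open H0PBC EtFound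

variable {A : Type (u + 2)} [Category.{u + 1} A] [HasColimitsOfSize.{u, u} A] [HasProducts.{u} A]
  [∀ {P Q : Scheme.{u}} (h : P ⟶ Q),
    ((EtCoh.bc h).sheafPushforwardContinuous A Q.smallEtaleTopology P.smallEtaleTopology).IsRightAdjoint]
  {FA : A → A → Type*} {CA : A → Type (u + 1)}
  [∀ M N, FunLike (FA M N) (CA M) (CA N)] [ConcreteCategory.{u + 1} A FA]
  [PreservesFilteredColimitsOfSize.{u, u} (forget A)]
  [∀ Z : Scheme.{u}, Z.smallEtaleTopology.HasSheafCompose (forget A)] [(forget A).ReflectsIsomorphisms]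

section

variable {S T Vs Ti : Scheme.{u}} {g : T ⟶ S} {v : Vs ⟶ S} [AlgebraicGeometry.Etale v] {gi : Ti ⟶ Vs} {ti : Ti ⟶ T}

/-- an etale scheme over an etale scheme over `S`, as an etale scheme over `S` -/
noncomputable def down (v : Vs ⟶ S) [AlgebraicGeometry.Etale v] (W : Vs.Etale) : S.Etale :=
  have : AlgebraicGeometry.Etale W.hom := W.prop
  Scheme.Etale.mk (W.hom ≫ v)

/-- functoriality of `down` -/
noncomputable def downMap {W W' : Vs.Etale} (k : W' ⟶ W) : down v W' ⟶ down v W :=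
  MorphismProperty.Over.homMk k.left
    ((Category.assoc _ _ _).symm.trans (congrArg (· ≫ v) (MorphismProperty.Over.w k)))

variable (cT : IsPullback ti gi g v)

/-- `W ×_{V} T_V ⟶ W ×_S T` -/
noncomputable def downBC (W : Vs.Etale) : ((EtCoh.bc gi).obj W).left ⟶ ((EtCoh.bc g).obj (down v W)).left :=
  pullback.lift (pullback.fst W.hom gi) (pullback.snd W.hom gi ≫ ti) (by
    show pullback.fst W.hom gi ≫ W.hom ≫ v = _
    rw [Category.assoc, cT.w, pullback.condition_assoc])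

theorem downBC_w (W : Vs.Etale) :
    downBC cT W ≫ ((EtCoh.bc g).obj (down v W)).hom = ((EtCoh.bc gi).obj W).hom ≫ ti :=
  pullback.lift_snd _ _ _

theorem downBC_fst (W : Vs.Etale) : downBC cT W ≫ pullback.fst (down v W).hom g = pullback.fst W.hom gi :=
  pullback.lift_fst _ _ _

theorem isIso_downBC (W : Vs.Etale) : IsIso (downBC cT W) := by
  have sq : IsPullback (pullback.fst W.hom gi) (pullback.snd W.hom gi ≫ ti) (down v W).hom g :=
    (IsPullback.of_hasPullback W.hom gi).paste_vert cT.flip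
  have e : downBC cT W = sq.isoPullback.hom := by
    refine pullback.hom_ext ?_ ?_
    · exact (pullback.lift_fst _ _ _).trans sq.isoPullback_hom_fst.symm
    · exact (pullback.lift_snd _ _ _).trans sq.isoPullback_hom_snd.symm
  rw [e]
  infer_instance

include FA CA in
theorem bijective_down (F : Sheaf T.smallEtaleTopology A) (W : Vs.Etale) :
    Function.Bijective (fun τ : ToType (F.obj.obj (op ((EtCoh.bc g).obj (down v W)))) =>
      ((pullA A ti).obj F).obj.map (toBC ti (downBC cT W) (downBC_w cT W)).op (pullSect ti F τ)) := by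
  haveI := isIso_downBC cT W
  haveI : Surjective (downBC cT W) := inferInstance
  haveI : GeometricallyConnected (downBC cT W) := ⟨fun L _ y Z f₁ f₂ hh => by
    haveI : IsIso f₂ := hh.isIso_snd_of_isIso
    exact (asIso f₂).schemeIsoToHomeo.symm.surjective.connectedSpace (asIso f₂).schemeIsoToHomeo.symm.continuous⟩
  exact ⟨fun τ₁ τ₂ hh => eq_of_pullSect_eq ti F (downBC cT W) (downBC_w cT W) τ₁ τ₂ hh, fun σ => by
    obtain ⟨τ, hτ⟩ := exists_pullSect_eq ti F (downBC cT W) (downBC_w cT W) σ (.inl inferInstance)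
    exact ⟨τ, hτ⟩⟩

include FA CA in
theorem map_down (F : Sheaf T.smallEtaleTopology A) {W W' : Vs.Etale} (k : W' ⟶ W)
    (τ : ToType (F.obj.obj (op ((EtCoh.bc g).obj (down v W))))) :
    ((pullA A ti).obj F).obj.map (toBC ti (downBC cT W') (downBC_w cT W')).op
        (pullSect ti F (F.obj.map ((EtCoh.bc g).map (downMap k)).op τ)) =
      ((pullA A ti).obj F).obj.map ((EtCoh.bc gi).map k).op
        (((pullA A ti).obj F).obj.map (toBC ti (downBC cT W) (downBC_w cT W)).op (pullSect ti F τ)) := by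
  rw [pullSect_map, ← ConcreteCategory.comp_apply, ← ConcreteCategory.comp_apply, ← Functor.map_comp,
    ← Functor.map_comp, ← op_comp, ← op_comp]
  refine congrArg (fun l => ((pullA A ti).obj F).obj.map (Quiver.Hom.op l) (pullSect ti F τ)) ?_
  refine MorphismProperty.Over.Hom.ext (pullback.hom_ext ?_ ?_)
  · refine (Category.assoc _ _ _).trans ((congrArg (_ ≫ ·) (pullback.lift_fst _ _ _)).trans ?_)
    refine ((Category.assoc _ _ _).symm.trans (congrArg (· ≫ ((EtCoh.bc g).map (downMap k)).left)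
      (pullback.lift_fst _ _ _))).trans ?_
    refine Eq.trans ?_ ((Category.assoc _ _ _).trans (congrArg (_ ≫ ·) (pullback.lift_fst _ _ _))).symm
    refine pullback.hom_ext ?_ ?_
    · refine (Category.assoc _ _ _).trans ((congrArg (_ ≫ ·) (pullback.lift_fst _ _ _)).trans ?_)
      refine ((Category.assoc _ _ _).symm.trans (congrArg (· ≫ k.left) (downBC_fst cT W'))).trans ?_
      exact ((Category.assoc _ _ _).trans ((congrArg (_ ≫ ·) (downBC_fst cT W)).trans (pullback.lift_fst _ _ _))).symm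
    · refine (Category.assoc _ _ _).trans ((congrArg (_ ≫ ·) (pullback.lift_snd _ _ _)).trans ?_)
      refine (downBC_w cT W').trans ?_
      refine Eq.trans ?_ ((Category.assoc _ _ _).trans (congrArg (_ ≫ ·) (downBC_w cT W))).symm
      exact (congrArg (· ≫ ti) (MorphismProperty.Over.w ((EtCoh.bc gi).map k)).symm).trans (Category.assoc _ _ _)
  · refine (Category.assoc _ _ _).trans ((congrArg (_ ≫ ·) (pullback.lift_snd _ _ _)).trans ?_)
    refine (pullback.lift_snd _ _ _).trans ?_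
    refine Eq.trans ?_ ((Category.assoc _ _ _).trans (congrArg (_ ≫ ·) (pullback.lift_snd _ _ _))).symm
    exact (MorphismProperty.Over.w ((EtCoh.bc gi).map k)).symm

end

section

variable {X S Y T Us Vs Ti Yi : Scheme.{u}} {f : X ⟶ S} {g : T ⟶ S} {h : Y ⟶ X} {e : Y ⟶ T}
  {u : Us ⟶ X} [AlgebraicGeometry.Etale u] {v : Vs ⟶ S} [AlgebraicGeometry.Etale v] {a : Us ⟶ Vs}
  {gi : Ti ⟶ Vs} {ti : Ti ⟶ T} {hi : Yi ⟶ Us} {ei : Yi ⟶ Ti}
  (c : IsPullback e h g f) (hau : a ≫ v = u ≫ f) (cT : IsPullback ti gi g v) (cY : IsPullback ei hi gi a)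

/-- the morphism `Y_U ⟶ Y` -/
noncomputable def toTotal : Yi ⟶ Y :=
  c.lift (ei ≫ ti) (hi ≫ u) (by rw [Category.assoc, cT.w, cY.w_assoc, hau, Category.assoc])

theorem toTotal_e : toTotal c hau cT cY ≫ e = ei ≫ ti := c.lift_fst _ _ _

theorem toTotal_h : toTotal c hau cT cY ≫ h = hi ≫ u := c.lift_snd _ _ _

variable (F : Sheaf T.smallEtaleTopology A)

/-- the condition on a section `σ'` over `Y_U` to correspond to `σ` -/
def Corr {P : Y.Etale} (σ : ToType (((pullA A e).obj F).obj.obj (op P))) {P' : Yi.Etale}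
    (q : P'.left ⟶ P.left) (σ' : ToType (((pullA A ei).obj ((pullA A ti).obj F)).obj.obj (op P'))) : Prop :=
  ∀ (Ω : Type u) [Field Ω] [IsSepClosed Ω] (ζ : Spec (CommRingCat.of Ω) ⟶ Yi) (ξ : Spec (CommRingCat.of Ω) ⟶ T)
    (hξ : (ζ ≫ ei) ≫ ti = ξ) (z : Spec (CommRingCat.of Ω) ⟶ P'.left) (hz : z ≫ P'.hom = ζ)
    (ζY : Spec (CommRingCat.of Ω) ⟶ Y) (hζY : ζY ≫ e = ξ) (hzY : (z ≫ q) ≫ P.hom = ζY)
    (p : ToType ((Scheme.pointSmallEtale ξ).sheafFiber.obj F)),
    germ ((pullA A e).obj F) σ ζY (z ≫ q) hzY = toPullStalk e F ζY ξ hζY p →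
    germ ((pullA A ei).obj ((pullA A ti).obj F)) σ' ζ z hz =
      toPullStalk ei ((pullA A ti).obj F) ζ (ζ ≫ ei) rfl (toPullStalk ti F (ζ ≫ ei) ξ hξ p)

theorem exists_local_transfer (P : Y.Etale) (σ : ToType (((pullA A e).obj F).obj.obj (op P))) (P' : Yi.Etale)
    (q : P'.left ⟶ P.left) (hq : q ≫ P.hom = P'.hom ≫ toTotal c hau cT cY) (x : P'.left) :
    ∃ (N : Yi.Etale) (n : N ⟶ P') (s' : ToType (((pullA A ei).obj ((pullA A ti).obj F)).obj.obj (op N))),
      x ∈ Set.range n.left ∧ Corr F σ (n.left ≫ q) s' := by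
  let G := (pullA A ei).obj ((pullA A ti).obj F)
  let G₀ := (pullA A e).obj F
  obtain ⟨Ω, _, _, z₀, hz₀⟩ := H0PBC.exists_geom_point x
  let ζ₀ := z₀ ≫ P'.hom
  let η₀ := (z₀ ≫ q) ≫ P.hom
  have hη₀ : η₀ = ζ₀ ≫ toTotal c hau cT cY := by
    show (z₀ ≫ q) ≫ P.hom = (z₀ ≫ P'.hom) ≫ _
    rw [Category.assoc, hq, Category.assoc]
  obtain ⟨T₀, s, b, hb, hgerm⟩ := exists_germ_eq e F η₀ (η₀ ≫ e) rfl (germ G₀ σ η₀ (z₀ ≫ q) rfl)
  let R := (EtCoh.bc ti).obj T₀
  let Q := (EtCoh.bc ei).obj R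
  let M := prodEt P' Q
  let P₀ := (EtCoh.bc e).obj T₀
  let PP := prodEt P P₀
  let b' : M.left ⟶ T₀.left :=
    (prodEtSnd P' Q).left ≫ pullback.fst R.hom ei ≫ pullback.fst T₀.hom ti
  have hb' : b' ≫ T₀.hom = (((prodEtFst P' Q).left ≫ q) ≫ P.hom) ≫ e := by
    show ((prodEtSnd P' Q).left ≫ pullback.fst R.hom ei ≫ pullback.fst T₀.hom ti) ≫ T₀.hom = _
    rw [Category.assoc, Category.assoc, pullback.condition, ← Category.assoc (pullback.fst R.hom ei)]
    rw [show pullback.fst R.hom ei ≫ pullback.snd T₀.hom ti = pullback.snd R.hom ei ≫ ei from pullback.condition,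
      Category.assoc, ← Category.assoc (prodEtSnd P' Q).left]
    rw [show (prodEtSnd P' Q).left ≫ pullback.snd R.hom ei = (prodEtFst P' Q).left ≫ P'.hom from
      pullback.condition.symm, ← toTotal_e c hau cT cY, Category.assoc, ← Category.assoc P'.hom, ← hq]
    simp only [Category.assoc]
  let nm : M.left ⟶ PP.left := pullback.lift ((prodEtFst P' Q).left ≫ q)
    (pullback.lift b' (((prodEtFst P' Q).left ≫ q) ≫ P.hom) hb') (pullback.lift_snd _ _ _).symm
  let s₁ := G₀.obj.map (prodEtFst P P₀).op σ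
  let s₂ := G₀.obj.map (prodEtSnd P P₀).op (pullSect e F s)
  let O : M.left.Opens := nm ⁻¹ᵁ eqLocus G₀ s₁ s₂
  let c₀ : Spec (CommRingCat.of Ω) ⟶ R.left := pullback.lift b (ζ₀ ≫ ei) (by
    rw [hb, hη₀, Category.assoc, toTotal_e]; simp only [ζ₀, Category.assoc])
  let m₀ : Spec (CommRingCat.of Ω) ⟶ M.left := pullback.lift z₀
    (pullback.lift c₀ ζ₀ (pullback.lift_snd _ _ _)) (pullback.lift_snd _ _ _).symm
  have hm₀ : m₀ default ∈ O := by
    show nm (m₀ default) ∈ eqLocus G₀ s₁ s₂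
    rw [← Scheme.Hom.comp_apply]
    have hn₁ : (m₀ ≫ nm) ≫ (prodEtFst P P₀).left = z₀ ≫ q := by
      show (m₀ ≫ nm) ≫ pullback.fst _ _ = _
      rw [Category.assoc, pullback.lift_fst, ← Category.assoc]
      exact congrArg (· ≫ q) (pullback.lift_fst _ _ _)
    have hn₂ : (m₀ ≫ nm) ≫ (prodEtSnd P P₀).left ≫ pullback.fst T₀.hom e = b := by
      show (m₀ ≫ nm) ≫ pullback.snd _ _ ≫ _ = b
      rw [Category.assoc, pullback.lift_snd_assoc, pullback.lift_fst]
      show m₀ ≫ (prodEtSnd P' Q).left ≫ pullback.fst R.hom ei ≫ pullback.fst T₀.hom ti = b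
      rw [← Category.assoc, show m₀ ≫ (prodEtSnd P' Q).left = _ from pullback.lift_snd _ _ _,
        pullback.lift_fst_assoc, pullback.lift_fst]
    have hh : (m₀ ≫ nm) ≫ PP.hom = η₀ :=
      (Category.assoc _ _ _).symm.trans (congrArg (· ≫ P.hom) hn₁)
    have hh₂ : ((m₀ ≫ nm) ≫ (prodEtSnd P P₀).left) ≫ P₀.hom = η₀ :=
      (Category.assoc _ _ _).trans ((congrArg (_ ≫ ·) (MorphismProperty.Over.w (prodEtSnd P P₀))).trans hh)
    refine (mem_eqLocus_iff G₀ s₁ s₂ η₀ (m₀ ≫ nm) hh).2 ?_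
    rw [germ_map G₀ (prodEtFst P P₀) σ η₀ _ hh (z₀ ≫ q) rfl hn₁,
      germ_map G₀ (prodEtSnd P P₀) _ η₀ _ hh _ hh₂ rfl,
      germ_pullSect e F η₀ (η₀ ≫ e) rfl s _ hh₂ b hb ((Category.assoc _ _ _).trans hn₂), hgerm]
  refine ⟨restrictEtale M O, restrictEtaleHom M O ≫ prodEtFst P' Q,
    G.obj.map (restrictEtaleHom M O ≫ prodEtSnd P' Q).op
      (pullSect ei ((pullA A ti).obj F) (pullSect ti F s)), ⟨⟨m₀ default, hm₀⟩, ?_⟩, ?_⟩
  · show (O.ι ≫ (prodEtFst P' Q).left) _ = x
    rw [Scheme.Hom.comp_apply, ← hz₀]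
    show (prodEtFst P' Q).left (m₀ default) = _
    rw [← Scheme.Hom.comp_apply]
    exact congrArg (fun l : Spec (CommRingCat.of Ω) ⟶ P'.left => l default) (pullback.lift_fst _ _ _)
  intro Ω' _ _ ζ ξ hξ z hz ζY hζY hzY p hp
  let zO : Spec (CommRingCat.of Ω') ⟶ (O : Scheme.{u}) := z
  let m := zO ≫ O.ι
  have hmm : m ≫ M.hom = ζ := (Category.assoc _ _ _).trans hz
  have hmem : (m ≫ nm) default ∈ eqLocus G₀ s₁ s₂ := by
    rw [Scheme.Hom.comp_apply]
    have h2 : m default ∈ O := by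
      rw [Scheme.Hom.comp_apply]
      exact (zO default).2
    exact h2
  have hn₁ : (m ≫ nm) ≫ (prodEtFst P P₀).left = z ≫ (restrictEtaleHom M O ≫ prodEtFst P' Q).left ≫ q := by
    show (m ≫ nm) ≫ pullback.fst _ _ = zO ≫ (O.ι ≫ (prodEtFst P' Q).left) ≫ q
    rw [Category.assoc, pullback.lift_fst]
    simp only [m, Category.assoc]
  have hh : (m ≫ nm) ≫ PP.hom = ζY :=
    (Category.assoc _ _ _).symm.trans ((congrArg (· ≫ P.hom) hn₁).trans hzY)
  have hh₂ : ((m ≫ nm) ≫ (prodEtSnd P P₀).left) ≫ P₀.hom = ζY :=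
    (Category.assoc _ _ _).trans ((congrArg (_ ≫ ·) (MorphismProperty.Over.w (prodEtSnd P P₀))).trans hh)
  let bb := m ≫ b'
  have hn₂ : ((m ≫ nm) ≫ (prodEtSnd P P₀).left) ≫ pullback.fst T₀.hom e = bb := by
    show ((m ≫ nm) ≫ pullback.snd _ _) ≫ _ = bb
    rw [Category.assoc, Category.assoc, pullback.lift_snd_assoc, pullback.lift_fst]
  have hbb : bb ≫ T₀.hom = ξ := by
    rw [← hn₂, Category.assoc, pullback.condition, ← Category.assoc]
    exact (congrArg (· ≫ e) hh₂).trans hζY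
  have e₁ := (mem_eqLocus_iff G₀ s₁ s₂ ζY (m ≫ nm) hh).1 hmem
  rw [germ_map G₀ (prodEtFst P P₀) σ ζY _ hh _ hzY hn₁, hp,
    germ_map G₀ (prodEtSnd P P₀) _ ζY _ hh _ hh₂ rfl,
    germ_pullSect e F ζY ξ hζY s _ hh₂ bb hbb hn₂] at e₁
  rw [toPullStalk_injective e F ζY ξ hζY e₁]
  have hQ : (m ≫ (prodEtSnd P' Q).left) ≫ Q.hom = ζ :=
    (Category.assoc _ _ _).trans ((congrArg (_ ≫ ·) (MorphismProperty.Over.w (prodEtSnd P' Q))).trans hmm)
  have hR : ((m ≫ (prodEtSnd P' Q).left) ≫ pullback.fst R.hom ei) ≫ R.hom = ζ ≫ ei := by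
    rw [Category.assoc, pullback.condition, ← Category.assoc]
    exact congrArg (· ≫ ei) hQ
  rw [germ_map G (restrictEtaleHom M O ≫ prodEtSnd P' Q) _ ζ z hz (m ≫ (prodEtSnd P' Q).left) hQ
      (Category.assoc _ _ _).symm,
    germ_pullSect ei ((pullA A ti).obj F) ζ (ζ ≫ ei) rfl _ _ hQ _ hR rfl,
    germ_pullSect ti F (ζ ≫ ei) ξ hξ s _ hR bb hbb (by simp [bb, b', Category.assoc])]

/-- sections of the inverse image on `Y` transfer to sections of the iterated inverse image on `Y_U` -/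
theorem exists_transfer (P : Y.Etale) (σ : ToType (((pullA A e).obj F).obj.obj (op P))) (P' : Yi.Etale)
    (q : P'.left ⟶ P.left) (hq : q ≫ P.hom = P'.hom ≫ toTotal c hau cT cY) :
    ∃ σ' : ToType (((pullA A ei).obj ((pullA A ti).obj F)).obj.obj (op P')),
      Corr F σ q σ' := by
  let G := (pullA A ei).obj ((pullA A ti).obj F)
  let G₀ := (pullA A e).obj F
  have hloc : ∀ x : P'.left, ∃ (N : Yi.Etale) (n : N ⟶ P')
      (s' : ToType (((pullA A ei).obj ((pullA A ti).obj F)).obj.obj (op N))),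
      x ∈ Set.range n.left ∧ Corr F σ (n.left ≫ q) s' := fun x => exists_local_transfer c hau cT cY F P σ P' q hq x
  choose N n s' hxn hs' using hloc
  obtain ⟨σ', hσ'⟩ := exists_glue G (T := P') n (fun x => ⟨x, hxn x⟩) s'
    (fun k l Ω _ _ ζ z hz z' hz' hzz' => by
      let ζY := (z ≫ (n k).left ≫ q) ≫ P.hom
      obtain ⟨p, hp⟩ := toPullStalk_surjective e F ζY (ζY ≫ e) rfl
        (germ G₀ σ ζY (z ≫ (n k).left ≫ q) rfl)
      have hξ : (ζ ≫ ei) ≫ ti = ζY ≫ e := by
        show _ = ((z ≫ (n k).left ≫ q) ≫ P.hom) ≫ e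
        rw [← Category.assoc z, Category.assoc _ q, hq, ← Category.assoc, Category.assoc z, MorphismProperty.Over.w,
          hz, Category.assoc, Category.assoc, toTotal_e c hau cT cY]
      have hzz : z ≫ (n k).left ≫ q = z' ≫ (n l).left ≫ q := by
        rw [← Category.assoc, hzz', Category.assoc]
      rw [hs' k Ω ζ _ hξ z hz ζY rfl rfl p hp.symm,
        hs' l Ω ζ _ hξ z' hz' ζY rfl (by rw [← hzz]) p (by rw [hp]; congr 1; exact hzz.symm)])
  refine ⟨σ', fun Ω _ _ ζ ξ hξ z hz ζY hζY hzY p hp => ?_⟩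
  obtain ⟨w, hw⟩ := hxn (z default)
  obtain ⟨z', hz', -⟩ := EtFound.exists_lift_point (n (z default)) (CategoryTheory.Over.homMk z hz) w hw
  have e' : (z'.left : Spec (CommRingCat.of Ω) ⟶ _) ≫ (n (z default)).left ≫ q = z ≫ q := by
    rw [← Category.assoc]; exact congrArg (· ≫ q) (congrArg CommaMorphism.left hz' :)
  rw [← germ_map G (n (z default)) σ' ζ z'.left (CategoryTheory.Over.w z') z hz (congrArg CommaMorphism.left hz'), hσ']
  refine hs' _ Ω ζ ξ hξ z'.left (CategoryTheory.Over.w z') ζY hζY (by rw [e']; exact hzY) p (Eq.trans ?_ hp)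
  congr 1

include FA CA c hau cY cT in
theorem bijective_stalk_of_local
    (β : (pullA A f).obj ((pushA A g).obj F) ⟶ (pushA A h).obj ((pullA A e).obj F))
    (hβ : ∀ V : S.Etale,
      (((EtCoh.bc f).sheafAdjunctionContinuous A S.smallEtaleTopology X.smallEtaleTopology).unit.app
          ((pushA A g).obj F)).hom.app (op V) ≫ β.hom.app (op ((EtCoh.bc f).obj V)) =
        (((EtCoh.bc e).sheafAdjunctionContinuous A T.smallEtaleTopology Y.smallEtaleTopology).unit.app F).hom.app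
          (op ((EtCoh.bc g).obj V)) ≫ ((pullA A e).obj F).obj.map (bcSquare c.w V).op)
    (βi : (pullA A a).obj ((pushA A gi).obj ((pullA A ti).obj F)) ⟶
      (pushA A hi).obj ((pullA A ei).obj ((pullA A ti).obj F)))
    (hβi : ∀ V : Vs.Etale,
      (((EtCoh.bc a).sheafAdjunctionContinuous A Vs.smallEtaleTopology Us.smallEtaleTopology).unit.app
          ((pushA A gi).obj ((pullA A ti).obj F))).hom.app (op V) ≫ βi.hom.app (op ((EtCoh.bc a).obj V)) =
        (((EtCoh.bc ei).sheafAdjunctionContinuous A Ti.smallEtaleTopology Yi.smallEtaleTopology).unit.app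
          ((pullA A ti).obj F)).hom.app (op ((EtCoh.bc gi).obj V)) ≫
          ((pullA A ei).obj ((pullA A ti).obj F)).obj.map (bcSquare cY.w V).op)
    [IsIso βi] {Ω : Type u} [Field Ω] [IsSepClosed Ω] (η' : Spec (CommRingCat.of Ω) ⟶ Us) :
    Function.Bijective ((Scheme.pointSmallEtale (η' ≫ u)).presheafFiber.map β.hom) := by
  have hbi := ConcreteCategory.bijective_of_isIso ((Scheme.pointSmallEtale η').presheafFiber.map
    ((sheafToPresheaf _ _).map βi))
  let G := (pushA A g).obj F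
  let Gi := (pushA A gi).obj ((pullA A ti).obj F)
  let Di := (pullA A ei).obj ((pullA A ti).obj F)
  let T' : ∀ W : Vs.Etale, ToType (F.obj.obj (op ((EtCoh.bc g).obj (down v W)))) →
      ToType (Gi.obj.obj (op W)) := fun W τ =>
    ((pullA A ti).obj F).obj.map (toBC ti (downBC cT W) (downBC_w cT W)).op (pullSect ti F τ)
  -- geometric germs of base change maps
  have hpt : ∀ {W : Vs.Etale} {U₂ : Us.Etale} (a₂ : U₂.left ⟶ W.left) (ha₂ : a₂ ≫ W.hom = U₂.hom ≫ a)
      (τ : ToType (F.obj.obj (op ((EtCoh.bc g).obj (down v W))))) (Ω' : Type u) [Field Ω'] [IsSepClosed Ω']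
      (ζ : Spec (CommRingCat.of Ω') ⟶ Yi) (z : Spec (CommRingCat.of Ω') ⟶ ((EtCoh.bc hi).obj U₂).left)
      (hz : z ≫ ((EtCoh.bc hi).obj U₂).hom = ζ),
      ∃ (b : Spec (CommRingCat.of Ω') ⟶ ((EtCoh.bc g).obj (down v W)).left)
        (hb : b ≫ ((EtCoh.bc g).obj (down v W)).hom = (ζ ≫ ei) ≫ ti),
        b = z ≫ bcMap cY.w a₂ ha₂ ≫ downBC cT W ∧
        germ Di (Di.obj.map (toBC ei (bcMap cY.w a₂ ha₂) (bcMap_w cY.w a₂ ha₂)).op
            (pullSect ei ((pullA A ti).obj F) (T' W τ))) ζ z hz =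
          toPullStalk ei ((pullA A ti).obj F) ζ (ζ ≫ ei) rfl
            (toPullStalk ti F (ζ ≫ ei) _ rfl (germ F τ _ b hb)) := by
    intro W U₂ a₂ ha₂ τ Ω' _ _ ζ z hz
    have hR : (z ≫ bcMap cY.w a₂ ha₂) ≫ ((EtCoh.bc gi).obj W).hom = ζ ≫ ei := by
      rw [Category.assoc, bcMap_w, ← Category.assoc, hz]
    have hb : ((z ≫ bcMap cY.w a₂ ha₂) ≫ downBC cT W) ≫ ((EtCoh.bc g).obj (down v W)).hom = (ζ ≫ ei) ≫ ti := by
      rw [Category.assoc, downBC_w, ← Category.assoc, hR]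
    refine ⟨_, hb, Category.assoc _ _ _, ?_⟩
    exact (germ_toBC ei ((pullA A ti).obj F) (bcMap cY.w a₂ ha₂) (bcMap_w cY.w a₂ ha₂) (T' W τ) ζ (ζ ≫ ei) rfl z hz
      (z ≫ bcMap cY.w a₂ ha₂) hR rfl).trans (congrArg _
      (germ_toBC ti F (downBC cT W) (downBC_w cT W) τ (ζ ≫ ei) _ rfl _ hR _ hb rfl))
  refine ⟨?_, ?_⟩
  · intro p₁ p₂ e'
    obtain ⟨V₁, τ₁, b₁, hb₁, rfl⟩ := exists_germ_eq f G (η' ≫ u) ((η' ≫ u) ≫ f) rfl p₁
    obtain ⟨V₂, τ₂, b₂, hb₂, rfl⟩ := exists_germ_eq f G (η' ≫ u) ((η' ≫ u) ≫ f) rfl p₂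
    let P := prodEt V₁ V₂
    haveI : AlgebraicGeometry.Etale P.hom := P.prop
    let W : Vs.Etale := Scheme.Etale.mk (pullback.snd P.hom v)
    let r : down v W ⟶ P := MorphismProperty.Over.homMk (pullback.fst P.hom v) pullback.condition
    let bW : Spec (CommRingCat.of Ω) ⟶ W.left := pullback.lift
      (pullback.lift b₁ b₂ (hb₁.trans hb₂.symm)) (η' ≫ a) (by
        show pullback.lift b₁ b₂ _ ≫ pullback.fst V₁.hom V₂.hom ≫ V₁.hom = _
        rw [pullback.lift_fst_assoc, hb₁, Category.assoc, Category.assoc, hau])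
    have hbW : bW ≫ W.hom = η' ≫ a := pullback.lift_snd _ _ _
    have hbD : bW ≫ (down v W).hom = (η' ≫ u) ≫ f :=
      (Category.assoc _ _ _).symm.trans (by rw [hbW, Category.assoc, hau, Category.assoc])
    have hr₁ : bW ≫ (r ≫ prodEtFst V₁ V₂).left = b₁ := by
      show bW ≫ pullback.fst P.hom v ≫ pullback.fst V₁.hom V₂.hom = b₁
      rw [pullback.lift_fst_assoc, pullback.lift_fst]
    have hr₂ : bW ≫ (r ≫ prodEtSnd V₁ V₂).left = b₂ := by
      show bW ≫ pullback.fst P.hom v ≫ pullback.snd V₁.hom V₂.hom = b₂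
      rw [pullback.lift_fst_assoc, pullback.lift_snd]
    rw [← germ_map G (r ≫ prodEtFst V₁ V₂) τ₁ _ bW hbD b₁ hb₁ hr₁,
      ← germ_map G (r ≫ prodEtSnd V₁ V₂) τ₂ _ bW hbD b₂ hb₂ hr₂] at e' ⊢
    generalize G.obj.map (r ≫ prodEtFst V₁ V₂).op τ₁ = t₁ at e' ⊢
    generalize G.obj.map (r ≫ prodEtSnd V₁ V₂).op τ₂ = t₂ at e' ⊢
    let cc : Spec (CommRingCat.of Ω) ⟶ ((EtCoh.bc f).obj (down v W)).left := pullback.lift bW (η' ≫ u) hbD
    have hcc : cc ≫ ((EtCoh.bc f).obj (down v W)).hom = η' ≫ u := pullback.lift_snd _ _ _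
    let c' : (Scheme.pointSmallEtale (η' ≫ u)).fiber.obj ((EtCoh.bc f).obj (down v W)) :=
      CategoryTheory.Over.homMk cc hcc
    have hgp : ∀ t : ToType (G.obj.obj (op (down v W))),
        toPullStalk f G (η' ≫ u) ((η' ≫ u) ≫ f) rfl (germ G t ((η' ≫ u) ≫ f) bW hbD) =
          (Scheme.pointSmallEtale (η' ≫ u)).toPresheafFiber _ c' ((pullA A f).obj G).obj (pullSect f G t) := fun t =>
      (germ_pullSect f G (η' ≫ u) _ rfl t cc hcc bW hbD (pullback.lift_fst _ _ _)).symm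
    rw [hgp, hgp] at e'
    have e'' := (((Scheme.pointSmallEtale (η' ≫ u)).toPresheafFiber_naturality_apply β.hom _ c' _).symm.trans e').trans
      ((Scheme.pointSmallEtale (η' ≫ u)).toPresheafFiber_naturality_apply β.hom _ c' _)
    obtain ⟨U₁, k, z, hz, hk⟩ := ((Scheme.pointSmallEtale (η' ≫ u)).toPresheafFiber_eq_iff' _ c' _ _).1 e''
    let z₁ : Spec (CommRingCat.of Ω) ⟶ U₁.left := z.left
    have hz₁ : z₁ ≫ k.left = cc := congrArg CommaMorphism.left hz
    let a₁ : U₁.left ⟶ (down v W).left := k.left ≫ pullback.fst (down v W).hom f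
    have ha₁ : a₁ ≫ (down v W).hom = U₁.hom ≫ f := by
      refine (Category.assoc _ _ _).trans ?_
      rw [pullback.condition, ← Category.assoc]
      exact congrArg (· ≫ f) (MorphismProperty.Over.w k)
    have hk' : toBC f a₁ ha₁ = k := MorphismProperty.Over.Hom.ext
      (pullback.hom_ext (pullback.lift_fst _ _ _) ((pullback.lift_snd _ _ _).trans (MorphismProperty.Over.w k).symm))
    have hsame : ((pullA A e).obj F).obj.map (toBC e (bcMap c.w a₁ ha₁) (bcMap_w c.w a₁ ha₁)).op (pullSect e F t₁) =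
        ((pullA A e).obj F).obj.map (toBC e (bcMap c.w a₁ ha₁) (bcMap_w c.w a₁ ha₁)).op (pullSect e F t₂) := by
      rw [← beta_toBC c F β hβ a₁ ha₁ t₁, ← beta_toBC c F β hβ a₁ ha₁ t₂]
      refine (NatTrans.naturality_apply β.hom _ _).trans (Eq.trans ?_ (NatTrans.naturality_apply β.hom _ _).symm)
      rw [hk']
      exact hk
    let m : ((EtCoh.bc a).obj W).left ⟶ ((EtCoh.bc f).obj (down v W)).left :=
      pullback.lift (pullback.fst W.hom a) (pullback.snd W.hom a ≫ u) (by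
        show pullback.fst W.hom a ≫ W.hom ≫ v = _
        rw [pullback.condition_assoc, hau, Category.assoc])
    let cB : Spec (CommRingCat.of Ω) ⟶ ((EtCoh.bc a).obj W).left := pullback.lift bW η' hbW
    have hcB : cB ≫ m = cc := by
      refine pullback.hom_ext ?_ ?_
      · rw [Category.assoc, pullback.lift_fst, pullback.lift_fst]
        exact (pullback.lift_fst _ _ _).symm
      · rw [Category.assoc, pullback.lift_snd, pullback.lift_snd_assoc]
        exact (pullback.lift_snd _ _ _).symm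
    haveI : AlgebraicGeometry.Etale k.left := etale_left k
    haveI : AlgebraicGeometry.Etale ((EtCoh.bc a).obj W).hom := ((EtCoh.bc a).obj W).prop
    let U₂ : Us.Etale := Scheme.Etale.mk (pullback.snd k.left m ≫ ((EtCoh.bc a).obj W).hom)
    let k₂ : U₂ ⟶ (EtCoh.bc a).obj W := MorphismProperty.Over.homMk (pullback.snd k.left m) rfl
    let a₂ : U₂.left ⟶ W.left := k₂.left ≫ pullback.fst W.hom a
    have ha₂ : a₂ ≫ W.hom = U₂.hom ≫ a := by
      refine (Category.assoc _ _ _).trans ?_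
      rw [pullback.condition, ← Category.assoc]
      rfl
    have hk₂ : toBC a a₂ ha₂ = k₂ := MorphismProperty.Over.Hom.ext
      (pullback.hom_ext (pullback.lift_fst _ _ _) ((pullback.lift_snd _ _ _).trans (MorphismProperty.Over.w k₂).symm))
    let z₂ : Spec (CommRingCat.of Ω) ⟶ U₂.left := pullback.lift z₁ cB (hz₁.trans hcB.symm)
    have hz₂ : z₂ ≫ k₂.left = cB := pullback.lift_snd _ _ _
    have hz₂' : z₂ ≫ U₂.hom = η' := by
      rw [← MorphismProperty.Over.w k₂, ← Category.assoc, hz₂]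
      exact pullback.lift_snd _ _ _
    have hsame' : Di.obj.map (toBC ei (bcMap cY.w a₂ ha₂) (bcMap_w cY.w a₂ ha₂)).op
          (pullSect ei ((pullA A ti).obj F) (T' W t₁)) =
        Di.obj.map (toBC ei (bcMap cY.w a₂ ha₂) (bcMap_w cY.w a₂ ha₂)).op
          (pullSect ei ((pullA A ti).obj F) (T' W t₂)) := by
      refine section_ext Di _ _ fun Ω' _ _ ζ zz hzz => ?_
      obtain ⟨b, hb, hbz, e₁⟩ := hpt a₂ ha₂ t₁ Ω' ζ zz hzz
      obtain ⟨b', hb', hbz', e₂⟩ := hpt a₂ ha₂ t₂ Ω' ζ zz hzz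
      obtain rfl : b = b' := hbz.trans hbz'.symm
      rw [e₁, e₂]
      let ζY := ζ ≫ toTotal c hau cT cY
      have hζY : ζY ≫ e = (ζ ≫ ei) ≫ ti := by
        rw [Category.assoc, toTotal_e, ← Category.assoc]
      let zY : Spec (CommRingCat.of Ω') ⟶ ((EtCoh.bc h).obj U₁).left :=
        pullback.lift (zz ≫ pullback.fst U₂.hom hi ≫ pullback.fst k.left m) ζY (by
          show _ = (ζ ≫ toTotal c hau cT cY) ≫ h
          rw [← hzz]
          simp only [Category.assoc, toTotal_h]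
          show zz ≫ pullback.fst U₂.hom hi ≫ pullback.fst k.left m ≫ U₁.hom = _
          rw [← MorphismProperty.Over.w k, pullback.condition_assoc (f := k.left)]
          show _ = zz ≫ pullback.snd U₂.hom hi ≫ hi ≫ u
          rw [← pullback.condition_assoc (f := U₂.hom)]
          show zz ≫ pullback.fst U₂.hom hi ≫ pullback.snd k.left m ≫ m ≫ pullback.snd (down v W).hom f =
            zz ≫ pullback.fst U₂.hom hi ≫ (pullback.snd k.left m ≫ pullback.snd W.hom a) ≫ u
          rw [pullback.lift_snd, Category.assoc])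
      have hzY : zY ≫ ((EtCoh.bc h).obj U₁).hom = ζY := pullback.lift_snd _ _ _
      have hbY : zY ≫ bcMap c.w a₁ ha₁ = b := by
        refine pullback.hom_ext ?_ ?_
        · rw [Category.assoc, bcMap_fst, hbz, Category.assoc, Category.assoc, downBC_fst, bcMap_fst]
          show zY ≫ pullback.fst U₁.hom h ≫ k.left ≫ pullback.fst (down v W).hom f =
            zz ≫ pullback.fst U₂.hom hi ≫ pullback.snd k.left m ≫ pullback.fst W.hom a
          rw [pullback.lift_fst_assoc, Category.assoc, Category.assoc, pullback.condition_assoc, pullback.lift_fst]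
        · refine Eq.trans ?_ hb.symm
          exact (Category.assoc _ _ _).trans ((congrArg (zY ≫ ·) (bcMap_w c.w a₁ ha₁)).trans
            ((Category.assoc _ _ _).symm.trans ((congrArg (· ≫ e) hzY).trans hζY)))
      have := congrArg (fun x => germ ((pullA A e).obj F) x ζY zY hzY) hsame
      replace this : germ _ _ ζY zY hzY = germ _ _ ζY zY hzY := this
      rw [germ_toBC e F (bcMap c.w a₁ ha₁) (bcMap_w c.w a₁ ha₁) t₁ ζY _ hζY zY hzY b hb hbY,
        germ_toBC e F (bcMap c.w a₁ ha₁) (bcMap_w c.w a₁ ha₁) t₂ ζY _ hζY zY hzY b hb hbY] at this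
      rw [toPullStalk_injective e F ζY _ hζY this]
    have e₃ : toPullStalk a Gi η' (η' ≫ a) rfl (germ Gi (T' W t₁) (η' ≫ a) bW hbW) =
        toPullStalk a Gi η' (η' ≫ a) rfl (germ Gi (T' W t₂) (η' ≫ a) bW hbW) := by
      have hg : ∀ t, toPullStalk a Gi η' (η' ≫ a) rfl (germ Gi (T' W t) (η' ≫ a) bW hbW) =
          (Scheme.pointSmallEtale η').toPresheafFiber U₂ (CategoryTheory.Over.homMk z₂ hz₂')
            ((pullA A a).obj Gi).obj (((pullA A a).obj Gi).obj.map (toBC a a₂ ha₂).op (pullSect a Gi (T' W t))) := by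
        intro t
        refine (germ_toBC a Gi a₂ ha₂ (T' W t) η' _ rfl z₂ hz₂' bW hbW ?_).symm
        show z₂ ≫ k₂.left ≫ pullback.fst W.hom a = bW
        rw [← Category.assoc, hz₂]
        exact pullback.lift_fst _ _ _
      rw [hg, hg]
      refine hbi.1 ?_
      refine (((Scheme.pointSmallEtale η').toPresheafFiber_naturality_apply βi.hom _ _ _).trans ?_).trans
        ((Scheme.pointSmallEtale η').toPresheafFiber_naturality_apply βi.hom _ _ _).symm
      rw [beta_toBC cY ((pullA A ti).obj F) βi hβi a₂ ha₂, beta_toBC cY ((pullA A ti).obj F) βi hβi a₂ ha₂, hsame']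
    obtain ⟨W₃, k₃, z₃, hz₃, hk₃⟩ := ((Scheme.pointSmallEtale (η' ≫ a)).toPresheafFiber_eq_iff' W
      (CategoryTheory.Over.homMk bW hbW) (T' W t₁) (T' W t₂)).1 (toPullStalk_injective a Gi η' _ rfl e₃)
    have h3 : F.obj.map ((EtCoh.bc g).map (downMap k₃)).op t₁ = F.obj.map ((EtCoh.bc g).map (downMap k₃)).op t₂ :=
      (bijective_down cT F W₃).1 ((map_down cT F k₃ t₁).trans (hk₃.trans (map_down cT F k₃ t₂).symm))
    refine congrArg _ ?_
    let z3 : Spec (CommRingCat.of Ω) ⟶ W₃.left := z₃.left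
    have hz3 : z3 ≫ W₃.hom = η' ≫ a := CategoryTheory.Over.w z₃
    have hb3 : z3 ≫ (down v W₃).hom = (η' ≫ u) ≫ f := by
      show z3 ≫ W₃.hom ≫ v = _
      rw [← Category.assoc, hz3, Category.assoc, hau, Category.assoc]
    have hb3' : z3 ≫ (downMap (v := v) k₃).left = bW :=
      congrArg CommaMorphism.left hz₃
    rw [← germ_map G (downMap k₃) t₁ _ _ hb3 bW hbD hb3', ← germ_map G (downMap k₃) t₂ _ _ hb3 bW hbD hb3']
    exact congrArg (fun t => germ G t _ z3 hb3) h3
  · intro q₀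
    obtain ⟨U₀, z, σ, rfl⟩ := (Scheme.pointSmallEtale (η' ≫ u)).toPresheafFiber_jointly_surjective q₀
    let z₀ : Spec (CommRingCat.of Ω) ⟶ U₀.left := z.left
    have hz₀ : z₀ ≫ U₀.hom = η' ≫ u := CategoryTheory.Over.w z
    haveI : AlgebraicGeometry.Etale U₀.hom := U₀.prop
    let U₂ : Us.Etale := Scheme.Etale.mk (pullback.snd U₀.hom u)
    let z₂ : Spec (CommRingCat.of Ω) ⟶ U₂.left := pullback.lift z₀ η' hz₀
    have hz₂ : z₂ ≫ U₂.hom = η' := pullback.lift_snd _ _ _
    let q₂ : ((EtCoh.bc hi).obj U₂).left ⟶ ((EtCoh.bc h).obj U₀).left :=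
      pullback.lift (pullback.fst U₂.hom hi ≫ pullback.fst U₀.hom u)
        (pullback.snd U₂.hom hi ≫ toTotal c hau cT cY) (by
          rw [Category.assoc, Category.assoc, toTotal_h, pullback.condition, ← pullback.condition_assoc]
          rfl)
    obtain ⟨σ', hσ'⟩ := exists_transfer c hau cT cY F ((EtCoh.bc h).obj U₀) σ ((EtCoh.bc hi).obj U₂) q₂
      (pullback.lift_snd _ _ _)
    obtain ⟨p, hp⟩ := hbi.2 ((Scheme.pointSmallEtale η').toPresheafFiber U₂ (CategoryTheory.Over.homMk z₂ hz₂)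
      ((pushA A hi).obj Di).obj σ')
    obtain ⟨W, τ', bW, hbW, rfl⟩ := exists_germ_eq a Gi η' (η' ≫ a) rfl p
    obtain ⟨τ, hτ⟩ := (bijective_down cT F W).2 τ'
    have hbD : bW ≫ (down v W).hom = (η' ≫ u) ≫ f :=
      (Category.assoc _ _ _).symm.trans (by rw [hbW, Category.assoc, hau, Category.assoc])
    refine ⟨toPullStalk f G (η' ≫ u) ((η' ≫ u) ≫ f) rfl (germ G τ _ bW hbD), ?_⟩
    let cB : Spec (CommRingCat.of Ω) ⟶ ((EtCoh.bc a).obj W).left := pullback.lift bW η' hbW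
    have hcB : cB ≫ ((EtCoh.bc a).obj W).hom = η' := pullback.lift_snd _ _ _
    rw [← germ_pullSect a Gi η' (η' ≫ a) rfl τ' cB hcB bW hbW (pullback.lift_fst _ _ _)] at hp
    let cB' : (Scheme.pointSmallEtale η').fiber.obj ((EtCoh.bc a).obj W) := CategoryTheory.Over.homMk cB hcB
    have hp' := ((Scheme.pointSmallEtale η').toPresheafFiber_naturality_apply βi.hom _
      cB' (pullSect a Gi τ')).symm.trans hp
    let P := prodEt ((EtCoh.bc a).obj W) U₂
    let zP : Spec (CommRingCat.of Ω) ⟶ P.left := pullback.lift cB z₂ (hcB.trans hz₂.symm)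
    have hzP : zP ≫ P.hom = η' :=
      (Category.assoc _ _ _).symm.trans ((congrArg (· ≫ _) (pullback.lift_fst _ _ _)).trans hcB)
    obtain ⟨U₃, k, z', hz', hk⟩ := ((Scheme.pointSmallEtale η').toPresheafFiber_eq_iff' P
      (CategoryTheory.Over.homMk zP hzP)
      (((pushA A hi).obj Di).obj.map (prodEtFst _ U₂).op (βi.hom.app (op ((EtCoh.bc a).obj W)) (pullSect a Gi τ')))
      (((pushA A hi).obj Di).obj.map (prodEtSnd _ U₂).op σ')).1 (by
        refine Eq.trans ?_ (hp'.trans ?_)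
        · exact germ_map ((pushA A hi).obj Di) (prodEtFst _ U₂) _ η' zP hzP cB hcB (pullback.lift_fst _ _ _)
        · exact (germ_map ((pushA A hi).obj Di) (prodEtSnd _ U₂) _ η' zP hzP z₂ hz₂ (pullback.lift_snd _ _ _)).symm)
    let z₃ : Spec (CommRingCat.of Ω) ⟶ U₃.left := z'.left
    have hz₃ : z₃ ≫ k.left = zP := congrArg CommaMorphism.left hz'
    let kW : U₃ ⟶ (EtCoh.bc a).obj W := k ≫ prodEtFst _ U₂
    let kU : U₃ ⟶ U₂ := k ≫ prodEtSnd _ U₂
    let a₃ : U₃.left ⟶ W.left := kW.left ≫ pullback.fst W.hom a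
    have ha₃ : a₃ ≫ W.hom = U₃.hom ≫ a := by
      refine (Category.assoc _ _ _).trans ?_
      rw [pullback.condition, ← Category.assoc]
      exact congrArg (· ≫ a) (MorphismProperty.Over.w kW)
    have hkW : toBC a a₃ ha₃ = kW := MorphismProperty.Over.Hom.ext
      (pullback.hom_ext (pullback.lift_fst _ _ _) ((pullback.lift_snd _ _ _).trans (MorphismProperty.Over.w kW).symm))
    have hloc : Di.obj.map (toBC ei (bcMap cY.w a₃ ha₃) (bcMap_w cY.w a₃ ha₃)).op
          (pullSect ei ((pullA A ti).obj F) (T' W τ)) = ((pushA A hi).obj Di).obj.map kU.op σ' := by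
      rw [show T' W τ = τ' from hτ, ← beta_toBC cY ((pullA A ti).obj F) βi hβi a₃ ha₃]
      refine (NatTrans.naturality_apply βi.hom _ _).trans ?_
      rw [hkW, op_comp, op_comp, Functor.map_comp, Functor.map_comp, ConcreteCategory.comp_apply,
        ConcreteCategory.comp_apply]
      exact hk
    haveI : AlgebraicGeometry.Etale U₃.hom := U₃.prop
    let U₄ : X.Etale := Scheme.Etale.mk (U₃.hom ≫ u)
    let l : U₄ ⟶ U₀ := MorphismProperty.Over.homMk (kU.left ≫ pullback.fst U₀.hom u) (by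
      show (kU.left ≫ pullback.fst U₀.hom u) ≫ U₀.hom = U₃.hom ≫ u
      rw [Category.assoc, pullback.condition, ← MorphismProperty.Over.w kU, Category.assoc]
      rfl)
    have ha₄ : (a₃ : U₄.left ⟶ (down v W).left) ≫ (down v W).hom = U₄.hom ≫ f := by
      show a₃ ≫ W.hom ≫ v = (U₃.hom ≫ u) ≫ f
      rw [← Category.assoc, ha₃, Category.assoc, hau, Category.assoc]
    have hmain : ((pullA A e).obj F).obj.map (toBC e (bcMap c.w (U := U₄) (V := down v W) a₃ ha₄)
          (bcMap_w c.w (U := U₄) (V := down v W) a₃ ha₄)).op (pullSect e F τ) =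
        ((pushA A h).obj ((pullA A e).obj F)).obj.map l.op σ := by
      refine section_ext ((pullA A e).obj F) (U := (EtCoh.bc h).obj U₄) _ _ fun Ω' _ _ ζY zz hzz => ?_
      let ω : Spec (CommRingCat.of Ω') ⟶ U₃.left := zz ≫ pullback.fst U₄.hom h
      have hω : (ω ≫ U₃.hom) ≫ u = ζY ≫ h := by
        rw [← hzz, Category.assoc, Category.assoc zz]
        exact congrArg (zz ≫ ·) pullback.condition
      let ζ : Spec (CommRingCat.of Ω') ⟶ Yi := cY.lift
        (cT.lift (ζY ≫ e) ((ω ≫ U₃.hom) ≫ a) (by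
          rw [Category.assoc, c.w, ← Category.assoc, ← hω]; simp only [Category.assoc, hau]))
        (ω ≫ U₃.hom) (cT.lift_snd _ _ _)
      have hζ₁ : (ζ ≫ ei) ≫ ti = ζY ≫ e := by rw [cY.lift_fst, cT.lift_fst]
      have hζ₂ : ζ ≫ hi = ω ≫ U₃.hom := cY.lift_snd _ _ _
      have hζt : ζ ≫ toTotal c hau cT cY = ζY := by
        refine c.hom_ext ?_ ?_
        · rw [Category.assoc, toTotal_e, ← Category.assoc, hζ₁]
        · rw [Category.assoc, toTotal_h, ← Category.assoc, hζ₂, hω]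
      let zi : Spec (CommRingCat.of Ω') ⟶ ((EtCoh.bc hi).obj U₃).left := pullback.lift ω ζ hζ₂.symm
      have hzi : zi ≫ ((EtCoh.bc hi).obj U₃).hom = ζ := pullback.lift_snd _ _ _
      obtain ⟨b, hb, hbz, e₁⟩ := hpt a₃ ha₃ τ Ω' ζ zi hzi
      have hb' : b ≫ ((EtCoh.bc g).obj (down v W)).hom = ζY ≫ e := hb.trans hζ₁
      have hbY : zz ≫ bcMap c.w (U := U₄) (V := down v W) a₃ ha₄ = b := by
        refine pullback.hom_ext ?_ ?_
        · rw [Category.assoc, bcMap_fst, hbz, Category.assoc, Category.assoc, downBC_fst, bcMap_fst,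
            pullback.lift_fst_assoc, Category.assoc]
        · refine Eq.trans ?_ hb'.symm
          exact (Category.assoc _ _ _).trans ((congrArg (zz ≫ ·) (bcMap_w c.w (U := U₄) (V := down v W) a₃ ha₄)).trans
            ((Category.assoc _ _ _).symm.trans (congrArg (· ≫ e) hzz)))
      have hl : (zz ≫ ((EtCoh.bc h).map l).left) ≫ ((EtCoh.bc h).obj U₀).hom = ζY :=
        (Category.assoc _ _ _).trans ((congrArg (zz ≫ ·) (MorphismProperty.Over.w ((EtCoh.bc h).map l))).trans hzz)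
      have hi₂ : (zi ≫ ((EtCoh.bc hi).map kU).left) ≫ ((EtCoh.bc hi).obj U₂).hom = ζ :=
        (Category.assoc _ _ _).trans ((congrArg (zi ≫ ·) (MorphismProperty.Over.w ((EtCoh.bc hi).map kU))).trans hzi)
      have hq : (zi ≫ ((EtCoh.bc hi).map kU).left) ≫ q₂ = zz ≫ ((EtCoh.bc h).map l).left := by
        refine pullback.hom_ext ?_ ?_
        · rw [Category.assoc, pullback.lift_fst, ← Category.assoc, Category.assoc zi]
          show (zi ≫ pullback.lift _ _ _ ≫ pullback.fst U₂.hom hi) ≫ pullback.fst U₀.hom u =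
            (zz ≫ pullback.lift _ _ _) ≫ pullback.fst U₀.hom h
          rw [pullback.lift_fst, Category.assoc zz, pullback.lift_fst, pullback.lift_fst_assoc]
          show (ω ≫ kU.left) ≫ pullback.fst U₀.hom u = zz ≫ pullback.fst U₄.hom h ≫ kU.left ≫ pullback.fst U₀.hom u
          simp only [ω, Category.assoc]
        · rw [Category.assoc, pullback.lift_snd, ← Category.assoc]
          exact ((congrArg (· ≫ toTotal c hau cT cY) hi₂).trans hζt).trans hl.symm
      obtain ⟨π, hπ⟩ := toPullStalk_surjective e F ζY (ζY ≫ e) rfl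
        (germ ((pullA A e).obj F) σ ζY (zz ≫ ((EtCoh.bc h).map l).left) hl)
      have e₂ := hσ' Ω' ζ (ζY ≫ e) hζ₁ _ hi₂ ζY rfl (by rw [hq]; exact hl) π (by
        rw [hπ]; congr 1)
      have e₀ : germ Di (((pushA A hi).obj Di).obj.map kU.op σ') ζ zi hzi =
          germ Di σ' ζ (zi ≫ ((EtCoh.bc hi).map kU).left) hi₂ :=
        germ_map Di ((EtCoh.bc hi).map kU) σ' ζ zi hzi _ hi₂ rfl
      rw [hloc, e₀, e₂] at e₁
      refine (germ_toBC e F (bcMap c.w (U := U₄) (V := down v W) a₃ ha₄)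
        (bcMap_w c.w (U := U₄) (V := down v W) a₃ ha₄) τ ζY _ rfl zz hzz b hb' hbY).trans ?_
      refine Eq.trans ?_ (germ_map ((pullA A e).obj F) ((EtCoh.bc h).map l) σ ζY zz hzz _ hl rfl).symm
      rw [← hπ]
      congr 1
      have e₄ := toPullStalk_injective ei _ _ _ rfl e₁
      have key : ∀ (ξ : Spec (CommRingCat.of Ω') ⟶ T) (hξ : (ζ ≫ ei) ≫ ti = ξ)
          (hbξ : b ≫ ((EtCoh.bc g).obj (down v W)).hom = ξ),
          toPullStalk ti F (ζ ≫ ei) ξ hξ (germ F τ ξ b hbξ) =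
            toPullStalk ti F (ζ ≫ ei) _ rfl (germ F τ _ b hb) := by
        intro ξ hξ hbξ
        subst hξ
        rfl
      rw [← key (ζY ≫ e) hζ₁ hb'] at e₄
      exact (toPullStalk_injective ti F _ _ _ e₄).symm
    have hz₄ : z₃ ≫ U₄.hom = η' ≫ u := by
      show z₃ ≫ U₃.hom ≫ u = _
      rw [← Category.assoc, show z₃ ≫ U₃.hom = η' from CategoryTheory.Over.w z']
    have hz₃W : z₃ ≫ a₃ = bW := by
      show z₃ ≫ (k.left ≫ (prodEtFst _ U₂).left) ≫ pullback.fst W.hom a = bW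
      rw [← Category.assoc, ← Category.assoc z₃, hz₃]
      show (zP ≫ pullback.fst _ _) ≫ _ = bW
      rw [pullback.lift_fst, pullback.lift_fst]
    have hz₃U : z₃ ≫ l.left = z₀ := by
      show z₃ ≫ (k.left ≫ (prodEtSnd _ U₂).left) ≫ pullback.fst U₀.hom u = z₀
      rw [← Category.assoc, ← Category.assoc z₃, hz₃]
      show (zP ≫ pullback.snd _ _) ≫ _ = z₀
      rw [pullback.lift_snd, pullback.lift_fst]
    let z₄ : (Scheme.pointSmallEtale (η' ≫ u)).fiber.obj U₄ := CategoryTheory.Over.homMk z₃ hz₄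
    have hzz : (Scheme.pointSmallEtale (η' ≫ u)).fiber.map l z₄ = z := CategoryTheory.Over.OverMorphism.ext hz₃U
    rw [← hzz, ← germ_toBC f G (W := U₄) (T' := down v W) a₃ ha₄ τ (η' ≫ u) _ rfl z₃ hz₄ bW hbD hz₃W]
    refine ((Scheme.pointSmallEtale (η' ≫ u)).toPresheafFiber_naturality_apply β.hom U₄ z₄ _).trans ?_
    rw [beta_toBC c F β hβ (U := U₄) (V := down v W) a₃ ha₄ τ, hmain]
    exact (Scheme.pointSmallEtale (η' ≫ u)).toPresheafFiber_w_apply l z₄ _ σ

end

end Groth.Agent.H0FBC
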