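import Groth.Agent.H0PBC.Pull
import Groth.Agent.H0PBC.FieldFibre

/-!
# Sections descend along flat morphisms with geometrically connected fibres
-/

set_option autoImplicit false
set_option linter.style.haveILetI false
set_option linter.unusedSectionVars false
set_option backward.isDefEq.respectTransparency false
set_option backward.isDefEq.respectTransparency.types false
universe u

open CategoryTheory CategoryTheory.Limits AlgebraicGeometry TopologicalSpace Opposite

namespace Groth.Agent.H0FBC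

open H0PBC EtFound

/-- a geometric point above a point of a scheme over a separably closed field -/
theorem exists_geom_lift {W T : Scheme.{u}} (a : W ⟶ T) [Surjective a] {Ω : Type u} [Field Ω]
    (b : Spec (CommRingCat.of Ω) ⟶ T) :
    ∃ (Ω' : Type u) (_ : Field Ω') (_ : IsSepClosed Ω') (c : Spec (CommRingCat.of Ω') ⟶ W)
      (l : Spec (CommRingCat.of Ω') ⟶ Spec (CommRingCat.of Ω)), c ≫ a = l ≫ b := by
  obtain ⟨w, hw⟩ := a.surjective (b default)
  obtain ⟨z, -, -⟩ := Scheme.Pullback.exists_preimage_pullback (f := a) (g := b) w default hw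
  obtain ⟨Ω', _, _, τ, -⟩ := H0PBC.exists_geom_point z
  exact ⟨Ω', inferInstance, inferInstance, τ ≫ pullback.fst a b, τ ≫ pullback.snd a b, by
    rw [Category.assoc, Category.assoc, pullback.condition]⟩

theorem isQuotientMap_fst {P Q S : Scheme.{u}} (p : P ⟶ S) (q : Q ⟶ S) [Flat q] [Surjective q]
    (h : QuasiCompact q ∨ UniversallyOpen q) : Topology.IsQuotientMap (pullback.fst p q) := by
  rcases h with h | h
  · exact Flat.isQuotientMap_of_surjective _
  · exact IsOpenMap.isQuotientMap (pullback.fst p q).isOpenMap (pullback.fst p q).continuous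
      (pullback.fst p q).surjective

theorem lift_default_comp {P Q S : Scheme.{u}} {p : P ⟶ S} {q : Q ⟶ S} {Ω Ω' : Type u} [Field Ω] [Field Ω']
    (l : Spec (CommRingCat.of Ω') ⟶ Spec (CommRingCat.of Ω)) (b : Spec (CommRingCat.of Ω) ⟶ P)
    (b' : Spec (CommRingCat.of Ω) ⟶ Q) (h : b ≫ p = b' ≫ q) (h' : (l ≫ b) ≫ p = (l ≫ b') ≫ q) :
    pullback.lift (l ≫ b) (l ≫ b') h' default = pullback.lift b b' h default := by
  have : pullback.lift (l ≫ b) (l ≫ b') h' = l ≫ pullback.lift b b' h := by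
    refine pullback.hom_ext ?_ ?_
    · rw [pullback.lift_fst, Category.assoc, pullback.lift_fst]
    · rw [pullback.lift_snd, Category.assoc, pullback.lift_snd]
  rw [this, Scheme.Hom.comp_apply, Subsingleton.elim (l default) default]

variable {Y T : Scheme.{u}} {A : Type (u + 2)} [Category.{u + 1} A] [HasColimitsOfSize.{u, u} A]
  [HasProducts.{u} A]
  [∀ {P Q : Scheme.{u}} (h : P ⟶ Q),
    ((EtCoh.bc h).sheafPushforwardContinuous A Q.smallEtaleTopology P.smallEtaleTopology).IsRightAdjoint]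
  {FA : A → A → Type*} {CA : A → Type (u + 1)}
  [∀ M N, FunLike (FA M N) (CA M) (CA N)] [ConcreteCategory.{u + 1} A FA]
  [PreservesFilteredColimitsOfSize.{u, u} (forget A)]
  [∀ Z : Scheme.{u}, Z.smallEtaleTopology.HasSheafCompose (forget A)]
  (e : Y ⟶ T) (G : Sheaf T.smallEtaleTopology A)

section

variable {T' : T.Etale} {W : Y.Etale} (a : W.left ⟶ T'.left) (ha : a ≫ T'.hom = W.hom ≫ e)

/-- the comparison morphism `W ⟶ T' ×_T Y` -/
noncomputable def toBC : W ⟶ (EtCoh.bc e).obj T' :=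
  MorphismProperty.Over.homMk (pullback.lift a W.hom ha) (pullback.lift_snd _ _ _)

theorem germ_toBC (τ : ToType (G.obj.obj (op T'))) {Ω : Type u} [Field Ω] [IsSepClosed Ω]
    (ζ : Spec (CommRingCat.of Ω) ⟶ Y) (ξ : Spec (CommRingCat.of Ω) ⟶ T) (hξ : ζ ≫ e = ξ)
    (c : Spec (CommRingCat.of Ω) ⟶ W.left) (hc : c ≫ W.hom = ζ)
    (b : Spec (CommRingCat.of Ω) ⟶ T'.left) (hb : b ≫ T'.hom = ξ) (hcb : c ≫ a = b) :
    germ ((pullA A e).obj G) (((pullA A e).obj G).obj.map (toBC e a ha).op (pullSect e G τ)) ζ c hc =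
      toPullStalk e G ζ ξ hξ (germ G τ ξ b hb) := by
  have h1 : (c ≫ (toBC e a ha).left) ≫ ((EtCoh.bc e).obj T').hom = ζ := by
    rw [Category.assoc, MorphismProperty.Over.w (toBC e a ha)]
    exact hc
  rw [germ_map ((pullA A e).obj G) (toBC e a ha) (pullSect e G τ) ζ c hc _ h1 rfl]
  exact germ_pullSect e G ζ ξ hξ τ _ h1 b hb ((Category.assoc _ _ _).trans
    ((congrArg (c ≫ ·) (pullback.lift_fst _ _ _)).trans hcb))

/-- sections of `G` on `T'` inject in those of its inverse image on a scheme surjecting to `T'` -/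
theorem eq_of_pullSect_eq [Surjective a] (τ₁ τ₂ : ToType (G.obj.obj (op T')))
    (h : ((pullA A e).obj G).obj.map (toBC e a ha).op (pullSect e G τ₁) =
      ((pullA A e).obj G).obj.map (toBC e a ha).op (pullSect e G τ₂)) : τ₁ = τ₂ := by
  refine section_ext G τ₁ τ₂ fun Ω _ _ ξ b hb => ?_
  obtain ⟨Ω', _, _, c, l, hl⟩ := exists_geom_lift a b
  have hb' : (l ≫ b) ≫ T'.hom = l ≫ ξ := by rw [Category.assoc, hb]
  have hξ : (c ≫ W.hom) ≫ e = l ≫ ξ := by rw [Category.assoc, ← ha, ← Category.assoc, hl, hb']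
  refine (mem_eqLocus_iff G τ₁ τ₂ ξ b hb).1 ?_
  have := (mem_eqLocus_iff G τ₁ τ₂ (l ≫ ξ) (l ≫ b) hb').2 (toPullStalk_injective e G (c ≫ W.hom) (l ≫ ξ) hξ
    (by rw [← germ_toBC e G a ha τ₁ _ _ hξ c rfl _ hb' hl, ← germ_toBC e G a ha τ₂ _ _ hξ c rfl _ hb' hl, h]))
  rwa [Scheme.Hom.comp_apply, Subsingleton.elim (l default) default] at this

/-- the inverse image of an etale scheme over `T'` in `W` -/
noncomputable def W₁ (U : T.Etale) (k : U ⟶ T') : Y.Etale :=
  have : AlgebraicGeometry.Etale k.left := etale_left k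
  have : AlgebraicGeometry.Etale W.hom := W.prop
  Scheme.Etale.mk (pullback.snd k.left a ≫ W.hom)

/-- the projection to `W` -/
noncomputable def W₁Hom (U : T.Etale) (k : U ⟶ T') : W₁ a U k ⟶ W :=
  MorphismProperty.Over.homMk (pullback.snd k.left a) rfl

include ha in
theorem W₁_w (U : T.Etale) (k : U ⟶ T') :
    pullback.fst k.left a ≫ U.hom = (W₁ a U k).hom ≫ e := by
  show _ = (pullback.snd k.left a ≫ W.hom) ≫ e
  rw [Category.assoc, ← ha, ← pullback.condition_assoc, MorphismProperty.Over.w k]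

variable (σ : ToType (((pullA A e).obj G).obj.obj (op W)))

/-- where `σ` comes from the section `s` -/
noncomputable def locus {U : T.Etale} (k : U ⟶ T') (s : ToType (G.obj.obj (op U))) : (pullback k.left a).Opens :=
  eqLocus ((pullA A e).obj G)
    (((pullA A e).obj G).obj.map (toBC e (W := W₁ a U k) (pullback.fst k.left a) (W₁_w e a ha U k)).op
      (pullSect e G s))
    (((pullA A e).obj G).obj.map (W₁Hom a U k).op σ)

theorem mem_locus_iff {U : T.Etale} (k : U ⟶ T') (s : ToType (G.obj.obj (op U))) {Ω : Type u} [Field Ω]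
    [IsSepClosed Ω] (ζ : Spec (CommRingCat.of Ω) ⟶ Y) (ξ : Spec (CommRingCat.of Ω) ⟶ T) (hξ : ζ ≫ e = ξ)
    (p : Spec (CommRingCat.of Ω) ⟶ pullback k.left a)
    (b : Spec (CommRingCat.of Ω) ⟶ U.left) (hb : b ≫ U.hom = ξ) (hpb : p ≫ pullback.fst k.left a = b)
    (c : Spec (CommRingCat.of Ω) ⟶ W.left) (hc : c ≫ W.hom = ζ) (hpc : p ≫ pullback.snd k.left a = c) :
    p default ∈ locus e G a ha σ k s ↔
      toPullStalk e G ζ ξ hξ (germ G s ξ b hb) = germ ((pullA A e).obj G) σ ζ c hc := by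
  have hp : p ≫ (W₁ a U k).hom = ζ := by
    show p ≫ pullback.snd k.left a ≫ W.hom = ζ
    rw [← Category.assoc, hpc, hc]
  refine (mem_eqLocus_iff (W := W₁ a U k) ((pullA A e).obj G) _ _ ζ p hp).trans ?_
  rw [germ_toBC e G (W := W₁ a U k) (pullback.fst k.left a) (W₁_w e a ha U k) s ζ ξ hξ p hp b hb hpb,
    germ_map ((pullA A e).obj G) (W₁Hom a U k) σ ζ p hp c hc hpc]

section

variable {Z : Scheme.{u}} (j : Z ⟶ W.left)

/-- the inverse image of an etale scheme over `T'` in `Z`, mapped to the one in `W` -/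
noncomputable def toW₁ {U : T.Etale} (k : U ⟶ T') : pullback k.left (j ≫ a) ⟶ pullback k.left a :=
  pullback.lift (pullback.fst k.left (j ≫ a)) (pullback.snd k.left (j ≫ a) ≫ j)
    (pullback.condition.trans (Category.assoc _ _ _).symm)

/-- where `σ` comes from the section `s`, on `Z` -/
noncomputable def locusOn {U : T.Etale} (k : U ⟶ T') (s : ToType (G.obj.obj (op U))) :
    (pullback k.left (j ≫ a)).Opens :=
  toW₁ a j k ⁻¹ᵁ locus e G a ha σ k s

theorem mem_locusOn_iff {U : T.Etale} (k : U ⟶ T') (s : ToType (G.obj.obj (op U))) {Ω : Type u} [Field Ω]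
    [IsSepClosed Ω] (ζ : Spec (CommRingCat.of Ω) ⟶ Y) (ξ : Spec (CommRingCat.of Ω) ⟶ T) (hξ : ζ ≫ e = ξ)
    (p : Spec (CommRingCat.of Ω) ⟶ pullback k.left (j ≫ a))
    (b : Spec (CommRingCat.of Ω) ⟶ U.left) (hb : b ≫ U.hom = ξ) (hpb : p ≫ pullback.fst k.left (j ≫ a) = b)
    (c : Spec (CommRingCat.of Ω) ⟶ Z) (hc : (c ≫ j) ≫ W.hom = ζ) (hpc : p ≫ pullback.snd k.left (j ≫ a) = c) :
    p default ∈ locusOn e G a ha σ j k s ↔
      toPullStalk e G ζ ξ hξ (germ G s ξ b hb) = germ ((pullA A e).obj G) σ ζ (c ≫ j) hc := by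
  show toW₁ a j k (p default) ∈ locus e G a ha σ k s ↔ _
  rw [← Scheme.Hom.comp_apply]
  refine mem_locus_iff e G a ha σ k s ζ ξ hξ (p ≫ toW₁ a j k) b hb ?_ (c ≫ j) hc ?_
  · rw [Category.assoc, toW₁, pullback.lift_fst, hpb]
  · rw [Category.assoc, toW₁, pullback.lift_snd, ← Category.assoc, hpc]

variable [GeometricallyConnected (j ≫ a)]

include ha in
/-- the locus is a union of fibres -/
theorem locusOn_saturated {U : T.Etale} (k : U ⟶ T') (s : ToType (G.obj.obj (op U)))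
    (x y : ↥(pullback k.left (j ≫ a)))
    (hxy : pullback.fst k.left (j ≫ a) x = pullback.fst k.left (j ≫ a) y)
    (hx : x ∈ locusOn e G a ha σ j k s) : y ∈ locusOn e G a ha σ j k s := by
  by_contra hy
  let pr := pullback.fst k.left (j ≫ a)
  let C : Set ↥(pullback k.left (j ≫ a)) := pr ⁻¹' {pr x}
  let Et : Set ↥(pullback k.left (j ≫ a)) := (locusOn e G a ha σ j k s : Set _)
  let Bd : Set ↥(pullback k.left (j ≫ a)) := ⋃₀ {N | IsOpen N ∧ ∀ z ∈ N, z ∈ C → z ∉ Et}
  have hBo : IsOpen Bd := isOpen_sUnion fun N hN => hN.1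
  have hsub : C ⊆ Et ∪ Bd := by
    intro z hz
    by_cases hzE : z ∈ Et
    · exact .inl hzE
    refine .inr ?_
    obtain ⟨Ω, _, _, p, hp⟩ := H0PBC.exists_geom_point z
    let b := p ≫ pr
    let c := p ≫ pullback.snd k.left (j ≫ a)
    let ζ := (c ≫ j) ≫ W.hom
    let ξ := b ≫ U.hom
    have hbc : b ≫ k.left = (c ≫ j) ≫ a := by
      simp only [b, c, pr, Category.assoc, pullback.condition]
    have hξ : ζ ≫ e = ξ := by
      show ((c ≫ j) ≫ W.hom) ≫ e = b ≫ U.hom
      rw [Category.assoc, ← ha, ← Category.assoc, ← hbc, Category.assoc, MorphismProperty.Over.w k]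
    obtain ⟨U₂, s₂, b₂, hb₂, hgerm⟩ :=
      exists_germ_eq e G ζ ξ hξ (germ ((pullA A e).obj G) σ ζ (c ≫ j) rfl)
    let M := prodEt U U₂
    let kM : M ⟶ T' := prodEtFst U U₂ ≫ k
    let s₂' := G.obj.map (prodEtSnd U U₂).op s₂
    let D := agree G s s₂
    let m' : Spec (CommRingCat.of Ω) ⟶ M.left := pullback.lift b b₂ hb₂.symm
    have hm'₁ : m' ≫ (prodEtFst U U₂).left = b := pullback.lift_fst _ _ _
    have hmD : m' default ∉ D := fun hm => by
      refine hzE (hp ▸ ((mem_locusOn_iff e G a ha σ j k s ζ ξ hξ p b rfl rfl c rfl rfl).2 ?_))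
      rw [(mem_agree_iff G s s₂ ξ b rfl b₂ hb₂).1 hm, hgerm]
    haveI : AlgebraicGeometry.Etale (prodEtFst U U₂).left := etale_left _
    obtain ⟨O, hO, hOm⟩ := isDiscrete_iff_forall_exists_isOpen.1
      ((prodEtFst U U₂).left.isDiscrete_preimage_singleton (pr x)) (m' default) (by
        rw [Set.mem_preimage, ← Scheme.Hom.comp_apply, hm'₁, Scheme.Hom.comp_apply, hp]
        exact hz)
    let q₀ : pullback kM.left (j ≫ a) ⟶ pullback k.left (j ≫ a) :=
      pullback.lift (pullback.fst kM.left (j ≫ a) ≫ (prodEtFst U U₂).left) (pullback.snd kM.left (j ≫ a))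
        ((Category.assoc _ _ _).trans pullback.condition)
    have hq₁ : q₀ ≫ pr = pullback.fst kM.left (j ≫ a) ≫ (prodEtFst U U₂).left := pullback.lift_fst _ _ _
    have hq₂ : q₀ ≫ pullback.snd k.left (j ≫ a) = pullback.snd kM.left (j ≫ a) := pullback.lift_snd _ _ _
    haveI : AlgebraicGeometry.Etale k.left := etale_left k
    haveI : AlgebraicGeometry.Etale kM.left := etale_left kM
    haveI : AlgebraicGeometry.Etale q₀ := by
      haveI : AlgebraicGeometry.Etale (q₀ ≫ pullback.snd k.left (j ≫ a)) := by rw [hq₂]; infer_instance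
      exact AlgebraicGeometry.Etale.of_comp q₀ (pullback.snd k.left (j ≫ a))
    let P : Set ↥(pullback kM.left (j ≫ a)) :=
      (locusOn e G a ha σ j kM s₂' : Set _) ∩ pullback.fst kM.left (j ≫ a) ⁻¹' O
    have hPo : IsOpen P :=
      (locusOn e G a ha σ j kM s₂').2.inter (hO.preimage (pullback.fst kM.left (j ≫ a)).continuous)
    have hkM : m' ≫ kM.left = b ≫ k.left := by
      show m' ≫ (prodEtFst U U₂).left ≫ k.left = b ≫ k.left
      rw [← Category.assoc, hm'₁]
    let p' : Spec (CommRingCat.of Ω) ⟶ pullback kM.left (j ≫ a) := pullback.lift m' c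
      (hkM.trans (hbc.trans (Category.assoc _ _ _)))
    have hp'q : p' ≫ q₀ = p := by
      refine pullback.hom_ext ?_ ?_
      · rw [Category.assoc, hq₁, ← Category.assoc, pullback.lift_fst, hm'₁]
      · rw [Category.assoc, hq₂, pullback.lift_snd]
    have hm'ξ : m' ≫ M.hom = ξ :=
      (Category.assoc _ _ _).symm.trans (congrArg (· ≫ U.hom) (pullback.lift_fst _ _ _))
    have hg : germ G s₂' ξ m' hm'ξ = germ G s₂ ξ b₂ hb₂ :=
      germ_map G (prodEtSnd U U₂) s₂ ξ m' hm'ξ b₂ hb₂ (pullback.lift_snd _ _ _)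
    refine Set.mem_sUnion.2 ⟨q₀ '' P, ⟨q₀.isOpenMap _ hPo, ?_⟩, p' default, ⟨?_, ?_⟩, ?_⟩
    · rintro _ ⟨t, ⟨ht, htO⟩, rfl⟩ htC htE
      obtain ⟨Ω₃, _, _, τ, hτ⟩ := H0PBC.exists_geom_point t
      let μ := τ ≫ pullback.fst kM.left (j ≫ a)
      let c₃ := τ ≫ pullback.snd kM.left (j ≫ a)
      let ζ₃ := (c₃ ≫ j) ≫ W.hom
      let ξ₃ := μ ≫ M.hom
      have hξ₃ : ζ₃ ≫ e = ξ₃ := by
        show ((c₃ ≫ j) ≫ W.hom) ≫ e = μ ≫ M.hom
        rw [Category.assoc, ← ha, ← Category.assoc, Category.assoc c₃, Category.assoc τ,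
          ← pullback.condition, ← Category.assoc τ, Category.assoc, MorphismProperty.Over.w kM]
      have e₁ := (mem_locusOn_iff e G a ha σ j kM s₂' ζ₃ ξ₃ hξ₃ τ μ rfl rfl c₃ rfl rfl).1 (hτ.symm ▸ ht)
      have hb₃ : (μ ≫ (prodEtFst U U₂).left) ≫ U.hom = ξ₃ :=
        (Category.assoc _ _ _).trans (congrArg (μ ≫ ·) (MorphismProperty.Over.w _))
      have e₂ := (mem_locusOn_iff e G a ha σ j k s ζ₃ ξ₃ hξ₃ (τ ≫ q₀) (μ ≫ (prodEtFst U U₂).left) hb₃
        (by rw [Category.assoc, hq₁, ← Category.assoc]) c₃ rfl (by rw [Category.assoc, hq₂])).1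
        (by rw [Scheme.Hom.comp_apply, hτ]; exact htE)
      have hmem : pullback.fst kM.left (j ≫ a) t = m' default := hOm.le ⟨htO, by
        show (prodEtFst U U₂).left (pullback.fst kM.left (j ≫ a) t) = pr x
        rw [← Scheme.Hom.comp_apply, ← hq₁, Scheme.Hom.comp_apply]
        exact htC⟩
      refine hmD (hmem ▸ hτ ▸ ?_)
      rw [← Scheme.Hom.comp_apply]
      refine (mem_eqLocus_iff G _ _ ξ₃ μ rfl).2 ?_
      rw [germ_map G (prodEtFst U U₂) s ξ₃ μ rfl _ hb₃ rfl]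
      exact toPullStalk_injective e G ζ₃ ξ₃ hξ₃ (e₂.trans e₁.symm)
    · refine (mem_locusOn_iff e G a ha σ j kM s₂' ζ ξ hξ p' m' hm'ξ (pullback.lift_fst _ _ _) c rfl
        (pullback.lift_snd _ _ _)).2 ?_
      rw [hg, hgerm]
    · show pullback.fst kM.left (j ≫ a) (p' default) ∈ O
      rw [← Scheme.Hom.comp_apply, pullback.lift_fst]
      exact (hOm.ge rfl).1
    · rw [← Scheme.Hom.comp_apply, hp'q, hp]
  have hC : _root_.IsPreconnected C := (pr.isConnected_preimage_singleton (pr x)).isPreconnected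
  obtain ⟨z, hz, hzE, hzB⟩ := hC Et Bd (locusOn e G a ha σ j k s).2 hBo hsub ⟨x, rfl, hx⟩
    ⟨y, hxy.symm, (hsub hxy.symm).resolve_left hy⟩
  obtain ⟨N, ⟨-, hN⟩, hzN⟩ := hzB
  exact hN z hzN hz hzE

variable (hquot : ∀ (U : T.Etale) (k : U ⟶ T'), Topology.IsQuotientMap (pullback.fst k.left (j ≫ a)))

include ha hquot in
/-- sections of the inverse image on `W` agree on `Z` with sections coming from `T'`, when the base changes of
`Z ⟶ T'` along etale morphisms are quotient maps -/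
theorem exists_eqLocus_range_of_quot :
    ∃ τ : ToType (G.obj.obj (op T')), Set.range j ⊆
      (eqLocus ((pullA A e).obj G) (((pullA A e).obj G).obj.map (toBC e a ha).op (pullSect e G τ)) σ : Set _) := by
  have hloc : ∀ w : Z, ∃ (U : T.Etale) (k : U ⟶ T') (s : ToType (G.obj.obj (op U)))
      (p : ↥(pullback k.left (j ≫ a))), p ∈ locusOn e G a ha σ j k s ∧
        pullback.snd k.left (j ≫ a) p = w := by
    intro w
    obtain ⟨Ω, _, _, c, hc⟩ := H0PBC.exists_geom_point w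
    let ζ := (c ≫ j) ≫ W.hom
    obtain ⟨U₀, s₀, b₀, hb₀, hgerm⟩ :=
      exists_germ_eq e G ζ (ζ ≫ e) rfl (germ ((pullA A e).obj G) σ ζ (c ≫ j) rfl)
    have hw : b₀ ≫ U₀.hom = (c ≫ j ≫ a) ≫ T'.hom := by
      rw [hb₀]; show ((c ≫ j) ≫ W.hom) ≫ e = _; simp only [Category.assoc, ha]
    let b : Spec (CommRingCat.of Ω) ⟶ (prodEt U₀ T').left := pullback.lift b₀ (c ≫ j ≫ a) hw
    have hb₁ : b ≫ (prodEtSnd U₀ T').left = c ≫ j ≫ a := pullback.lift_snd _ _ _
    have hbξ : b ≫ (prodEt U₀ T').hom = ζ ≫ e :=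
      ((Category.assoc _ _ _).symm.trans (congrArg (· ≫ U₀.hom) (pullback.lift_fst _ _ _))).trans hb₀
    let p := pullback.lift b c hb₁
    refine ⟨prodEt U₀ T', prodEtSnd U₀ T', G.obj.map (prodEtFst U₀ T').op s₀, p default, ?_, ?_⟩
    · refine (mem_locusOn_iff e G a ha σ j _ _ ζ (ζ ≫ e) rfl p b hbξ (pullback.lift_fst _ _ _) c rfl
        (pullback.lift_snd _ _ _)).2 ?_
      rw [germ_map G (prodEtFst U₀ T') s₀ _ b hbξ b₀ hb₀ (pullback.lift_fst _ _ _), hgerm]
    · rw [← Scheme.Hom.comp_apply, pullback.lift_snd, hc]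
  choose U k s p hp hpw using hloc
  let pr := fun w => pullback.fst (k w).left (j ≫ a)
  have hsat : ∀ w z, pr w z ∈ pr w '' (locusOn e G a ha σ j (k w) (s w) : Set _) →
      z ∈ locusOn e G a ha σ j (k w) (s w) := fun w z ⟨z', hz', e'⟩ =>
    locusOn_saturated e G a ha σ j (k w) (s w) z' z e' hz'
  have hopen : ∀ w, IsOpen (pr w '' (locusOn e G a ha σ j (k w) (s w) : Set _)) := fun w => by
    rw [← (hquot (U w) (k w)).isOpen_preimage]
    exact (congrArg IsOpen (Set.Subset.antisymm (fun z hz => hsat w z hz) (Set.subset_preimage_image _ _))).mpr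
      (locusOn e G a ha σ j (k w) (s w)).2
  let O : ∀ w, (U w).left.Opens := fun w => ⟨_, hopen w⟩
  let g : ∀ w, restrictEtale (U w) (O w) ⟶ T' := fun w => restrictEtaleHom (U w) (O w) ≫ k w
  have hcov : ∀ t : T'.left, ∃ w, t ∈ Set.range (g w).left := by
    intro t
    obtain ⟨w, rfl⟩ := (j ≫ a).surjective t
    refine ⟨w, ⟨pr w (p w), ⟨p w, hp w, rfl⟩⟩, ?_⟩
    show ((O w).ι ≫ (k w).left) ⟨pr w (p w), _⟩ = (j ≫ a) w
    rw [Scheme.Hom.comp_apply]
    show (k w).left (pr w (p w)) = (j ≫ a) w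
    rw [← Scheme.Hom.comp_apply, pullback.condition, Scheme.Hom.comp_apply, hpw]
  have hin : ∀ (w : Z) {Ω : Type u} [Field Ω] [IsSepClosed Ω] (ξ : Spec (CommRingCat.of Ω) ⟶ T)
      (b : Spec (CommRingCat.of Ω) ⟶ (restrictEtale (U w) (O w)).left)
      (hb : b ≫ (restrictEtale (U w) (O w)).hom = ξ) (c : Spec (CommRingCat.of Ω) ⟶ Z)
      (hcb : c ≫ j ≫ a = b ≫ (g w).left) (hξ : ((c ≫ j) ≫ W.hom) ≫ e = ξ),
      toPullStalk e G ((c ≫ j) ≫ W.hom) ξ hξ
          (germ G (G.obj.map (restrictEtaleHom (U w) (O w)).op (s w)) ξ b hb) =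
        germ ((pullA A e).obj G) σ ((c ≫ j) ≫ W.hom) (c ≫ j) rfl := by
    intro w Ω _ _ ξ b hb c hcb hξ
    have hb' : (b ≫ (O w).ι) ≫ (U w).hom = ξ := (Category.assoc _ _ _).trans hb
    let x := pullback.lift (b ≫ (O w).ι) c ((Category.assoc _ _ _).trans hcb.symm)
    rw [germ_map G (restrictEtaleHom (U w) (O w)) (s w) ξ b hb (b ≫ (O w).ι) hb' rfl]
    refine (mem_locusOn_iff e G a ha σ j (k w) (s w) _ ξ hξ x (b ≫ (O w).ι) hb' (pullback.lift_fst _ _ _) c rfl
      (pullback.lift_snd _ _ _)).1 (hsat w _ ?_)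
    show pr w (x default) ∈ (O w : Set _)
    rw [← Scheme.Hom.comp_apply, pullback.lift_fst, Scheme.Hom.comp_apply]
    exact (b default).2
  obtain ⟨τ, hτ⟩ := exists_glue G g hcov (fun w => G.obj.map (restrictEtaleHom (U w) (O w)).op (s w))
    (fun w w' Ω _ _ ξ b hb b' hb' hbb' => by
      refine (mem_agree_iff G _ _ ξ b hb b' hb').1 ?_
      obtain ⟨Ω', _, _, c, l, hl⟩ := exists_geom_lift (j ≫ a) (b ≫ (g w).left)
      have h₁ : (l ≫ b) ≫ (restrictEtale (U w) (O w)).hom = l ≫ ξ := by rw [Category.assoc, hb]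
      have h₂ : (l ≫ b') ≫ (restrictEtale (U w') (O w')).hom = l ≫ ξ := by rw [Category.assoc, hb']
      have hξ : ((c ≫ j) ≫ W.hom) ≫ e = l ≫ ξ := by
        rw [Category.assoc, ← ha, ← Category.assoc, Category.assoc c, hl, Category.assoc, Category.assoc,
          MorphismProperty.Over.w (g w), hb]
      have := (mem_agree_iff G _ _ (l ≫ ξ) (l ≫ b) h₁ (l ≫ b') h₂).2 (toPullStalk_injective e G _ _ hξ
        ((hin w _ _ h₁ c (hl.trans (Category.assoc _ _ _).symm) hξ).trans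
          (hin w' _ _ h₂ c (hl.trans ((congrArg (l ≫ ·) hbb').trans (Category.assoc _ _ _).symm)) hξ).symm))
      rw [← lift_default_comp l b b' (hb.trans hb'.symm) (h₁.trans h₂.symm)]
      exact this)
  refine ⟨τ, ?_⟩
  rintro _ ⟨w₀, rfl⟩
  obtain ⟨Ω, _, _, c, hc⟩ := H0PBC.exists_geom_point w₀
  rw [← hc, ← Scheme.Hom.comp_apply]
  refine (mem_eqLocus_iff ((pullA A e).obj G) _ σ ((c ≫ j) ≫ W.hom) (c ≫ j) rfl).2 ?_
  obtain ⟨w, v, hv⟩ := hcov (((c ≫ j) ≫ a) default)
  have hb : ((c ≫ j) ≫ a) ≫ T'.hom = ((c ≫ j) ≫ W.hom) ≫ e := by rw [Category.assoc, ha, ← Category.assoc]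
  obtain ⟨v', hv', -⟩ := EtFound.exists_lift_point (g w) (CategoryTheory.Over.homMk ((c ≫ j) ≫ a) hb) v hv
  have hv'' : (v'.left : Spec (CommRingCat.of Ω) ⟶ _) ≫ (g w).left = (c ≫ j) ≫ a :=
    congrArg CommaMorphism.left hv'
  refine (germ_toBC e G a ha τ ((c ≫ j) ≫ W.hom) _ rfl (c ≫ j) rfl ((c ≫ j) ≫ a) hb rfl).trans (Eq.trans ?_
    (hin w _ v'.left (CategoryTheory.Over.w v') c ((Category.assoc _ _ _).symm.trans hv''.symm) rfl))
  refine congrArg _ ((germ_map G (g w) τ _ v'.left (CategoryTheory.Over.w v') ((c ≫ j) ≫ a) hb hv'').symm.trans ?_)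
  rw [hτ w]

variable [Flat (j ≫ a)] (hqo : QuasiCompact (j ≫ a) ∨ UniversallyOpen (j ≫ a))

include ha hqo in
/-- sections of the inverse image on `W` agree on `Z` with sections coming from `T'` -/
theorem exists_eqLocus_range :
    ∃ τ : ToType (G.obj.obj (op T')), Set.range j ⊆
      (eqLocus ((pullA A e).obj G) (((pullA A e).obj G).obj.map (toBC e a ha).op (pullSect e G τ)) σ : Set _) :=
  exists_eqLocus_range_of_quot e G a ha σ j fun _ k => isQuotientMap_fst k.left (j ≫ a) hqo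

end

include ha in
/-- sections of the inverse image on `W` come from sections on `T'`, when the base changes of `W ⟶ T'` along
etale morphisms are quotient maps -/
theorem exists_pullSect_eq_of_quot [GeometricallyConnected a]
    (hquot : ∀ (U : T.Etale) (k : U ⟶ T'), Topology.IsQuotientMap (pullback.fst k.left a)) :
    ∃ τ : ToType (G.obj.obj (op T')), ((pullA A e).obj G).obj.map (toBC e a ha).op (pullSect e G τ) = σ := by
  haveI : GeometricallyConnected (𝟙 W.left ≫ a) := by rw [Category.id_comp]; infer_instance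
  obtain ⟨τ, hτ⟩ := exists_eqLocus_range_of_quot e G a ha σ (𝟙 W.left) (by rw [Category.id_comp]; exact hquot)
  exact ⟨τ, section_ext _ _ _ fun Ω _ _ ζ c hc =>
    (mem_eqLocus_iff _ _ σ ζ c hc).1 (hτ ⟨c default, rfl⟩)⟩

variable [GeometricallyConnected a] [Flat a] (hqo : QuasiCompact a ∨ UniversallyOpen a)

include ha hqo in
/-- sections of the inverse image on `W` come from sections on `T'` -/
theorem exists_pullSect_eq :
    ∃ τ : ToType (G.obj.obj (op T')), ((pullA A e).obj G).obj.map (toBC e a ha).op (pullSect e G τ) = σ := by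
  haveI : GeometricallyConnected (𝟙 W.left ≫ a) := by rw [Category.id_comp]; infer_instance
  haveI : Flat (𝟙 W.left ≫ a) := by rw [Category.id_comp]; infer_instance
  obtain ⟨τ, hτ⟩ := exists_eqLocus_range e G a ha σ (𝟙 W.left) (by rwa [Category.id_comp])
  exact ⟨τ, section_ext _ _ _ fun Ω _ _ ζ c hc =>
    (mem_eqLocus_iff _ _ σ ζ c hc).1 (hτ ⟨c default, rfl⟩)⟩

end

end Groth.Agent.H0FBC
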