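import Groth.Agent.H0FBC.LimitOpens
import Groth.Agent.H0FBC.Descent

/-!
# Sections of inverse images to limits of etale schemes come from a stage
-/

set_option autoImplicit false
set_option linter.style.haveILetI false
set_option linter.unusedSectionVars false
set_option backward.isDefEq.respectTransparency false
set_option backward.isDefEq.respectTransparency.types false
universe u

open CategoryTheory CategoryTheory.Limits AlgebraicGeometry TopologicalSpace Opposite
open scoped TensorProduct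

namespace Groth.Agent.H0FBC

open H0PBC EtFound

variable {B : Type u} [CommRing B] {J : Type*} {G : J → Type u} [∀ i, CommRing (G i)] [∀ i, Algebra B (G i)]
  [∀ i, Algebra.Etale B (G i)] {R : Type u} [CommRing R] [Algebra B R] {gR : ∀ i, G i →ₐ[B] R}
  {T S : Scheme.{u}} (g : T ⟶ S) (ι : Spec (CommRingCat.of B) ⟶ S) [IsOpenImmersion ι]

/-- an etale algebra over the affine open, as an etale scheme over `S` -/
noncomputable def stageEt (M : Type u) [CommRing M] [Algebra B M] [Algebra.Etale B M] : S.Etale :=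
  haveI : AlgebraicGeometry.Etale (Spec.map (CommRingCat.ofHom (algebraMap B M))) :=
    (HasRingHomProperty.Spec_iff (P := @AlgebraicGeometry.Etale)).2 (RingHom.etale_algebraMap.2 ‹_›)
  Scheme.Etale.mk (ym ι M)

/-- transition maps between stages -/
noncomputable def stageMap {M M' : Type u} [CommRing M] [Algebra B M] [Algebra.Etale B M] [CommRing M']
    [Algebra B M'] [Algebra.Etale B M'] (φ : M →ₐ[B] M') : stageEt ι M' ⟶ stageEt ι M :=
  MorphismProperty.Over.homMk (Spec.map (CommRingCat.ofHom φ.toRingHom)) (spec_map_ym ι φ)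

theorem bc_stageMap_left {M M' : Type u} [CommRing M] [Algebra B M] [Algebra.Etale B M] [CommRing M']
    [Algebra B M'] [Algebra.Etale B M'] (φ : M →ₐ[B] M') :
    ((EtCoh.bc g).map (stageMap ι φ)).left = pmap g ι φ :=
  pullback.hom_ext ((pullback.lift_fst _ _ _).trans (pmap_fst g ι φ).symm)
    ((pullback.lift_snd _ _ _).trans (pmap_snd g ι φ).symm)

variable {A : Type (u + 2)} [Category.{u + 1} A] [HasColimitsOfSize.{u, u} A] [HasProducts.{u} A]
  [∀ {P Q : Scheme.{u}} (h : P ⟶ Q),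
    ((EtCoh.bc h).sheafPushforwardContinuous A Q.smallEtaleTopology P.smallEtaleTopology).IsRightAdjoint]
  {FA : A → A → Type*} {CA : A → Type (u + 1)}
  [∀ M N, FunLike (FA M N) (CA M) (CA N)] [ConcreteCategory.{u + 1} A FA]
  [PreservesFilteredColimitsOfSize.{u, u} (forget A)]
  [∀ Z : Scheme.{u}, Z.smallEtaleTopology.HasSheafCompose (forget A)]
  (F : Sheaf T.smallEtaleTopology A)

theorem stage_pt {i : J} {Ω : Type u} [Field Ω] (ζ : Spec (CommRingCat.of Ω) ⟶ PB g ι R) :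
    (ζ ≫ pmap g ι (gR i)) ≫ ((EtCoh.bc g).obj (stageEt ι (G i))).hom = ζ ≫ pullback.snd (ym ι R) g :=
  (Category.assoc _ _ _).trans (congrArg (ζ ≫ ·) (pmap_snd g ι (gR i)))

/-- sections at a stage with equal germs on the limit agree at a later stage -/
theorem exists_stage_eq (hG : DirColim.IsColim gR) [QuasiCompact g] (i : J)
    (τ₁ τ₂ : ToType (F.obj.obj (op ((EtCoh.bc g).obj (stageEt ι (G i))))))
    (h : ∀ (Ω : Type u) [Field Ω] [IsSepClosed Ω] (ζ : Spec (CommRingCat.of Ω) ⟶ PB g ι R),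
      germ F τ₁ (ζ ≫ pullback.snd (ym ι R) g) (ζ ≫ pmap g ι (gR i)) (stage_pt g ι ζ) =
        germ F τ₂ (ζ ≫ pullback.snd (ym ι R) g) (ζ ≫ pmap g ι (gR i)) (stage_pt g ι ζ)) :
    ∃ j, ∃ φ : DirColim.Trans gR i j, F.obj.map ((EtCoh.bc g).map (stageMap ι φ.1)).op τ₁ =
      F.obj.map ((EtCoh.bc g).map (stageMap ι φ.1)).op τ₂ := by
  haveI : CompactSpace (PB g ι (G i)) := inferInstance
  obtain ⟨j, φ, hφ⟩ := exists_stage_subset g ι hG i Set.univ
    (eqLocus F (W := (EtCoh.bc g).obj (stageEt ι (G i))) τ₁ τ₂).1 isCompact_univ isOpen_univ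
    (eqLocus F (W := (EtCoh.bc g).obj (stageEt ι (G i))) τ₁ τ₂).2 (fun z _ => by
      obtain ⟨Ω, _, _, ζ, rfl⟩ := H0PBC.exists_geom_point z
      rw [← Scheme.Hom.comp_apply]
      exact (mem_eqLocus_iff F τ₁ τ₂ _ _ (stage_pt g ι ζ)).2 (h Ω ζ))
  refine ⟨j, φ, section_ext F _ _ fun Ω _ _ ξ c hc => ?_⟩
  have e : (c ≫ ((EtCoh.bc g).map (stageMap ι φ.1)).left) ≫ ((EtCoh.bc g).obj (stageEt ι (G i))).hom = ξ := by
    rw [Category.assoc, MorphismProperty.Over.w ((EtCoh.bc g).map (stageMap ι φ.1))]; exact hc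
  rw [germ_map F _ τ₁ ξ c hc _ e rfl, germ_map F _ τ₂ ξ c hc _ e rfl]
  refine (mem_eqLocus_iff F τ₁ τ₂ ξ _ e).1 ?_
  rw [bc_stageMap_left]
  exact Set.mem_of_eq_of_mem (Scheme.Hom.comp_apply c (pmap g ι φ.1) default) (hφ (c default) trivial)

/-- an affine chart of a germ of the inverse image to the limit -/
structure Chart (τR : ToType (((pullA A (pullback.snd (ym ι R) g)).obj F).obj.obj (op (EtCoh.top (PB g ι R))))) where
  C : Type u
  [ringC : CommRing C]
  [algC : Algebra B C]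
  mC : Spec (CommRingCat.of C) ⟶ T
  [etaleC : AlgebraicGeometry.Etale mC]
  hC : mC ≫ g = Spec.map (CommRingCat.ofHom (algebraMap B C)) ≫ ι
  s : ToType (F.obj.obj (op (Scheme.Etale.mk mC)))
  b : C ⊗[B] R
  spec : ∀ (Ω : Type u) [Field Ω] [IsSepClosed Ω] (y : Spec (CommRingCat.of Ω) ⟶ Spec (CommRingCat.of (C ⊗[B] R)))
    (ζ : Spec (CommRingCat.of Ω) ⟶ PB g ι R) (hy : y ≫ tU g ι R mC hC = ζ),
    y default ∈ PrimeSpectrum.basicOpen b →
      germ ((pullA A (pullback.snd (ym ι R) g)).obj F) τR ζ ζ (Category.comp_id _) =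
        toPullStalk (pullback.snd (ym ι R) g) F ζ (ζ ≫ pullback.snd (ym ι R) g) rfl
          (germ F s (ζ ≫ pullback.snd (ym ι R) g) (y ≫ incL (B := B) C R) (by
            show (y ≫ incL (B := B) C R) ≫ mC = _
            rw [Category.assoc, ← tU_snd g ι R mC hC, ← Category.assoc, hy]))

attribute [instance] Chart.ringC Chart.algC Chart.etaleC

/-- every point of the limit lies in a chart -/
theorem exists_chart
    (τR : ToType (((pullA A (pullback.snd (ym ι R) g)).obj F).obj.obj (op (EtCoh.top (PB g ι R)))))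
    (z : PB g ι R) :
    ∃ (D : Chart g ι F τR), ∃ q : PrimeSpectrum (D.C ⊗[B] R), D.b ∉ q.asIdeal ∧ tU g ι R D.mC D.hC q = z := by
  obtain ⟨Ω, _, _, ζ, rfl⟩ := H0PBC.exists_geom_point z
  let r := pullback.snd (ym ι R) g
  let G₀ := (pullA A r).obj F
  obtain ⟨U, s, b₀, hb₀, hgerm⟩ := exists_germ_eq r F ζ (ζ ≫ r) rfl (germ G₀ τR ζ ζ (Category.comp_id _))
  haveI : AlgebraicGeometry.Etale U.hom := U.prop
  obtain ⟨N, hN, hbN, hNle⟩ := exists_isAffineOpen_mem_and_subset (U := (U.hom ≫ g) ⁻¹ᵁ ι.opensRange)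
    (x := b₀ default) (by
      refine ⟨(ζ ≫ pullback.fst (ym ι R) g ≫ Spec.map (CommRingCat.ofHom (algebraMap B R))) default, ?_⟩
      refine (Scheme.Hom.comp_apply _ _ _).symm.trans (Eq.trans ?_ (Scheme.Hom.comp_apply _ _ _))
      refine congrArg (fun k : Spec (CommRingCat.of Ω) ⟶ S => k default) ?_
      rw [← Category.assoc b₀, hb₀, Category.assoc, Category.assoc, Category.assoc]
      exact congrArg (ζ ≫ ·) pullback.condition)
  obtain ⟨φ, hφ⟩ := Spec.map_surjective (IsOpenImmersion.lift ι (hN.fromSpec ≫ U.hom ≫ g) (by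
    rintro _ ⟨t, rfl⟩
    rw [Scheme.Hom.comp_apply]
    exact hNle (hN.range_fromSpec.le ⟨t, rfl⟩)))
  letI : Algebra B Γ(U.left, N) := φ.hom.toAlgebra
  let C : Type u := Γ(U.left, N)
  let mC : Spec (CommRingCat.of C) ⟶ T := hN.fromSpec ≫ U.hom
  haveI : AlgebraicGeometry.Etale mC := inferInstanceAs (AlgebraicGeometry.Etale (hN.fromSpec ≫ U.hom))
  have hC : mC ≫ g = Spec.map (CommRingCat.ofHom (algebraMap B C)) ≫ ι := by
    show (hN.fromSpec ≫ U.hom) ≫ g = Spec.map φ ≫ ι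
    rw [hφ, IsOpenImmersion.lift_fac, Category.assoc]
  haveI := etale_tU g ι R mC hC
  let Pz : (PB g ι R).Etale := Scheme.Etale.mk (tU g ι R mC hC)
  let kU : Scheme.Etale.mk mC ⟶ U := MorphismProperty.Over.homMk hN.fromSpec rfl trivial
  let s' := F.obj.map kU.op s
  have ha : incL (B := B) C R ≫ (Scheme.Etale.mk mC).hom = Pz.hom ≫ r := (tU_snd g ι R mC hC).symm
  let kT : Pz ⟶ EtCoh.top (PB g ι R) := MorphismProperty.Over.homMk (tU g ι R mC hC) (Category.comp_id _)
  let L := eqLocus G₀ (G₀.obj.map kT.op τR)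
    (G₀.obj.map (toBC r (W := Pz) (T' := Scheme.Etale.mk mC) (incL (B := B) C R) ha).op (pullSect r F s'))
  have hL : ∀ (Ω : Type u) [Field Ω] [IsSepClosed Ω] (y : Spec (CommRingCat.of Ω) ⟶ Spec (CommRingCat.of (C ⊗[B] R)))
      (ζ : Spec (CommRingCat.of Ω) ⟶ PB g ι R) (hy : y ≫ tU g ι R mC hC = ζ)
      (hyr : (y ≫ incL (B := B) C R) ≫ mC = ζ ≫ r),
      y default ∈ L ↔ germ G₀ τR ζ ζ (Category.comp_id _) =
        toPullStalk r F ζ (ζ ≫ r) rfl (germ F s' (ζ ≫ r) (y ≫ incL (B := B) C R) hyr) := by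
    intro Ω _ _ y ζ hy hyr
    refine (mem_eqLocus_iff G₀ (W := Pz) _ _ ζ y hy).trans ?_
    rw [germ_map G₀ kT τR ζ y hy ζ (Category.comp_id _) hy,
      germ_toBC r F (W := Pz) (T' := Scheme.Etale.mk mC) (incL (B := B) C R) ha s' ζ (ζ ≫ r) rfl y hy _ hyr rfl]
  let bN : Spec (CommRingCat.of Ω) ⟶ Spec (CommRingCat.of C) := IsOpenImmersion.lift hN.fromSpec b₀ (by
    rintro _ ⟨t, rfl⟩
    exact hN.range_fromSpec.ge (by rw [Subsingleton.elim t default]; exact hbN))
  have hbN' : bN ≫ hN.fromSpec = b₀ := IsOpenImmersion.lift_fac _ _ _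
  let y₀ : Spec (CommRingCat.of Ω) ⟶ Spec (CommRingCat.of (C ⊗[B] R)) :=
    (isPullback_tU g ι R mC hC).lift ζ bN (by rw [← Category.assoc bN, hbN', hb₀])
  have hy₀ : y₀ ≫ tU g ι R mC hC = ζ := IsPullback.lift_fst _ _ _ _
  have hy₀' : y₀ ≫ incL (B := B) C R = bN := IsPullback.lift_snd _ _ _ _
  have hmem : y₀ default ∈ L := by
    refine (hL Ω y₀ ζ hy₀ (by rw [hy₀', ← Category.assoc bN, hbN', hb₀])).2 ?_
    rw [← hgerm]
    exact congrArg _ (germ_map F kU s _ _ _ b₀ hb₀ (by rw [hy₀']; exact hbN')).symm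
  obtain ⟨_, ⟨b, rfl⟩, hqb, hbL⟩ :=
    PrimeSpectrum.isTopologicalBasis_basic_opens.exists_subset_of_mem_open hmem L.2
  refine ⟨⟨C, mC, hC, s', b, fun Ω' _ _ y ζ' hy hym => (hL Ω' y ζ' hy _).1 (hbL hym)⟩, y₀ default, hqb, ?_⟩
  rw [← Scheme.Hom.comp_apply, hy₀]

/-- sections of the inverse image to the limit come from a stage -/
theorem exists_stage_section (hG : DirColim.IsColim gR) [QuasiCompact g] [QuasiSeparated g]
    (τR : ToType (((pullA A (pullback.snd (ym ι R) g)).obj F).obj.obj (op (EtCoh.top (PB g ι R))))) :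
    ∃ (i : J) (τ : ToType (F.obj.obj (op ((EtCoh.bc g).obj (stageEt ι (G i)))))),
      ∀ (Ω : Type u) [Field Ω] [IsSepClosed Ω] (ζ : Spec (CommRingCat.of Ω) ⟶ PB g ι R),
        germ ((pullA A (pullback.snd (ym ι R) g)).obj F) τR ζ ζ (Category.comp_id _) =
          toPullStalk (pullback.snd (ym ι R) g) F ζ (ζ ≫ pullback.snd (ym ι R) g) rfl
            (germ F τ (ζ ≫ pullback.snd (ym ι R) g) (ζ ≫ pmap g ι (gR i)) (stage_pt g ι ζ)) := by
  classical
  choose D q hbq hqz using exists_chart g ι F τR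
  haveI : ∀ (M : Type u) [CommRing M] [Algebra B M] (z : PB g ι R),
      AlgebraicGeometry.Etale (tU g ι M (D z).mC (D z).hC) := fun M _ _ z => etale_tU g ι M (D z).mC (D z).hC
  -- finitely many charts
  obtain ⟨t, ht⟩ := (isCompact_univ (X := PB g ι R)).elim_finite_subcover
    (fun z => tU g ι R (D z).mC (D z).hC '' (PrimeSpectrum.basicOpen (D z).b : Set (PrimeSpectrum _)))
    (fun z => (tU g ι R (D z).mC (D z).hC).isOpenMap _ (PrimeSpectrum.basicOpen (D z).b).2)
    fun z _ => Set.mem_iUnion.2 ⟨z, q z, hbq z, hqz z⟩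
  obtain ⟨N, hN⟩ := hG.eventually_forall (fun z N => ∃ x, cmap (D z).C (gR N) x = (D z).b)
    (fun z N M φ ⟨x, hx⟩ => ⟨cmap (D z).C φ.1 x, (cmap_trans (D z).C φ x).trans hx⟩) t
    fun z _ => (hG.baseChange (D z).C).surj (D z).b
  choose xN hxN using fun z : t => hN z.1 z.2
  -- the pieces cover at a stage
  let OM : Set (PB g ι (G N)) := ⋃ z : t, tU g ι (G N) (D z.1).mC (D z.1).hC ''
    (PrimeSpectrum.basicOpen (xN z) : Set (PrimeSpectrum _))
  have hOM : IsOpen OM := isOpen_iUnion fun z =>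
    (tU g ι (G N) (D z.1).mC (D z.1).hC).isOpenMap _ (PrimeSpectrum.basicOpen (xN z)).2
  obtain ⟨M₁, φ₁, hφ₁⟩ := exists_stage_subset g ι hG N Set.univ OM isCompact_univ isOpen_univ hOM (fun w _ => by
    obtain ⟨z, hz, p, hp, rfl⟩ := Set.mem_iUnion₂.1 (ht (Set.mem_univ w))
    refine Set.mem_iUnion.2 ⟨⟨z, hz⟩, tmap (D z).C (gR N) p, ?_, ?_⟩
    · show cmap (D z).C (gR N) (xN ⟨z, hz⟩) ∉ p.asIdeal
      rw [hxN ⟨z, hz⟩]; exact hp
    · rw [← Scheme.Hom.comp_apply, tmap_tU, Scheme.Hom.comp_apply])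
  -- agreement at a stage
  let Good : t × t → ∀ M, DirColim.Trans gR N M → Prop := fun kl M φ =>
    ∀ (Ω : Type u) [Field Ω] [IsSepClosed Ω]
      (y₁ : Spec (CommRingCat.of Ω) ⟶ Spec (CommRingCat.of ((D kl.1.1).C ⊗[B] G M)))
      (y₂ : Spec (CommRingCat.of Ω) ⟶ Spec (CommRingCat.of ((D kl.2.1).C ⊗[B] G M))),
      cmap (D kl.1.1).C φ.1 (xN kl.1) ∉ (y₁ default).asIdeal →
      cmap (D kl.2.1).C φ.1 (xN kl.2) ∉ (y₂ default).asIdeal →
      ∀ h : y₁ ≫ tU g ι (G M) (D kl.1.1).mC (D kl.1.1).hC = y₂ ≫ tU g ι (G M) (D kl.2.1).mC (D kl.2.1).hC,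
        pullback.lift (y₁ ≫ incL (B := B) (D kl.1.1).C (G M)) (y₂ ≫ incL (B := B) (D kl.2.1).C (G M))
          (show _ ≫ (D kl.1.1).mC = _ ≫ (D kl.2.1).mC by
            rw [Category.assoc, ← tU_snd g ι (G M) _ (D kl.1.1).hC, ← Category.assoc, h, Category.assoc, tU_snd,
              Category.assoc]) default ∈ agree F (D kl.1.1).s (D kl.2.1).s
  have hmono : ∀ kl M M' (φ : DirColim.Trans gR N M) (ψ : DirColim.Trans gR M M'),
      Good kl M φ → Good kl M' (ψ.comp φ) := by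
    intro kl M M' φ ψ hg Ω _ _ y₁ y₂ h₁ h₂ h
    have hx : ∀ (C : Type u) [CommRing C] [Algebra B C] (x : C ⊗[B] G N)
        (y : Spec (CommRingCat.of Ω) ⟶ Spec (CommRingCat.of (C ⊗[B] G M'))),
        cmap C (ψ.comp φ).1 x ∉ (y default).asIdeal →
          cmap C φ.1 x ∉ ((y ≫ tmap C ψ.1) default).asIdeal := fun C _ _ x y hy => by
      rw [Scheme.Hom.comp_apply]
      show cmap C ψ.1 (cmap C φ.1 x) ∉ (y default).asIdeal
      rw [cmap_comp]
      exact hy
    have := hg Ω (y₁ ≫ tmap _ ψ.1) (y₂ ≫ tmap _ ψ.1) (hx _ _ y₁ h₁) (hx _ _ y₂ h₂)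
      (by rw [Category.assoc, Category.assoc, tmap_tU, tmap_tU, ← Category.assoc, h, Category.assoc])
    refine Set.mem_of_eq_of_mem (congrArg (fun l : Spec (CommRingCat.of Ω) ⟶
      (prodEt (Scheme.Etale.mk (D kl.1.1).mC) (Scheme.Etale.mk (D kl.2.1).mC)).left => l default) ?_) this
    refine pullback.hom_ext ?_ ?_
    · rw [pullback.lift_fst, pullback.lift_fst, Category.assoc, tmap_incL]
    · rw [pullback.lift_snd, pullback.lift_snd, Category.assoc, tmap_incL]
  have hpair : ∀ kl M (φ : DirColim.Trans gR N M), ∃ M', ∃ ψ : DirColim.Trans gR M M', Good kl M' (ψ.comp φ) := by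
    intro kl M φ
    let D₁ := D kl.1.1
    let D₂ := D kl.2.1
    let P := prodEt (Scheme.Etale.mk D₁.mC) (Scheme.Etale.mk D₂.mC)
    haveI : AlgebraicGeometry.Etale P.hom := P.prop
    let fP : P.left ⟶ S := P.hom ≫ g
    let π : PB fP ι (G M) ⟶ PB g ι (G M) := pullback.lift (pullback.fst _ _) (pullback.snd _ _ ≫ P.hom)
      (pullback.condition.trans (Category.assoc _ _ _).symm)
    have hπ₁ : π ≫ pullback.fst (ym ι (G M)) g = pullback.fst (ym ι (G M)) fP := pullback.lift_fst _ _ _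
    have hπ₂ : π ≫ pullback.snd (ym ι (G M)) g = pullback.snd (ym ι (G M)) fP ≫ P.hom := pullback.lift_snd _ _ _
    haveI : AlgebraicGeometry.Etale π := by
      refine MorphismProperty.of_isPullback (P := @AlgebraicGeometry.Etale) (IsPullback.of_right ?_ hπ₂
        (IsPullback.of_hasPullback (ym ι (G M)) g)).flip ‹AlgebraicGeometry.Etale P.hom›
      rw [hπ₁]
      exact IsPullback.of_hasPullback _ _
    let O₁ : (Spec (CommRingCat.of (D₁.C ⊗[B] G M))).Opens := PrimeSpectrum.basicOpen (cmap D₁.C φ.1 (xN kl.1))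
    let O₂ : (Spec (CommRingCat.of (D₂.C ⊗[B] G M))).Opens := PrimeSpectrum.basicOpen (cmap D₂.C φ.1 (xN kl.2))
    let v₁ : O₁.toScheme ⟶ PB g ι (G M) := O₁.ι ≫ tU g ι (G M) D₁.mC D₁.hC
    let v₂ : O₂.toScheme ⟶ PB g ι (G M) := O₂.ι ≫ tU g ι (G M) D₂.mC D₂.hC
    haveI : CompactSpace O₁.toScheme :=
      isCompact_iff_compactSpace.1 (PrimeSpectrum.isCompact_basicOpen (cmap D₁.C φ.1 (xN kl.1)))
    haveI : CompactSpace O₂.toScheme :=
      isCompact_iff_compactSpace.1 (PrimeSpectrum.isCompact_basicOpen (cmap D₂.C φ.1 (xN kl.2)))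
    haveI : QuasiSeparatedSpace (PB g ι (G M)) :=
      quasiSeparatedSpace_of_quasiSeparated (pullback.fst (ym ι (G M)) g)
    haveI : QuasiCompact v₂ := quasiCompact_of_compactSpace v₂
    let Q := pullback v₁ v₂
    haveI : CompactSpace Q := QuasiCompact.compactSpace_of_compactSpace (pullback.fst v₁ v₂)
    let c₁ : Q ⟶ Spec (CommRingCat.of D₁.C) := pullback.fst v₁ v₂ ≫ O₁.ι ≫ incL (B := B) D₁.C (G M)
    let c₂ : Q ⟶ Spec (CommRingCat.of D₂.C) := pullback.snd v₁ v₂ ≫ O₂.ι ≫ incL (B := B) D₂.C (G M)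
    have hc₁ : c₁ ≫ D₁.mC = pullback.fst v₁ v₂ ≫ v₁ ≫ pullback.snd (ym ι (G M)) g := by
      simp only [c₁, v₁, Category.assoc, tU_snd]
    have hc₂ : c₂ ≫ D₂.mC = pullback.fst v₁ v₂ ≫ v₁ ≫ pullback.snd (ym ι (G M)) g := by
      rw [pullback.condition_assoc]
      simp only [c₂, v₂, Category.assoc, tU_snd]
    let cP : Q ⟶ P.left := pullback.lift c₁ c₂ (hc₁.trans hc₂.symm)
    have hcP : cP ≫ P.hom = pullback.fst v₁ v₂ ≫ v₁ ≫ pullback.snd (ym ι (G M)) g :=
      (Category.assoc _ _ _).symm.trans ((congrArg (· ≫ D₁.mC) (pullback.lift_fst _ _ _)).trans hc₁)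
    let ρ : Q ⟶ PB fP ι (G M) := pullback.lift (pullback.fst v₁ v₂ ≫ v₁ ≫ pullback.fst (ym ι (G M)) g) cP (by
      show _ = cP ≫ P.hom ≫ g
      rw [← Category.assoc cP, hcP]
      simp only [Category.assoc, pullback.condition])
    have hρπ : ρ ≫ π = pullback.fst v₁ v₂ ≫ v₁ := by
      refine pullback.hom_ext ?_ ?_
      · rw [Category.assoc, hπ₁, pullback.lift_fst]
        simp only [v₁, Category.assoc]
      · rw [Category.assoc, hπ₂, pullback.lift_snd_assoc, hcP]
        simp only [v₁, Category.assoc]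
    haveI : AlgebraicGeometry.Etale ρ := by
      haveI : AlgebraicGeometry.Etale v₁ := inferInstance
      haveI : AlgebraicGeometry.Etale v₂ := inferInstance
      haveI : AlgebraicGeometry.Etale (pullback.fst v₁ v₂) := inferInstance
      haveI : AlgebraicGeometry.Etale (ρ ≫ π) := by rw [hρπ]; infer_instance
      exact AlgebraicGeometry.Etale.of_comp ρ π
    obtain ⟨M', ψ, hψ⟩ := exists_stage_subset fP ι hG M (Set.range ρ)
      (pullback.snd (ym ι (G M)) fP ⁻¹' (agree F D₁.s D₂.s).1) (isCompact_range ρ.continuous)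
      ρ.isOpenMap.isOpen_range ((agree F D₁.s D₂.s).2.preimage (pullback.snd (ym ι (G M)) fP).continuous)
      (fun w hw => by
        obtain ⟨Ω, _, _, ζP, rfl⟩ := H0PBC.exists_geom_point w
        obtain ⟨v, hv⟩ := hw
        rw [← Scheme.Hom.comp_apply ζP] at hv
        obtain ⟨p, hp, -⟩ := Scheme.exists_fac_of_etale_of_isSepClosed ρ (ζP ≫ pmap fP ι (gR M)) v hv
        let ζ : Spec (CommRingCat.of Ω) ⟶ PB g ι R := pullback.lift (ζP ≫ pullback.fst _ _)
          (ζP ≫ pullback.snd _ _ ≫ P.hom) (by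
            rw [Category.assoc, pullback.condition]; simp only [fP, Category.assoc])
        have hq : (ζP ≫ pullback.snd (ym ι R) fP) = p ≫ cP := by
          have h0 := congrArg (· ≫ pullback.snd (ym ι (G M)) fP) hp
          simp only [Category.assoc, ρ, pullback.lift_snd, pmap_snd] at h0
          exact h0.symm
        have hpg : p ≫ pullback.fst v₁ v₂ ≫ v₁ = ζ ≫ pmap g ι (gR M) := by
          rw [← hρπ, reassoc_of% hp]
          refine pullback.hom_ext ?_ ?_
          · rw [Category.assoc, Category.assoc, hπ₁, pmap_fst, Category.assoc, pmap_fst, pullback.lift_fst_assoc,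
              Category.assoc]
          · rw [Category.assoc, Category.assoc, hπ₂, pmap_snd_assoc, Category.assoc, pmap_snd, pullback.lift_snd]
        have key : ∀ (E : Chart g ι F τR) (x : E.C ⊗[B] G N) (hx : cmap E.C (gR N) x = E.b)
            (O : (Spec (CommRingCat.of (E.C ⊗[B] G M))).Opens)
            (hO : O = PrimeSpectrum.basicOpen (cmap E.C φ.1 x)) (o : Spec (CommRingCat.of Ω) ⟶ O.toScheme)
            (ho : o ≫ O.ι ≫ tU g ι (G M) E.mC E.hC = ζ ≫ pmap g ι (gR M)),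
            ∃ h : (o ≫ O.ι ≫ incL (B := B) E.C (G M)) ≫ E.mC = ζ ≫ pullback.snd (ym ι R) g,
              germ ((pullA A (pullback.snd (ym ι R) g)).obj F) τR ζ ζ (Category.comp_id _) =
                toPullStalk (pullback.snd (ym ι R) g) F ζ (ζ ≫ pullback.snd (ym ι R) g) rfl
                  (germ F E.s (ζ ≫ pullback.snd (ym ι R) g) (o ≫ O.ι ≫ incL (B := B) E.C (G M)) h) := by
          intro E x hx O hO o ho
          have h : (o ≫ O.ι ≫ incL (B := B) E.C (G M)) ≫ E.mC = ζ ≫ pullback.snd (ym ι R) g := by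
            rw [← pmap_snd g ι (gR M), ← reassoc_of% ho]
            simp only [Category.assoc, tU_snd]
          let y : Spec (CommRingCat.of Ω) ⟶ Spec (CommRingCat.of (E.C ⊗[B] R)) :=
            (isPullback_tU g ι R E.mC E.hC).lift ζ (o ≫ O.ι ≫ incL (B := B) E.C (G M)) h.symm
          have hy : y ≫ tU g ι R E.mC E.hC = ζ := IsPullback.lift_fst _ _ _ _
          have hy' : y ≫ incL (B := B) E.C R = o ≫ O.ι ≫ incL (B := B) E.C (G M) := IsPullback.lift_snd _ _ _ _
          have hyt : y ≫ tmap E.C (gR M) = o ≫ O.ι := by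
            refine (isPullback_tU g ι (G M) E.mC E.hC).hom_ext ?_ ?_
            · rw [Category.assoc, tmap_tU, reassoc_of% hy, Category.assoc, ho]
            · rw [Category.assoc, tmap_incL, hy', Category.assoc]
          refine ⟨h, (E.spec Ω y ζ hy ?_).trans ?_⟩
          · show E.b ∉ (y default).asIdeal
            rw [← hx, ← cmap_trans E.C φ x]
            have hm : (O.ι (o default) : PrimeSpectrum (E.C ⊗[B] G M)) ∈ O := (o default).2
            rw [← Scheme.Hom.comp_apply, ← hyt, Scheme.Hom.comp_apply] at hm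
            rw [hO] at hm
            exact hm
          · congr 2
        obtain ⟨h₁, e₁⟩ := key D₁ (xN kl.1) (hxN kl.1) O₁ rfl (p ≫ pullback.fst v₁ v₂)
          (by simpa only [v₁, Category.assoc] using hpg)
        obtain ⟨h₂, e₂⟩ := key D₂ (xN kl.2) (hxN kl.2) O₂ rfl (p ≫ pullback.snd v₁ v₂)
          (by
            have := hpg
            rw [pullback.condition] at this
            simpa only [v₂, Category.assoc] using this)
        have hm := (mem_agree_iff F D₁.s D₂.s _ _ h₁ _ h₂).2 (toPullStalk_injective _ F ζ _ rfl (e₁.symm.trans e₂))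
        show pullback.snd (ym ι (G M)) fP (pmap fP ι (gR M) (ζP default)) ∈ agree F D₁.s D₂.s
        rw [← Scheme.Hom.comp_apply, ← Scheme.Hom.comp_apply, pmap_snd, hq]
        refine Set.mem_of_eq_of_mem (congrArg (fun l : Spec (CommRingCat.of Ω) ⟶ P.left => l default) ?_) hm
        refine pullback.hom_ext ?_ ?_
        · rw [Category.assoc, pullback.lift_fst, pullback.lift_fst, Category.assoc]
        · rw [Category.assoc, pullback.lift_snd, pullback.lift_snd, Category.assoc])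
    refine ⟨M', ψ, fun Ω _ _ y₁ y₂ h₁ h₂ h => ?_⟩
    rw [show (ψ.comp φ).1 = ψ.1.comp φ.1 from rfl, ← cmap_comp] at h₁ h₂
    let o₁ : Spec (CommRingCat.of Ω) ⟶ O₁.toScheme := IsOpenImmersion.lift O₁.ι (y₁ ≫ tmap D₁.C ψ.1) (by
      rintro _ ⟨t, rfl⟩
      rw [Scheme.Opens.range_ι, Scheme.Hom.comp_apply, Subsingleton.elim t default]
      exact h₁)
    let o₂ : Spec (CommRingCat.of Ω) ⟶ O₂.toScheme := IsOpenImmersion.lift O₂.ι (y₂ ≫ tmap D₂.C ψ.1) (by
      rintro _ ⟨t, rfl⟩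
      rw [Scheme.Opens.range_ι, Scheme.Hom.comp_apply, Subsingleton.elim t default]
      exact h₂)
    let w : Spec (CommRingCat.of Ω) ⟶ Q := pullback.lift o₁ o₂ (by
      simp only [v₁, v₂, o₁, o₂, IsOpenImmersion.lift_fac_assoc, Category.assoc, tmap_tU]
      exact (Category.assoc _ _ _).symm.trans ((congrArg (· ≫ pmap g ι ψ.1) h).trans (Category.assoc _ _ _)))
    let pt : Spec (CommRingCat.of Ω) ⟶ P.left :=
      pullback.lift (y₁ ≫ incL (B := B) D₁.C (G M')) (y₂ ≫ incL (B := B) D₂.C (G M'))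
        (show _ ≫ D₁.mC = _ ≫ D₂.mC by
          rw [Category.assoc, ← tU_snd g ι (G M') _ D₁.hC, ← Category.assoc, h, Category.assoc, tU_snd,
            Category.assoc])
    have hpt₁ : pt ≫ pullback.fst D₁.mC D₂.mC = y₁ ≫ incL (B := B) D₁.C (G M') := pullback.lift_fst _ _ _
    let zP : Spec (CommRingCat.of Ω) ⟶ PB fP ι (G M') :=
      pullback.lift (y₁ ≫ incR (B := B) D₁.C (G M')) pt (by
        show _ = pt ≫ (pullback.fst D₁.mC D₂.mC ≫ D₁.mC) ≫ g
        rw [Category.assoc (pullback.fst D₁.mC D₂.mC), ← Category.assoc pt, hpt₁, D₁.hC, Category.assoc, Category.assoc]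
        exact congrArg (y₁ ≫ ·) (isPullback_inc' (B := B) ι D₁.C (G M')).w.symm)
    have e : w ≫ ρ = zP ≫ pmap fP ι ψ.1 := by
      refine pullback.hom_ext ?_ ?_
      · refine (Category.assoc _ _ _).trans (Eq.trans ?_ (Category.assoc _ _ _).symm)
        rw [pmap_fst, pullback.lift_fst, pullback.lift_fst_assoc, pullback.lift_fst_assoc]
        simp only [v₁, o₁, IsOpenImmersion.lift_fac_assoc, Category.assoc, tU_fst, tmap_incR]
      · refine (Category.assoc _ _ _).trans (Eq.trans ?_ (Category.assoc _ _ _).symm)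
        rw [pmap_snd, pullback.lift_snd, pullback.lift_snd]
        refine pullback.hom_ext ?_ ?_
        · rw [Category.assoc, pullback.lift_fst, pullback.lift_fst]
          simp only [c₁, w, o₁, pullback.lift_fst_assoc, IsOpenImmersion.lift_fac_assoc, Category.assoc, tmap_incL]
        · rw [Category.assoc, pullback.lift_snd, pullback.lift_snd]
          simp only [c₂, w, o₂, pullback.lift_snd_assoc, IsOpenImmersion.lift_fac_assoc, Category.assoc, tmap_incL]
    have hm := hψ (zP default) ⟨w default, by rw [← Scheme.Hom.comp_apply, e, Scheme.Hom.comp_apply]⟩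
    have e' : zP ≫ pmap fP ι ψ.1 ≫ pullback.snd (ym ι (G M)) fP = pt := by rw [pmap_snd, pullback.lift_snd]
    show pt default ∈ agree F D₁.s D₂.s
    rw [← e', Scheme.Hom.comp_apply, Scheme.Hom.comp_apply]
    exact hm
  obtain ⟨M, φ, hM⟩ : ∃ M, ∃ φ : DirColim.Trans gR N M, (∀ w : PB g ι (G M), pmap g ι φ.1 w ∈ OM) ∧
      ∀ kl, Good kl M φ := by
    suffices h : ∀ s : Finset (t × t), ∃ M, ∃ φ : DirColim.Trans gR N M,
        (∀ w : PB g ι (G M), pmap g ι φ.1 w ∈ OM) ∧ ∀ kl ∈ s, Good kl M φ by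
      obtain ⟨M, φ, h₁, h₂⟩ := h Finset.univ
      exact ⟨M, φ, h₁, fun kl => h₂ kl (Finset.mem_univ kl)⟩
    intro s
    induction s using Finset.induction_on with
    | empty => exact ⟨M₁, φ₁, fun w => hφ₁ w trivial, by simp⟩
    | insert kl s _ ih =>
      obtain ⟨M, φ, h₁, h₂⟩ := ih
      obtain ⟨M', ψ, hψ⟩ := hpair kl M φ
      refine ⟨M', ψ.comp φ, fun w => ?_, fun kl' hkl' => ?_⟩
      · have := h₁ (pmap g ι ψ.1 w)
        rwa [pmap_comp_apply] at this
      · rcases Finset.mem_insert.1 hkl' with rfl | hkl'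
        · exact hψ
        · exact hmono kl' M M' φ ψ (h₂ kl' hkl')
  -- glueing
  let TM := (EtCoh.bc g).obj (stageEt ι (G M))
  haveI : AlgebraicGeometry.Etale (pullback.snd (ym ι (G M)) g) := TM.prop
  let UM : t → T.Etale := fun z =>
    Scheme.Etale.mk (tU g ι (G M) (D z.1).mC (D z.1).hC ≫ pullback.snd (ym ι (G M)) g)
  let toU : ∀ z : t, UM z ⟶ Scheme.Etale.mk (D z.1).mC := fun z =>
    MorphismProperty.Over.homMk (incL (B := B) (D z.1).C (G M)) (tU_snd g ι (G M) (D z.1).mC (D z.1).hC).symm trivial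
  let toT : ∀ z : t, UM z ⟶ TM := fun z =>
    MorphismProperty.Over.homMk (tU g ι (G M) (D z.1).mC (D z.1).hC) rfl trivial
  let Dk : ∀ z : t, (UM z).left.Opens := fun z => PrimeSpectrum.basicOpen (cmap (D z.1).C φ.1 (xN z))
  let gk : ∀ z : t, restrictEtale (UM z) (Dk z) ⟶ TM := fun z => restrictEtaleHom (UM z) (Dk z) ≫ toT z
  obtain ⟨σ, hσ⟩ := exists_glue F (κ := t) gk (fun x => by
      obtain ⟨z, p, hp, hpx⟩ := Set.mem_iUnion.1 (hM.1 x)
      obtain ⟨p', hp', hp''⟩ := Scheme.exists_preimage_of_isPullback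
        (isPullback_tmap g ι (D z.1).mC (D z.1).hC φ.1) x p hpx.symm
      refine ⟨z, ⟨p', ?_⟩, ?_⟩
      · show cmap (D z.1).C φ.1 (xN z) ∉ p'.asIdeal
        exact fun hm => hp (hp''.symm ▸ hm)
      · exact (Scheme.Hom.comp_apply (Dk z).ι (tU g ι (G M) (D z.1).mC (D z.1).hC) _).trans hp')
    (fun z => F.obj.map (restrictEtaleHom (UM z) (Dk z) ≫ toU z).op (D z.1).s)
    (fun k l Ω _ _ ξ a ha a' ha' hab => by
      let x : Spec (CommRingCat.of Ω) ⟶ Spec (CommRingCat.of ((D k.1).C ⊗[B] G M)) := a ≫ (Dk k).ι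
      let x' : Spec (CommRingCat.of Ω) ⟶ Spec (CommRingCat.of ((D l.1).C ⊗[B] G M)) := a' ≫ (Dk l).ι
      have hx : x ≫ tU g ι (G M) (D k.1).mC (D k.1).hC = x' ≫ tU g ι (G M) (D l.1).mC (D l.1).hC :=
        (Category.assoc _ _ _).trans (hab.trans (Category.assoc _ _ _).symm)
      have e₁ : (x ≫ incL (B := B) (D k.1).C (G M)) ≫ (D k.1).mC = ξ := by
        rw [Category.assoc, ← tU_snd g ι (G M) (D k.1).mC (D k.1).hC]
        exact (Category.assoc _ _ _).trans ha
      have e₂ : (x' ≫ incL (B := B) (D l.1).C (G M)) ≫ (D l.1).mC = ξ := by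
        rw [Category.assoc, ← tU_snd g ι (G M) (D l.1).mC (D l.1).hC]
        exact (Category.assoc _ _ _).trans ha'
      refine (germ_map F _ (D k.1).s ξ a ha (x ≫ incL (B := B) (D k.1).C (G M)) e₁ (Category.assoc _ _ _).symm).trans
        (Eq.trans ?_ (germ_map F _ (D l.1).s ξ a' ha' (x' ≫ incL (B := B) (D l.1).C (G M)) e₂
          (Category.assoc _ _ _).symm).symm)
      refine (mem_agree_iff F (D k.1).s (D l.1).s ξ _ e₁ _ e₂).1 (hM.2 (k, l) Ω x x' ?_ ?_ hx)
      · have := (a default).2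
        rw [Scheme.Hom.comp_apply]
        exact this
      · have := (a' default).2
        rw [Scheme.Hom.comp_apply]
        exact this)
  refine ⟨M, σ, fun Ω _ _ ζ => ?_⟩
  obtain ⟨z, hz, p, hp, hpz⟩ := Set.mem_iUnion₂.1 (ht (Set.mem_univ (ζ default)))
  obtain ⟨y, hy, hyp⟩ := Scheme.exists_fac_of_etale_of_isSepClosed (tU g ι R (D z).mC (D z).hC) ζ p hpz
  rw [(D z).spec Ω y ζ hy (Set.mem_of_eq_of_mem hyp hp)]
  refine congrArg _ ?_
  let k : t := ⟨z, hz⟩
  let aD : Spec (CommRingCat.of Ω) ⟶ (Dk k : Scheme.{u}) :=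
    IsOpenImmersion.lift (Dk k).ι (y ≫ tmap (D z).C (gR M)) (by
      rintro _ ⟨t', rfl⟩
      rw [Scheme.Opens.range_ι, Scheme.Hom.comp_apply, Subsingleton.elim t' default, hyp]
      show cmap (D z).C (gR M) (cmap (D z).C φ.1 (xN k)) ∉ p.asIdeal
      rw [cmap_trans, hxN k]
      exact hp)
  have haD : aD ≫ (Dk k).ι = y ≫ tmap (D z).C (gR M) := IsOpenImmersion.lift_fac _ _ _
  have hgk : aD ≫ (gk k).left = ζ ≫ pmap g ι (gR M) := by
    show aD ≫ (Dk k).ι ≫ tU g ι (G M) (D z).mC (D z).hC = _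
    rw [← Category.assoc, haD, Category.assoc, tmap_tU, ← Category.assoc, hy]
  have haDh : aD ≫ (restrictEtale (UM k) (Dk k)).hom = ζ ≫ pullback.snd (ym ι R) g := by
    rw [← MorphismProperty.Over.w (gk k), ← Category.assoc, hgk]
    exact stage_pt g ι ζ
  rw [← germ_map F (gk k) σ _ aD haDh _ (stage_pt g ι ζ) hgk, hσ k]
  refine (germ_map F (restrictEtaleHom (UM k) (Dk k) ≫ toU k) (D z).s _ aD haDh (y ≫ incL (B := B) (D z).C R) _ ?_).symm
  show aD ≫ (Dk k).ι ≫ incL (B := B) (D z).C (G M) = _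
  rw [← Category.assoc, haD, Category.assoc, tmap_incL]

end Groth.Agent.H0FBC
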