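import Groth.Agent.H0FBC.FlatBC
import Groth.Agent.EtFound.SpectralPiZero
import Groth.Agent.GeomField.Connected

/-!
# Base change along an arbitrary morphism to the spectrum of a separably closed field
-/

set_option autoImplicit false
set_option linter.style.haveILetI false
set_option linter.unusedSectionVars false
set_option backward.isDefEq.respectTransparency false
set_option backward.isDefEq.respectTransparency.types false
universe u

open CategoryTheory CategoryTheory.Limits AlgebraicGeometry TopologicalSpace Opposite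

namespace Groth.Agent.H0FBC

open H0PBC EtFound

/-- connected schemes over separably closed fields are geometrically connected -/
theorem geometricallyConnected_of_connectedSpace {k : Type u} [Field k] [IsSepClosed k] {C : Scheme.{u}}
    [ConnectedSpace C] (p : C ⟶ Spec (CommRingCat.of k)) : GeometricallyConnected p := by
  letI : C.Over (Spec (CommRingCat.of k)) := ⟨p⟩
  exact GeomField.geometricallyConnected_of_separableClosure
    (GeomField.connectedSpace_bc_of_isSepClosed (k := k) (X := C) (SeparableClosure k))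

variable {k : Type u} [Field k] [IsSepClosed k]
  {X X' Y' : Scheme.{u}} {f : X ⟶ Spec (CommRingCat.of k)} {g : Y' ⟶ Spec (CommRingCat.of k)}
  {f' : X' ⟶ Y'} {g' : X' ⟶ X}
  {A : Type (u + 2)} [Category.{u + 1} A] [HasColimitsOfSize.{u, u} A] [HasProducts.{u} A]
  [∀ {P Q : Scheme.{u}} (h : P ⟶ Q),
    ((EtCoh.bc h).sheafPushforwardContinuous A Q.smallEtaleTopology P.smallEtaleTopology).IsRightAdjoint]
  {FA : A → A → Type*} {CA : A → Type (u + 1)}
  [∀ M N, FunLike (FA M N) (CA M) (CA N)] [ConcreteCategory.{u + 1} A FA]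
  [PreservesFilteredColimitsOfSize.{u, u} (forget A)]
  [∀ Z : Scheme.{u}, Z.smallEtaleTopology.HasSheafCompose (forget A)] [(forget A).ReflectsIsomorphisms]

include FA CA in
/-- base change in degree zero over a separably closed field -/
theorem isIso_baseChange_over_field (h : IsPullback g' f' f g) [QuasiCompact f] (F : Sheaf X.smallEtaleTopology A)
    (β : (pullA A g).obj ((pushA A f).obj F) ⟶ (pushA A f').obj ((pullA A g').obj F))
    (hβ : ∀ V : Scheme.Etale (Spec (CommRingCat.of k)),
      (((EtCoh.bc g).sheafAdjunctionContinuous A (Spec (CommRingCat.of k)).smallEtaleTopology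
          Y'.smallEtaleTopology).unit.app ((pushA A f).obj F)).hom.app (op V) ≫
            β.hom.app (op ((EtCoh.bc g).obj V)) =
        (((EtCoh.bc g').sheafAdjunctionContinuous A X.smallEtaleTopology X'.smallEtaleTopology).unit.app F).hom.app
          (op ((EtCoh.bc f).obj V)) ≫ ((pullA A g').obj F).obj.map (bcSquare h.w V).op) : IsIso β := by
  refine isIso_of_stalks β fun Ω _ _ η => ⟨?_, ?_⟩
  · intro p₁ p₂ e
    obtain ⟨V₁, τ₁, b₁, hb₁, rfl⟩ := exists_germ_eq g ((pushA A f).obj F) η (η ≫ g) rfl p₁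
    obtain ⟨V₂, τ₂, b₂, hb₂, rfl⟩ := exists_germ_eq g ((pushA A f).obj F) η (η ≫ g) rfl p₂
    let b : Spec (CommRingCat.of Ω) ⟶ (prodEt V₁ V₂).left := pullback.lift b₁ b₂ (hb₁.trans hb₂.symm)
    haveI : AlgebraicGeometry.Etale (prodEt V₁ V₂).hom := (prodEt V₁ V₂).prop
    obtain ⟨O₀, hO₀, hO₀'⟩ := isDiscrete_iff_forall_exists_isOpen.1
      ((prodEt V₁ V₂).hom.isDiscrete_preimage_singleton ((prodEt V₁ V₂).hom (b default))) (b default) rfl
    have hsingle : O₀ = {b default} := by
      refine (Set.inter_eq_left.2 fun w _ => ?_).symm.trans hO₀'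
      show (prodEt V₁ V₂).hom w = _
      exact @Subsingleton.elim _ (inferInstanceAs (Subsingleton (PrimeSpectrum k))) _ _
    let O : (prodEt V₁ V₂).left.Opens := ⟨O₀, hO₀⟩
    let Vn := restrictEtale (prodEt V₁ V₂) O
    let r₁ : Vn ⟶ V₁ := restrictEtaleHom _ O ≫ prodEtFst V₁ V₂
    let r₂ : Vn ⟶ V₂ := restrictEtaleHom _ O ≫ prodEtSnd V₁ V₂
    have hrb : Set.range b ⊆ Set.range O.ι := by
      rintro _ ⟨t, rfl⟩
      rw [Scheme.Opens.range_ι, Subsingleton.elim t default]
      exact hsingle.ge rfl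
    haveI : Subsingleton Vn.left := ⟨fun x y => Subtype.ext ((hsingle.le x.2).trans (hsingle.le y.2).symm)⟩
    let v : Spec (CommRingCat.of Ω) ⟶ Vn.left := IsOpenImmersion.lift O.ι b hrb
    have hv : v ≫ O.ι = b := IsOpenImmersion.lift_fac _ _ _
    have hvξ : v ≫ Vn.hom = η ≫ g := by
      show v ≫ O.ι ≫ pullback.fst V₁.hom V₂.hom ≫ V₁.hom = η ≫ g
      rw [← Category.assoc, hv, ← Category.assoc]
      exact (congrArg (· ≫ V₁.hom) (pullback.lift_fst _ _ _)).trans hb₁
    have hv₁ : v ≫ r₁.left = b₁ := by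
      show v ≫ O.ι ≫ pullback.fst V₁.hom V₂.hom = b₁
      rw [← Category.assoc, hv]
      exact pullback.lift_fst _ _ _
    have hv₂ : v ≫ r₂.left = b₂ := by
      show v ≫ O.ι ≫ pullback.snd V₁.hom V₂.hom = b₂
      rw [← Category.assoc, hv]
      exact pullback.lift_snd _ _ _
    rw [← germ_map ((pushA A f).obj F) r₁ τ₁ _ v hvξ b₁ hb₁ hv₁,
      ← germ_map ((pushA A f).obj F) r₂ τ₂ _ v hvξ b₂ hb₂ hv₂] at e ⊢
    generalize ((pushA A f).obj F).obj.map r₁.op τ₁ = t₁ at e ⊢
    generalize ((pushA A f).obj F).obj.map r₂.op τ₂ = t₂ at e ⊢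
    let c : Spec (CommRingCat.of Ω) ⟶ ((EtCoh.bc g).obj Vn).left := pullback.lift v η hvξ
    have hc : c ≫ ((EtCoh.bc g).obj Vn).hom = η := pullback.lift_snd _ _ _
    let c' : (Scheme.pointSmallEtale η).fiber.obj ((EtCoh.bc g).obj Vn) := CategoryTheory.Over.homMk c hc
    have hgp : ∀ t : ToType (((pushA A f).obj F).obj.obj (op Vn)),
        toPullStalk g ((pushA A f).obj F) η (η ≫ g) rfl (germ ((pushA A f).obj F) t (η ≫ g) v hvξ) =
          (Scheme.pointSmallEtale η).toPresheafFiber _ c' ((pullA A g).obj ((pushA A f).obj F)).obj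
            (pullSect g ((pushA A f).obj F) t) := fun t =>
      (germ_pullSect g ((pushA A f).obj F) η _ rfl t c hc v hvξ (pullback.lift_fst _ _ _)).symm
    rw [hgp, hgp] at e
    have e' := (((Scheme.pointSmallEtale η).toPresheafFiber_naturality_apply β.hom _ c' _).symm.trans e).trans
      ((Scheme.pointSmallEtale η).toPresheafFiber_naturality_apply β.hom _ c' _)
    obtain ⟨U₁, κ, z, -, hk⟩ := ((Scheme.pointSmallEtale η).toPresheafFiber_eq_iff' _ c' _ _).1 e'
    let a₁ : U₁.left ⟶ Vn.left := κ.left ≫ pullback.fst Vn.hom g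
    have ha₁ : a₁ ≫ Vn.hom = U₁.hom ≫ g := by
      refine (Category.assoc _ _ _).trans ?_
      rw [pullback.condition, ← Category.assoc]
      exact congrArg (· ≫ g) (MorphismProperty.Over.w κ)
    have hmk : toBC g a₁ ha₁ = κ := by
      refine MorphismProperty.Over.Hom.ext (pullback.hom_ext (pullback.lift_fst _ _ _) ?_)
      exact (pullback.lift_snd _ _ _).trans (MorphismProperty.Over.w κ).symm
    haveI : Surjective a₁ := ⟨fun t =>
      ⟨(z.left : Spec (CommRingCat.of Ω) ⟶ U₁.left) (default : Spec (CommRingCat.of Ω)), Subsingleton.elim _ _⟩⟩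
    haveI : Surjective (bcMap h.w a₁ ha₁) := prop_bcMap a₁ ha₁ h @Surjective inferInstance
    refine congrArg _ (congrArg (fun s => germ ((pushA A f).obj F) s _ v hvξ) ?_)
    refine eq_of_pullSect_eq g' F (bcMap h.w a₁ ha₁) (bcMap_w h.w a₁ ha₁) t₁ t₂ ?_
    have n : ∀ t, β.hom.app (op U₁) (((pullA A g).obj ((pushA A f).obj F)).obj.map (toBC g a₁ ha₁).op t) =
        ((pushA A f').obj ((pullA A g').obj F)).obj.map κ.op (β.hom.app (op ((EtCoh.bc g).obj Vn)) t) := by
      intro t
      refine (NatTrans.naturality_apply β.hom _ t).trans ?_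
      rw [hmk]
    rw [← beta_toBC h F β hβ a₁ ha₁ t₁, ← beta_toBC h F β hβ a₁ ha₁ t₂, n, n, hk]
  · intro q
    obtain ⟨U₀, z, s, rfl⟩ := (Scheme.pointSmallEtale η).toPresheafFiber_jointly_surjective q
    let x₀ := (z.left : Spec (CommRingCat.of Ω) ⟶ U₀.left) (default : Spec (CommRingCat.of Ω))
    obtain ⟨P, hP, hxP, -⟩ := exists_isAffineOpen_mem_and_subset (x := x₀) (U := (⊤ : U₀.left.Opens)) trivial
    let U := restrictEtale U₀ P
    obtain ⟨zU, hzU, hzU'⟩ := EtFound.exists_lift_point (restrictEtaleHom U₀ P) z ⟨x₀, hxP⟩ rfl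
    let S := EtCoh.top (Spec (CommRingCat.of k))
    let a : U.left ⟶ S.left := U.hom ≫ g
    have ha : a ≫ S.hom = U.hom ≫ g := Category.comp_id _
    haveI : IsAffine U.left := hP
    haveI : CompactSpace U.left := inferInstance
    haveI : QuasiSeparatedSpace U.left := inferInstance
    haveI : SpectralSpace U.left := { }
    let xc : U.left := (⟨x₀, hxP⟩ : (P : Scheme.{u}))
    let Zs : Closeds U.left := ⟨connectedComponent xc, isClosed_connectedComponent⟩
    let I := Scheme.IdealSheafData.vanishingIdeal Zs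
    let j₀ := I.subschemeι
    have hj₀ : Set.range j₀ = connectedComponent xc :=
      (Scheme.IdealSheafData.range_subschemeι I).trans (Scheme.IdealSheafData.coe_support_vanishingIdeal Zs)
    haveI : ConnectedSpace I.subscheme := by
      haveI : Nonempty I.subscheme := by
        obtain ⟨y, -⟩ := hj₀.ge (mem_connectedComponent (x := xc))
        exact ⟨y⟩
      haveI : PreconnectedSpace I.subscheme := ⟨j₀.isEmbedding.isInducing.isPreconnected_image.1 (by
        rw [Set.image_univ, hj₀]; exact isPreconnected_connectedComponent)⟩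
      exact ⟨‹_›⟩
    haveI : GeometricallyConnected (j₀ ≫ a) := geometricallyConnected_of_connectedSpace (k := k) (j₀ ≫ a)
    haveI : Flat (j₀ ≫ a) := inferInstanceAs (Flat (j₀ ≫ a : _ ⟶ Spec (CommRingCat.of k)))
    haveI : QuasiCompact (U.hom ≫ g : U.left ⟶ Spec (CommRingCat.of k)) := inferInstance
    haveI : QuasiCompact (j₀ ≫ a) := inferInstanceAs (QuasiCompact (j₀ ≫ U.hom ≫ g))
    -- the restriction to the connected component
    let Wc := pullback (pullback.fst U.hom f') j₀
    let jc : Wc ⟶ ((EtCoh.bc f').obj U).left := pullback.fst (pullback.fst U.hom f') j₀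
    let pc : Wc ⟶ I.subscheme := pullback.snd (pullback.fst U.hom f') j₀
    have sq : IsPullback pc (jc ≫ bcMap h.w a ha) (j₀ ≫ a) (pullback.fst S.hom f) :=
      ((IsPullback.of_hasPullback (pullback.fst U.hom f') j₀).paste_horiz (isPullback_bcMap a ha h)).flip
    haveI : GeometricallyConnected (jc ≫ bcMap h.w a ha) := MorphismProperty.of_isPullback sq inferInstance
    haveI : Flat (jc ≫ bcMap h.w a ha) := MorphismProperty.of_isPullback sq inferInstance
    haveI : QuasiCompact (jc ≫ bcMap h.w a ha) := MorphismProperty.of_isPullback sq inferInstance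
    let σ := ((pushA A f').obj ((pullA A g').obj F)).obj.map (restrictEtaleHom U₀ P).op s
    obtain ⟨τ, hτ⟩ := exists_eqLocus_range g' F (bcMap h.w a ha) (bcMap_w h.w a ha) σ jc (.inl inferInstance)
    -- a clopen neighbourhood of the component
    let L := eqLocus ((pullA A g').obj F)
      (((pullA A g').obj F).obj.map (toBC g' (bcMap h.w a ha) (bcMap_w h.w a ha)).op (pullSect g' F τ)) σ
    let pU : ((EtCoh.bc f').obj U).left ⟶ U.left := pullback.fst U.hom f'
    haveI : QuasiCompact pU := by
      haveI : QuasiCompact f' := MorphismProperty.of_isPullback h inferInstance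
      exact MorphismProperty.pullback_fst U.hom f' inferInstance
    haveI : CompactSpace ((EtCoh.bc f').obj U).left := QuasiCompact.compactSpace_of_compactSpace pU
    have hbad : ∀ w ∈ (L : Set ((EtCoh.bc f').obj U).left)ᶜ, ∃ W, IsClopen W ∧ xc ∈ W ∧ pU w ∉ W := by
      intro w hw
      by_contra hcon
      have hmem : pU w ∈ connectedComponent xc := by
        rw [EtFound.SpectralPiZero.connectedComponent_eq_iInter_clopen]
        exact Set.mem_sInter.2 fun W hW => by_contra fun hn => hcon ⟨W, hW.1, hW.2, hn⟩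
      refine hw (hτ ?_)
      show w ∈ Set.range (pullback.fst (pullback.fst U.hom f') j₀)
      rw [Scheme.Pullback.range_fst]
      exact hj₀.ge hmem
    obtain ⟨W, hW, hxW, hdis⟩ := EtFound.SpectralPiZero.exists_clopen_subset xc
      ((L.2.isClosed_compl).isCompact.image pU.continuous) (by rintro _ ⟨w, hw, rfl⟩; exact hbad w hw)
    let U' := restrictEtale U ⟨W, hW.isOpen⟩
    let m : U' ⟶ U := restrictEtaleHom U ⟨W, hW.isOpen⟩
    obtain ⟨zW, hzW, -⟩ := EtFound.exists_lift_point m zU ⟨xc, hxW⟩ hzU'.symm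
    let t := ((pullA A g).obj ((pushA A f).obj F)).obj.map (toBC g a ha).op (pullSect g ((pushA A f).obj F) τ)
    refine ⟨(Scheme.pointSmallEtale η).toPresheafFiber U zU ((pullA A g).obj ((pushA A f).obj F)).obj t, ?_⟩
    refine ((Scheme.pointSmallEtale η).toPresheafFiber_naturality_apply β.hom U zU t).trans ?_
    rw [beta_toBC h F β hβ a ha τ, ← hzU, ← hzW]
    refine Eq.trans ?_ ((Scheme.pointSmallEtale η).toPresheafFiber_w_apply (restrictEtaleHom U₀ P) _
      ((pushA A f').obj ((pullA A g').obj F)).obj s)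
    refine ((Scheme.pointSmallEtale η).toPresheafFiber_w_apply m zW ((pushA A f').obj ((pullA A g').obj F)).obj _).symm.trans
      (Eq.trans ?_ ((Scheme.pointSmallEtale η).toPresheafFiber_w_apply m zW ((pushA A f').obj ((pullA A g').obj F)).obj σ))
    refine congrArg _ (section_ext ((pullA A g').obj F) _ _ fun Ω' _ _ ζ c hc => ?_)
    have hc' : (c ≫ ((EtCoh.bc f').map m).left) ≫ ((EtCoh.bc f').obj U).hom = ζ := by
      rw [Category.assoc, MorphismProperty.Over.w ((EtCoh.bc f').map m)]; exact hc
    refine (germ_map _ ((EtCoh.bc f').map m) _ ζ c hc _ hc' rfl).trans (Eq.trans ?_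
      (germ_map _ ((EtCoh.bc f').map m) σ ζ c hc _ hc' rfl).symm)
    refine (mem_eqLocus_iff ((pullA A g').obj F) _ σ ζ _ hc').1 (by_contra fun hn => ?_)
    refine Set.disjoint_left.1 hdis ?_ ⟨_, hn, rfl⟩
    show pullback.fst U.hom f' ((c ≫ ((EtCoh.bc f').map m).left) default) ∈ W
    rw [show pullback.fst U.hom f' ((c ≫ ((EtCoh.bc f').map m).left) default) = m.left (pullback.fst U'.hom f' (c default)) from
      (Scheme.Hom.comp_apply _ _ _).symm.trans ((congrArg (fun l : Spec (CommRingCat.of Ω') ⟶ U.left => l default)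
        ((Category.assoc _ _ _).trans ((congrArg (c ≫ ·) (pullback.lift_fst _ _ _)).trans
          (Category.assoc _ _ _).symm))).trans (Scheme.Hom.comp_apply (c ≫ pullback.fst U'.hom f') m.left default))]
    exact ((pullback.fst U'.hom f') (c default)).2

end Groth.Agent.H0FBC
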