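import Groth.Agent.H0FBC.SecPull
import Groth.Agent.EtFound.IntegralBaseChange
import Groth.Agent.GeomSep.Basic
import Groth.Agent.DirColim.Basic
import Groth.Prelude.Def_EtAcyc
import Mathlib.RingTheory.Localization.Integral
import Mathlib.AlgebraicGeometry.Geometrically.Connected

/-!
# 0-acyclic morphisms of affine schemes have connected geometric fibres
-/

set_option autoImplicit false
set_option linter.style.haveILetI false
set_option linter.unusedSectionVars false
set_option backward.isDefEq.respectTransparency false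
set_option backward.isDefEq.respectTransparency.types false
universe u

open CategoryTheory CategoryTheory.Limits AlgebraicGeometry TopologicalSpace Opposite
open scoped TensorProduct

attribute [-instance] CategoryTheory.catToReflQuiver

namespace Groth.Agent.H0FBC

open H0PBC EtFound

/-- the base change map of sheaves of sets, in terms of units -/
theorem baseChange0Sh_unit {X Y X' Y' : Scheme.{u}} {f : X ⟶ Y} {g : Y' ⟶ Y} {f' : X' ⟶ Y'} {g' : X' ⟶ X}
    (w : g' ≫ f = f' ≫ g) (F : EtDesc.Sh X) (V : Y.Etale) :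
    ((EtDesc.adjSh g).unit.app ((EtDesc.pushSh f).obj F)).hom.app (op V) ≫
        (EtBC.baseChange0Sh f g f' g' w F).hom.app (op ((EtCoh.bc g).obj V)) =
      ((EtDesc.adjSh g').unit.app F).hom.app (op ((EtCoh.bc f).obj V)) ≫
        ((pullA (Type (u + 1)) g').obj F).obj.map (bcSquare w V).op := by
  have hu := ((EtDesc.adjSh g).homEquiv _ _).apply_symm_apply
    ((EtDesc.pushSh f).map ((EtDesc.adjSh g').unit.app F) ≫ (EtDesc.pushCompSh f g').hom.app _ ≫
      (EtBC.pushCongrSh w).hom.app _ ≫ (EtDesc.pushCompSh g f').inv.app _)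
  rw [Adjunction.homEquiv_unit] at hu
  refine (congr(($hu).hom.app (op V))).trans ?_
  simp [EtFound.bcSquare, EtDesc.pushCompSh, EtBC.pushCongrSh]

/-- base change of sheaves of sets along integral morphisms -/
theorem isIso_baseChange0Sh_of_integral {X Y X' Y' : Scheme.{u}} {f : X ⟶ Y} {g : Y' ⟶ Y} {f' : X' ⟶ Y'}
    {g' : X' ⟶ X} (h : IsPullback g' f' f g) [IsIntegralHom f] (F : EtDesc.Sh X) :
    IsIso (EtBC.baseChange0Sh f g f' g' h.w F) :=
  EtFound.isIso_baseChange_of_integral (A := Type (u + 1)) h F _ fun V => baseChange0Sh_unit h.w F V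

/-- there is a sheaf of sets with two global sections which differ at every point -/
theorem exists_two_sections (T : Scheme.{u}) : ∃ (F : EtDesc.Sh T) (s t : EtDesc.sect F (EtCoh.top T)),
    ∀ (Ω : Type u) [Field Ω] [IsSepClosed Ω] (ξ : Spec (CommRingCat.of Ω) ⟶ T),
      germ F s ξ ξ (Category.comp_id _) ≠ germ F t ξ ξ (Category.comp_id _) := by
  let J := T.smallEtaleTopology
  let s : EtDesc.sect (sieveSheaf T) (EtCoh.top T) := ⟨J.close ⊥, J.close_isClosed ⊥⟩
  let t : EtDesc.sect (sieveSheaf T) (EtCoh.top T) := ⟨(⊤ : Sieve (EtCoh.top T)), fun _ _ _ => trivial⟩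
  refine ⟨sieveSheaf T, s, t, fun Ω _ _ ξ e => ?_⟩
  have hm := (mem_eqLocus_iff (Ω := Ω) (sieveSheaf T) s t ξ ξ (Category.comp_id _)).2 e
  obtain ⟨V, hm⟩ := Set.mem_iUnion.1 hm
  obtain ⟨k, hm⟩ := Set.mem_iUnion.1 hm
  obtain ⟨hk, v, -⟩ := Set.mem_iUnion.1 hm
  have h1 : Sieve.pullback k (J.close ⊥) = Sieve.pullback k ⊤ := congrArg Subtype.val hk
  have h2 : (Sieve.pullback k (J.close ⊥)).arrows (𝟙 V) := by rw [h1]; trivial
  obtain ⟨W, g, _, hg, -⟩ := (EtFound.mem_topology_iff _).1 h2 v
  exact hg

/-- pullback of sections of all sheaves being bijective, the source is connected -/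
theorem connectedSpace_of_secPull_bijective {X Y : Scheme.{u}} (h : Y ⟶ X) [IrreducibleSpace X]
    (hbij : ∀ F : EtDesc.Sh X, Function.Bijective (EtDesc.secPull h F)) : ConnectedSpace Y := by
  obtain ⟨F, s, t, hst⟩ := exists_two_sections X
  haveI hne : Nonempty Y := by
    by_contra hY
    have e : EtDesc.secPull h F s = EtDesc.secPull h F t := secPull_eq_of_germs h F s t fun Ω _ _ ζ =>
      (hY ⟨ζ default⟩).elim
    obtain ⟨Ω, _, _, ξ, -⟩ := H0PBC.exists_geom_point (Classical.arbitrary X)
    exact hst Ω ξ (by rw [(hbij F).1 e])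
  haveI : PreconnectedSpace Y := by
    refine preconnectedSpace_iff_clopen.2 fun C hC => ?_
    by_contra hcon
    rw [not_or] at hcon
    obtain ⟨c, hc⟩ := Set.nonempty_iff_ne_empty.2 hcon.1
    obtain ⟨c', hc'⟩ := (Set.ne_univ_iff_exists_notMem C).1 hcon.2
    let G := (EtDesc.pullSh h).obj F
    let O : Bool → Y.Opens := fun b => bif b then ⟨C, hC.isOpen⟩ else ⟨Cᶜ, hC.compl.isOpen⟩
    let sb : Bool → EtDesc.sect F (EtCoh.top X) := fun b => bif b then s else t
    let gk : ∀ b : ULift.{u} Bool, restrictEtale (EtCoh.top Y) (O b.down) ⟶ EtCoh.top Y := fun b =>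
      restrictEtaleHom (EtCoh.top Y) (O b.down)
    obtain ⟨σ, hσ⟩ := exists_glue (X := Y) G gk (fun y => by
        by_cases hy : y ∈ C
        · exact ⟨⟨true⟩, ⟨y, hy⟩, rfl⟩
        · exact ⟨⟨false⟩, ⟨y, hy⟩, rfl⟩)
      (fun b => G.obj.map (gk b).op (EtDesc.secPull h F (sb b.down)))
      (fun k l Ω _ _ ζ a ha b hb hab => by
        have hkl : k = l := by
          have hy : (O k.down).ι (a default) = (O l.down).ι (b default) :=
            (Scheme.Hom.comp_apply a (O k.down).ι default).symm.trans
              ((congrArg (fun m : Spec (CommRingCat.of Ω) ⟶ Y => m default) hab).trans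
                (Scheme.Hom.comp_apply b (O l.down).ι default))
          have h1 : (O k.down).ι (a default) ∈ O k.down := (a default).2
          have h2 : (O k.down).ι (a default) ∈ O l.down := by rw [hy]; exact (b default).2
          rcases k with ⟨_ | _⟩ <;> rcases l with ⟨_ | _⟩
          · rfl
          · exact absurd h2 h1
          · exact absurd h1 h2
          · rfl
        subst hkl
        have hab' : a = b := (cancel_mono (O k.down).ι).1 hab
        subst hab'
        rfl)
    obtain ⟨r, hr⟩ := (hbij F).2 σ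
    have key : ∀ (b : Bool) (y : Y), y ∈ O b → h y ∈ eqLocus F (W := EtCoh.top X) r (sb b) := by
      intro b y hy
      obtain ⟨Ω, _, _, ζ, rfl⟩ := H0PBC.exists_geom_point y
      rw [← Scheme.Hom.comp_apply]
      refine (mem_eqLocus_iff (Ω := Ω) F r (sb b) (ζ ≫ h) (ζ ≫ h) (Category.comp_id _)).2 ?_
      let a : Spec (CommRingCat.of Ω) ⟶ (O b).toScheme := IsOpenImmersion.lift (O b).ι ζ (by
        rintro _ ⟨x, rfl⟩
        rw [Scheme.Opens.range_ι, Subsingleton.elim x default]
        exact hy)
      have ha : a ≫ (O b).ι = ζ := IsOpenImmersion.lift_fac _ _ _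
      have ha' : a ≫ (restrictEtale (EtCoh.top Y) (O b)).hom = ζ := by
        show a ≫ (O b).ι ≫ 𝟙 Y = ζ
        rw [Category.comp_id, ha]
      refine toPullStalk_injective h F ζ (ζ ≫ h) rfl ?_
      rw [← germ_secPull h F r ζ (ζ ≫ h) rfl ζ (Category.comp_id _) _ (Category.comp_id _), hr,
        ← germ_secPull h F (sb b) ζ (ζ ≫ h) rfl ζ (Category.comp_id _) _ (Category.comp_id _),
        ← germ_map G (gk ⟨b⟩) σ ζ a ha' ζ (Category.comp_id _) ha, hσ ⟨b⟩,
        germ_map G (gk ⟨b⟩) (EtDesc.secPull h F (sb b)) ζ a ha' ζ (Category.comp_id _) ha]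
    obtain ⟨x, -, hxs, hxt⟩ := (IrreducibleSpace.isIrreducible_univ X).isPreirreducible
      (eqLocus F (W := EtCoh.top X) r (sb true)).1 (eqLocus F (W := EtCoh.top X) r (sb false)).1
      (eqLocus F (W := EtCoh.top X) r (sb true)).2 (eqLocus F (W := EtCoh.top X) r (sb false)).2
      ⟨h c, trivial, key true c hc⟩ ⟨h c', trivial, key false c' hc'⟩
    obtain ⟨Ω, _, _, ξ, rfl⟩ := H0PBC.exists_geom_point x
    refine hst Ω ξ ?_
    exact ((mem_eqLocus_iff (Ω := Ω) F r (sb true) ξ ξ (Category.comp_id _)).1 hxs).symm.trans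
      ((mem_eqLocus_iff (Ω := Ω) F r (sb false) ξ ξ (Category.comp_id _)).1 hxt)
  exact ⟨hne⟩

/-- the unit being bijective gives bijective pullback of sections -/
theorem secPull_bijective_of_isIso {X Y : Scheme.{u}} (p : Y ⟶ X) (F : EtDesc.Sh X)
    [hi : IsIso ((EtDesc.adjSh p).unit.app F)] : Function.Bijective (EtDesc.secPull p F) := by
  haveI : IsIso ((EtDesc.adjSh p).unit.app F).hom :=
    inferInstanceAs (IsIso ((sheafToPresheaf _ _).map ((EtDesc.adjSh p).unit.app F)))
  exact (bijective_map_bcTop p _).2.comp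
    (ConcreteCategory.bijective_of_isIso (((EtDesc.adjSh p).unit.app F).hom.app (op (EtCoh.top X))))

/-- idempotents are trivial in rings with connected spectrum -/
theorem eq_zero_or_one_of_connectedSpace {T : Type*} [CommRing T] [ConnectedSpace (PrimeSpectrum T)] {e : T}
    (he : IsIdempotentElem e) : e = 0 ∨ e = 1 := by
  rcases isClopen_iff.1 (PrimeSpectrum.isClopen_iff.2 ⟨e, he, rfl⟩) with h | h
  · refine .inl (PrimeSpectrum.basicOpen_injOn_isIdempotentElem he IsIdempotentElem.zero ?_)
    exact SetLike.ext' (h.trans (by rw [PrimeSpectrum.basicOpen_zero]; rfl))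
  · refine .inr (PrimeSpectrum.basicOpen_injOn_isIdempotentElem he IsIdempotentElem.one ?_)
    exact SetLike.ext' (h.trans (by rw [PrimeSpectrum.basicOpen_one]; rfl))

/-- rings with trivial idempotents have connected spectrum -/
theorem connectedSpace_of_idempotent {T : Type*} [CommRing T] [Nontrivial T]
    (h : ∀ e : T, IsIdempotentElem e → e = 0 ∨ e = 1) : ConnectedSpace (PrimeSpectrum T) := by
  haveI : PreconnectedSpace (PrimeSpectrum T) := preconnectedSpace_iff_clopen.2 fun s hs => by
    obtain ⟨e, he, rfl⟩ := PrimeSpectrum.isClopen_iff.1 hs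
    rcases h e he with rfl | rfl
    · exact .inl (by rw [PrimeSpectrum.basicOpen_zero]; rfl)
    · exact .inr (by rw [PrimeSpectrum.basicOpen_one]; rfl)
  exact ⟨inferInstance⟩

variable {R R' : Type u} [CommRing R] [CommRing R'] [Algebra R R']

/-- pieces of geometric fibres of 0-acyclic morphisms are connected -/
theorem connectedSpace_tensor_away (hac : EtAcyc.IsZeroAcyclic (Spec.map (CommRingCat.ofHom (algebraMap R R'))))
    (r : R) (Z : Type u) [CommRing Z] [IsDomain Z] [Algebra R Z] [Algebra (Localization.Away r) Z]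
    [IsScalarTower R (Localization.Away r) Z] [Algebra.IsIntegral (Localization.Away r) Z] :
    ConnectedSpace (PrimeSpectrum (Z ⊗[R] R')) := by
  let v : Spec (CommRingCat.of (Localization.Away r)) ⟶ Spec (CommRingCat.of R) :=
    Spec.map (CommRingCat.ofHom (algebraMap R (Localization.Away r)))
  haveI : AlgebraicGeometry.Etale v :=
    haveI : IsOpenImmersion v := IsOpenImmersion.of_isLocalization r
    inferInstance
  let V : (Spec (CommRingCat.of R)).Etale := Scheme.Etale.mk v
  let P := Spec.map (CommRingCat.ofHom (algebraMap R R'))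
  let i : Spec (CommRingCat.of Z) ⟶ Spec (CommRingCat.of (Localization.Away r)) :=
    Spec.map (CommRingCat.ofHom (algebraMap (Localization.Away r) Z))
  haveI : IsIntegralHom i := IsIntegralHom.SpecMap_iff.2 (algebraMap_isIntegral_iff.2 inferInstance)
  let h : pullback V.hom P ⟶ V.left := EtAcyc.prj P V
  have hh : ∀ F : EtDesc.Sh V.left, Function.Bijective (EtDesc.secPull h F) := fun F =>
    haveI := hac V F
    secPull_bijective_of_isIso h F
  have hb : ∀ Fb : EtDesc.Sh (Spec (CommRingCat.of Z)), Function.Bijective (EtDesc.secPull (pullback.fst i h) Fb) :=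
    secPull_bijective_baseChange (IsPullback.of_hasPullback i h) hh
      fun Fb => isIso_baseChange0Sh_of_integral (IsPullback.of_hasPullback i h) Fb
  haveI := connectedSpace_of_secPull_bijective (pullback.fst i h) hb
  have hiv : i ≫ v = Spec.map (CommRingCat.ofHom (algebraMap R Z)) := by
    rw [← Spec.map_comp, ← CommRingCat.ofHom_comp, ← IsScalarTower.algebraMap_eq]
  let e : pullback i h ≅ Spec (CommRingCat.of (Z ⊗[R] R')) :=
    pullbackRightPullbackFstIso v P i ≪≫ pullback.congrHom hiv rfl ≪≫ pullbackSpecIso R Z R'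
  exact e.hom.homeomorph.surjective.connectedSpace e.hom.homeomorph.continuous

/-- geometric fibres of 0-acyclic morphisms of affine schemes are connected -/
theorem geometricallyConnected_of_isZeroAcyclic
    (hac : EtAcyc.IsZeroAcyclic (Spec.map (CommRingCat.ofHom (algebraMap R R')))) :
    GeometricallyConnected (Spec.map (CommRingCat.ofHom (algebraMap R R'))) := by
  classical
  refine ⟨fun L _ y W f₁ f₂ hW => ?_⟩
  obtain ⟨φ, rfl⟩ := Spec.map_surjective y
  letI : Algebra R L := φ.hom.toAlgebra
  suffices hL : ConnectedSpace (PrimeSpectrum (L ⊗[R] R')) by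
    haveI : ConnectedSpace ↥(Spec (CommRingCat.of (L ⊗[R] R'))) := hL
    let e : W ≅ Spec (CommRingCat.of (L ⊗[R] R')) := hW.flip.isoPullback ≪≫ pullbackSpecIso R L R'
    exact e.inv.homeomorph.surjective.connectedSpace e.inv.homeomorph.continuous
  let p : Ideal R := RingHom.ker (algebraMap R L)
  haveI : p.IsPrime := RingHom.ker_isPrime _
  let Rp := Localization.AtPrime p
  let k := p.ResidueField
  let K := AlgebraicClosure k
  letI : Algebra k L := (Ideal.ResidueField.lift p (algebraMap R L) le_rfl fun x hx => isUnit_iff_ne_zero.2 hx).toAlgebra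
  haveI : IsScalarTower R k L := .of_algebraMap_eq fun x => (Ideal.ResidueField.lift_algebraMap p _ _ _ x).symm
  let M := AlgebraicClosure L
  let θ : K →ₐ[k] M := IsAlgClosed.lift
  letI : Algebra K M := θ.toRingHom.toAlgebra
  haveI : IsScalarTower k K M := .of_algebraMap_eq' θ.comp_algebraMap.symm
  haveI : IsScalarTower R K M := .of_algebraMap_eq fun x => by
    rw [IsScalarTower.algebraMap_apply R k K, ← IsScalarTower.algebraMap_apply k K M,
      ← IsScalarTower.algebraMap_apply R k M]
  suffices hK : ConnectedSpace (PrimeSpectrum (K ⊗[R] R')) by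
    haveI := GeomSep.connectedSpace_tensor (k := K) M (K ⊗[R] R')
    haveI : ConnectedSpace (PrimeSpectrum (M ⊗[R] R')) :=
      GeomSep.connectedSpace_of_equiv (Algebra.TensorProduct.cancelBaseChange R K M M R').symm.toRingEquiv
    haveI : ConnectedSpace (PrimeSpectrum (M ⊗[L] (L ⊗[R] R'))) :=
      GeomSep.connectedSpace_of_equiv (Algebra.TensorProduct.cancelBaseChange R L M M R').toRingEquiv
    haveI : ConnectedSpace (PrimeSpectrum (L ⊗[L] (L ⊗[R] R'))) :=
      GeomSep.connectedSpace_of_surjective (PrimeSpectrum.continuous_comap _)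
        (GeomSep.comap_map_surjective (k := L) (R := L ⊗[R] R') (Algebra.ofId L M))
    exact GeomSep.connectedSpace_of_equiv (Algebra.TensorProduct.lid L (L ⊗[R] R')).symm.toRingEquiv
  -- the fibre over the algebraic closure is a limit
  haveI : Algebra.IsIntegral Rp K := ⟨fun x => by
    obtain ⟨q, hq, hqx⟩ := (Algebra.IsIntegral.isIntegral (R := k) x)
    obtain ⟨Q, hQ, -, hQm⟩ := Polynomial.lifts_and_natDegree_eq_and_monic
      ((Polynomial.mem_lifts q).2 (Polynomial.map_surjective _ IsLocalRing.residue_surjective q)) hq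
    refine ⟨Q, hQm, ?_⟩
    rw [← hQ] at hqx
    rw [Polynomial.eval₂_map] at hqx
    exact hqx⟩
  have hunit : ∀ r : p.primeCompl, IsUnit (algebraMap R K r) := fun r => by
    rw [IsScalarTower.algebraMap_apply R Rp K]
    exact (IsLocalization.map_units Rp r).map _
  let φr : ∀ r : p.primeCompl, Localization.Away (r : R) →+* K := fun r => IsLocalization.Away.lift (r : R) (hunit r)
  let G : p.primeCompl → Subalgebra R K := fun r =>
    letI := (φr r).toAlgebra
    haveI : IsScalarTower R (Localization.Away (r : R)) K :=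
      .of_algebraMap_eq fun x => (IsLocalization.Away.lift_eq (r : R) (hunit r) x).symm
    (integralClosure (Localization.Away (r : R)) K).restrictScalars R
  have hmem : ∀ (r : p.primeCompl) (x : K), x ∈ G r ↔ (φr r).IsIntegralElem x := fun r x => Iff.rfl
  have hmono : ∀ r s : p.primeCompl, G r ≤ G (r * s) := by
    intro r s x hx
    obtain ⟨q, hq, hqx⟩ := (hmem r x).1 hx
    let ρ : Localization.Away (r : R) →+* Localization.Away ((r * s : p.primeCompl) : R) :=
      IsLocalization.Away.awayToAwayRight (r : R) (s : R)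
    refine (hmem _ x).2 ⟨q.map ρ, hq.map ρ, ?_⟩
    rw [Polynomial.eval₂_map, show (φr (r * s)).comp ρ = φr r from
      IsLocalization.ringHom_ext (Submonoid.powers (r : R)) (RingHom.ext fun y => by
        simp [ρ, φr, IsLocalization.Away.lift_eq, IsLocalization.Away.awayToAwayRight_eq])]
    exact hqx
  have hG : DirColim.IsColim (fun r => (G r).val) := by
    refine ⟨fun x => ?_, fun r s => ⟨r * s, ⟨⟨Subalgebra.inclusion (hmono r s), ?_⟩⟩,
      ⟨⟨Subalgebra.inclusion ((hmono s r).trans (by rw [mul_comm])), ?_⟩⟩⟩, fun r x hx => ?_⟩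
    · obtain ⟨m, hm⟩ := IsIntegral.exists_multiple_integral_of_isLocalization p.primeCompl x
        (Algebra.IsIntegral.isIntegral (R := Rp) x)
      refine ⟨m, ⟨x, ?_⟩, rfl⟩
      letI := (φr m).toAlgebra
      haveI : IsScalarTower R (Localization.Away (m : R)) K :=
        .of_algebraMap_eq fun x => (IsLocalization.Away.lift_eq (m : R) (hunit m) x).symm
      have h1 : IsIntegral (Localization.Away (m : R)) (m • x) := hm.tower_top
      have h2 := h1.mul (isIntegral_algebraMap (R := Localization.Away (m : R)) (A := K)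
        (x := IsLocalization.Away.invSelf (m : R)))
      have e : (m • x) * algebraMap (Localization.Away (m : R)) K (IsLocalization.Away.invSelf (m : R)) = x := by
        rw [Submonoid.smul_def, Algebra.smul_def, IsScalarTower.algebraMap_apply R (Localization.Away (m : R)) K,
          mul_right_comm, ← map_mul, IsLocalization.Away.mul_invSelf, map_one, one_mul]
      rwa [e] at h2
    · exact AlgHom.ext fun _ => rfl
    · exact AlgHom.ext fun _ => rfl
    · exact ⟨r, ⟨AlgHom.id R _, AlgHom.comp_id _⟩, Subtype.ext hx⟩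
  have hconn : ∀ r : p.primeCompl, ConnectedSpace (PrimeSpectrum (↥(G r) ⊗[R] R')) := by
    intro r
    letI := (φr r).toAlgebra
    haveI : IsScalarTower R (Localization.Away (r : R)) K :=
      .of_algebraMap_eq fun x => (IsLocalization.Away.lift_eq (r : R) (hunit r) x).symm
    exact connectedSpace_tensor_away hac (r : R) ↥(integralClosure (Localization.Away (r : R)) K)
  have hcol := hG.tensorRight R'
  haveI : Nontrivial (K ⊗[R] R') := by
    by_contra hn
    haveI := not_nontrivial_iff_subsingleton.1 hn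
    obtain ⟨r₀, -, -⟩ := hG.surj 0
    obtain ⟨r, φ, hr⟩ := hcol.ker r₀ 1 (Subsingleton.elim _ _)
    haveI := hconn r
    haveI : Nontrivial (↥(G r) ⊗[R] R') := PrimeSpectrum.nonempty_iff_nontrivial.1 inferInstance
    exact one_ne_zero ((map_one φ.1).symm.trans hr)
  have hid : ∀ e : K ⊗[R] R', IsIdempotentElem e → e = 0 ∨ e = 1 := by
    intro e he
    obtain ⟨r, x, rfl⟩ := hcol.surj e
    obtain ⟨r', φ, hφ⟩ := hcol.eq_of_apply_eq r (x * x) x (by rw [map_mul]; exact he)
    rw [map_mul] at hφ
    haveI := hconn r'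
    rw [← φ.apply]
    rcases eq_zero_or_one_of_connectedSpace hφ with h0 | h0
    · exact .inl (by rw [h0, map_zero])
    · exact .inr (by rw [h0, map_one])
  exact connectedSpace_of_idempotent hid

end Groth.Agent.H0FBC
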