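import Groth.Agent.H0FBC.StrictMain
import Groth.Agent.H0FBC.ZeroAcyclic

/-!
# Locally 0-acyclic morphisms are generalizing
-/

set_option autoImplicit false
set_option linter.style.haveILetI false
set_option linter.unusedSectionVars false
set_option backward.isDefEq.respectTransparency false
set_option backward.isDefEq.respectTransparency.types false
universe u

open CategoryTheory CategoryTheory.Limits AlgebraicGeometry TopologicalSpace Opposite
open scoped TensorProduct

attribute [-instance] CategoryTheory.catToReflQuiver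

namespace Groth.Agent.H0FBC

open H0PBC EtFound
open Groth.Agent.Hensel (Henz Nbhd)

/-- a quasi-compact surjective generalizing morphism is a quotient map -/
theorem isQuotientMap_of_generalizingMap {X Y : Scheme.{u}} (f : X ⟶ Y) [QuasiCompact f] [Surjective f]
    (H : GeneralizingMap f) : Topology.IsQuotientMap f := by
  rw [Topology.isQuotientMap_iff]
  refine ⟨.of_isOpen_preimage_iff_isOpen fun s ↦ ⟨fun hs ↦ ?_, fun hs ↦ hs.preimage f.continuous⟩, f.surjective⟩
  wlog hY : ∃ R, Y = Spec R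
  · let 𝒰 := Y.affineCover
    rw [𝒰.isOpenCover_opensRange.isOpen_iff_inter]
    intro i
    rw [Scheme.Hom.coe_opensRange, ← Set.image_preimage_eq_inter_range]
    apply (𝒰.f i).isOpenEmbedding.isOpenMap
    haveI hqc' : QuasiCompact (pullback.fst (𝒰.f i) f) := MorphismProperty.pullback_fst _ _ ‹_›
    haveI hsj' : Surjective (pullback.fst (𝒰.f i) f) := MorphismProperty.pullback_fst _ _ ‹_›
    refine this (pullback.fst (𝒰.f i) f) ?_ _ ?_ ⟨_, rfl⟩
    · exact IsZariskiLocalAtTarget.of_isPullback (P := topologically @GeneralizingMap)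
        (IsPullback.of_hasPullback (𝒰.f i) f).flip H
    · rw [← Set.preimage_comp, ← TopCat.coe_comp, ← Scheme.Hom.comp_base, pullback.condition,
        Scheme.Hom.comp_base, TopCat.coe_comp, Set.preimage_comp]
      exact hs.preimage (Scheme.Hom.continuous _)
  obtain ⟨R, rfl⟩ := hY
  obtain ⟨A, g, hg⟩ := compactSpace_iff_exists.mp (QuasiCompact.compactSpace_of_compactSpace f)
  obtain ⟨φ, hφ⟩ := Spec.map_surjective (g ≫ f)
  have hstab : StableUnderSpecialization sᶜ := by
    rw [← stableUnderGeneralization_compl_iff, compl_compl, ← Set.image_preimage_eq s f.surjective]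
    exact H.stableUnderGeneralization_image hs.stableUnderGeneralization
  have himg : (g ≫ f) '' ((g ≫ f) ⁻¹' sᶜ) = sᶜ := Set.image_preimage_eq _ (by
    rw [Scheme.Hom.comp_base, TopCat.coe_comp]
    exact f.surjective.comp hg)
  have hcl : IsClosed ((g ≫ f) ⁻¹' sᶜ) := by
    rw [Scheme.Hom.comp_base, TopCat.coe_comp, Set.preimage_comp, Set.preimage_compl, Set.preimage_compl]
    exact (hs.preimage g.continuous).isClosed_compl
  rw [← isClosed_compl_iff, ← himg]
  rw [← himg] at hstab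
  rw [← hφ] at hcl hstab ⊢
  exact PrimeSpectrum.isClosed_image_of_stableUnderSpecialization φ.hom _ hcl hstab

/-- a flat algebra is flat over a directed colimit of etale algebras mapping to it -/
theorem flat_of_isColim_etale {A : Type u} [CommRing A] {J : Type*} {G : J → Type u} [∀ i, CommRing (G i)]
    [∀ i, Algebra A (G i)] [∀ i, Algebra.Etale A (G i)] {R : Type u} [CommRing R] [Algebra A R]
    {gR : ∀ i, G i →ₐ[A] R} (hG : DirColim.IsColim gR) {C : Type u} [CommRing C] [Algebra A C] [Module.Flat A C]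
    (χ : R →ₐ[A] C) : χ.toRingHom.Flat := by
  letI : Algebra R C := χ.toRingHom.toAlgebra
  show Module.Flat R C
  refine Module.Flat.iff_forall_isTrivialRelation.2 fun {l f x} hfx => ?_
  obtain ⟨i, f', hf'⟩ := hG.surj_fintype f
  let φ : G i →+* C := χ.toRingHom.comp (gR i).toRingHom
  haveI : AlgebraicGeometry.Etale (Spec.map (CommRingCat.ofHom (algebraMap A (G i)))) :=
    (HasRingHomProperty.Spec_iff (P := @AlgebraicGeometry.Etale)).2 (RingHom.etale_algebraMap.2 inferInstance)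
  haveI : AlgebraicGeometry.Flat (Spec.map (CommRingCat.ofHom φ) ≫ Spec.map (CommRingCat.ofHom (algebraMap A (G i)))) := by
    rw [← Spec.map_comp, ← CommRingCat.ofHom_comp, show φ.comp (algebraMap A (G i)) = algebraMap A C from
      (χ.comp (gR i)).comp_algebraMap]
    exact (HasRingHomProperty.Spec_iff (P := @AlgebraicGeometry.Flat)).2 (RingHom.flat_algebraMap_iff.2 inferInstance)
  have hφ : φ.Flat := (HasRingHomProperty.Spec_iff (P := @AlgebraicGeometry.Flat)).1
    (flat_of_comp_etale (Spec.map (CommRingCat.ofHom φ)) (Spec.map (CommRingCat.ofHom (algebraMap A (G i)))))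
  letI : Algebra (G i) C := φ.toAlgebra
  haveI : Module.Flat (G i) C := hφ
  have h0 : ∑ t, f' t • x t = 0 := by
    rw [← hfx]
    exact Finset.sum_congr rfl fun t _ => congrArg (fun z => χ z * x t) (hf' t)
  obtain ⟨k, a, y, hxy, ha⟩ :=
    Module.Flat.isTrivialRelation_of_sum_smul_eq_zero (R := G i) (M := C) (f := f') (x := x) h0
  refine ⟨k, fun t j => gR i (a t j), y, hxy, fun j => ?_⟩
  simp only [← hf', ← map_mul, ← map_sum, ha, map_zero]

variable {X S : Scheme.{u}}

/-- charts at a geometric point whose maps of strictly henselian rings are strict localizations -/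
theorem exists_strict_chart (f : X ⟶ S) {Ω : Type u} [Field Ω] [IsAlgClosed Ω] (η : Spec (CommRingCat.of Ω) ⟶ X) :
    ∃ (B A : Type u) (_ : CommRing B) (_ : CommRing A) (_ : Algebra B A) (_ : Algebra A Ω) (_ : Algebra B Ω)
      (_ : IsScalarTower B A Ω) (ιB : Spec (CommRingCat.of B) ⟶ S) (_ : IsOpenImmersion ιB)
      (ιA : Spec (CommRingCat.of A) ⟶ X) (_ : IsOpenImmersion ιA),
      ιA ≫ f = Spec.map (CommRingCat.ofHom (algebraMap B A)) ≫ ιB ∧ ym ιA Ω = η ∧
      ∀ (ψ : Henz B Ω →+* Henz A Ω),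
        ψ.comp (algebraMap B (Henz B Ω)) = (algebraMap A (Henz A Ω)).comp (algebraMap B A) →
        (∀ z, Henz.proj A Ω (ψ z) = Henz.proj B Ω z) →
        ∀ (P : ∀ ⦃X' Y' : Scheme.{u}⦄, (X' ⟶ Y') → Prop), EtAcyc.OnStrictLocalizations f P →
          P (Spec.map (CommRingCat.ofHom ψ)) := by
  let x : X := η (IsLocalRing.closedPoint Ω)
  obtain ⟨W, hW, hxW, -⟩ := exists_isAffineOpen_mem_and_subset (U := (⊤ : S.Opens)) (x := f x) trivial
  obtain ⟨V, hV, hxV, hVW⟩ := exists_isAffineOpen_mem_and_subset (U := f ⁻¹ᵁ W) (x := x) hxW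
  let φ := f.appLE W V hVW
  let Rx := X.presheaf.stalk x
  let Rs := S.presheaf.stalk (f x)
  let sX : Rx ⟶ CommRingCat.of Ω := Scheme.stalkClosedPointTo η
  let sS : Rs ⟶ CommRingCat.of Ω := f.stalkMap x ≫ sX
  let gX : Γ(X, V) ⟶ Rx := X.presheaf.germ V x hxV
  let gS : Γ(S, W) ⟶ Rs := S.presheaf.germ W (f x) hxW
  have hgerm : φ ≫ gX = gS ≫ f.stalkMap x := by
    show _ = S.presheaf.germ W (f x) hxW ≫ f.stalkMap x
    rw [Scheme.Hom.germ_stalkMap]
    simp only [φ, gX, Scheme.Hom.appLE, Category.assoc, TopCat.Presheaf.germ_res]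
  letI : Algebra Γ(S, W) Γ(X, V) := φ.hom.toAlgebra
  letI : Algebra Γ(X, V) Ω := (gX ≫ sX).hom.toAlgebra
  letI : Algebra Γ(S, W) Ω := (φ ≫ gX ≫ sX).hom.toAlgebra
  haveI : IsScalarTower Γ(S, W) Γ(X, V) Ω := .of_algebraMap_eq' rfl
  have hι : hV.fromSpec ≫ f = Spec.map φ ≫ hW.fromSpec := (hW.SpecMap_appLE_fromSpec f hV hVW).symm
  refine ⟨Γ(S, W), Γ(X, V), inferInstance, inferInstance, inferInstance, inferInstance, inferInstance, inferInstance,
    hW.fromSpec, inferInstance, hV.fromSpec, inferInstance, hι, ?_, fun ψ hψ₁ hψ₂ P hP => ?_⟩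
  · show Spec.map (gX ≫ sX) ≫ hV.fromSpec = η
    rw [Spec.map_comp, Category.assoc]
    exact (congrArg (Spec.map sX ≫ ·) (hV.fromSpecStalk_eq_fromSpecStalk hxV)).trans
      (Scheme.Spec_stalkClosedPointTo_fromSpecStalk η)
  letI : Algebra Γ(X, V) Rx := gX.hom.toAlgebra
  letI : Algebra Γ(S, W) Rs := gS.hom.toAlgebra
  letI : Algebra Rx Ω := sX.hom.toAlgebra
  letI : Algebra Rs Ω := sS.hom.toAlgebra
  haveI : IsScalarTower Γ(X, V) Rx Ω := .of_algebraMap_eq' rfl
  haveI : IsScalarTower Γ(S, W) Rs Ω := .of_algebraMap_eq' (congrArg CommRingCat.Hom.hom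
    (show φ ≫ gX ≫ sX = gS ≫ sS by rw [← Category.assoc, hgerm, Category.assoc]))
  haveI hlX : IsLocalHom (algebraMap Rx Ω) := show IsLocalHom sX.hom by infer_instance
  haveI hlS : IsLocalHom (algebraMap Rs Ω) :=
    show IsLocalHom (sX.hom.comp (f.stalkMap x).hom) from RingHom.isLocalHom_comp _ _
  haveI := hV.isLocalization_stalk ⟨x, hxV⟩
  haveI := hW.isLocalization_stalk ⟨f x, hxW⟩
  let MX := (hV.primeIdealOf ⟨x, hxV⟩).asIdeal.primeCompl
  let MS := (hW.primeIdealOf ⟨f x, hxW⟩).asIdeal.primeCompl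
  let aX := AlgSpDec.EtHenz.fromLocal Γ(X, V) Rx Ω MX
  let aS := AlgSpDec.EtHenz.fromLocal Γ(S, W) Rs Ω MS
  letI : Algebra Rx (Henz Γ(X, V) Ω) := aX.toRingHom.toAlgebra
  letI : Algebra Rs (Henz Γ(S, W) Ω) := aS.toRingHom.toAlgebra
  obtain ⟨hX₁, hX₂⟩ := AlgSpDec.EtHenz.isStrictHenselization Γ(X, V) Rx Ω MX
  obtain ⟨hS₁, hS₂⟩ := AlgSpDec.EtHenz.isStrictHenselization Γ(S, W) Rs Ω MS
  letI : Algebra (Henz Γ(S, W) Ω) (Henz Γ(X, V) Ω) := ψ.toAlgebra
  haveI : IsLocalHom (algebraMap (Henz Γ(S, W) Ω) (Henz Γ(X, V) Ω)) := isLocalHom_henzMap hψ₁ hψ₂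
  refine hP x (Henz Γ(S, W) Ω) (Henz Γ(X, V) Ω) ?_
  refine IsLocalization.ringHom_ext MS (RingHom.ext fun b => ?_)
  show ψ (aS (algebraMap Γ(S, W) Rs b)) = aX ((f.stalkMap x).hom (gS.hom b))
  rw [AlgHom.commutes, show (f.stalkMap x).hom (gS.hom b) = algebraMap Γ(X, V) Rx (φ.hom b) from
    (ConcreteCategory.congr_hom hgerm b).symm, AlgHom.commutes]
  exact congr($hψ₁ b)

/-- all points specialize to the point of the universal neighbourhood -/
theorem specializes_henzPt (B Ω : Type u) [CommRing B] [Field Ω] [Algebra B Ω] (w : PrimeSpectrum (Henz B Ω)) :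
    w ⤳ PrimeSpectrum.comap (Henz.proj B Ω).toRingHom ⊥ := by
  rw [← PrimeSpectrum.le_iff_specializes]
  intro z hz
  by_contra h
  exact w.2.ne_top (Ideal.eq_top_of_isUnit_mem _ hz (Henz.isUnit_iff.2 (isUnit_iff_ne_zero.2 h)))

/-- the maps of strict localizations of a locally 0-acyclic morphism are geometrically connected -/
theorem geometricallyConnected_of_onStrict {f : X ⟶ S} (hf : EtAcyc.IsLocZeroAcyclic f)
    {R R' : Type u} [CommRing R] [CommRing R'] (ψ : R →+* R')
    (hψ : ∀ (P : ∀ ⦃X' Y' : Scheme.{u}⦄, (X' ⟶ Y') → Prop), EtAcyc.OnStrictLocalizations f P →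
      P (Spec.map (CommRingCat.ofHom ψ))) : GeometricallyConnected (Spec.map (CommRingCat.ofHom ψ)) :=
  letI := ψ.toAlgebra
  geometricallyConnected_of_isZeroAcyclic (R := R) (R' := R') (hψ _ hf)

/-- locally 0-acyclic morphisms are generalizing -/
theorem generalizingMap_of_locZeroAcyclic (f : X ⟶ S) (hf : EtAcyc.IsLocZeroAcyclic f) : GeneralizingMap f := by
  intro x y hy
  obtain ⟨Ω, _, _, η, rfl⟩ := H0PBC.exists_geom_point x
  obtain ⟨B, A, _, _, _, _, _, _, ιB, _, ιA, _, hι, hη, hP⟩ := exists_strict_chart f η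
  obtain ⟨ψ, hψ₁, hψ₂⟩ := exists_henzMap B A Ω
  haveI := geometricallyConnected_of_onStrict hf ψ (hP ψ hψ₁ hψ₂)
  let ptB : Spec (CommRingCat.of B) := PrimeSpectrum.comap (algebraMap B Ω) ⊥
  have hbot : (default : Spec (CommRingCat.of Ω)) = (⊥ : PrimeSpectrum Ω) := Subsingleton.elim _ _
  have hfx : f (η default) = ιB ptB := by
    rw [← Scheme.Hom.comp_apply, ← hη, ym_comp hι, Scheme.Hom.comp_apply, hbot]
    rfl
  obtain ⟨q, rfl⟩ : y ∈ Set.range ιB :=
    (hfx ▸ hy).mem_open ιB.isOpenEmbedding.isOpen_range ⟨ptB, rfl⟩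
  have hq : q ⤳ ptB := ιB.isOpenEmbedding.isInducing.specializes_iff.1 (hfx ▸ hy)
  haveI : Flat (Spec.map (CommRingCat.ofHom (algebraMap B (Henz B Ω)))) :=
    (HasRingHomProperty.Spec_iff (P := @Flat)).2 (RingHom.flat_algebraMap_iff.2 inferInstance)
  have hpt : Spec.map (CommRingCat.ofHom (algebraMap B (Henz B Ω)))
      (PrimeSpectrum.comap (Henz.proj B Ω).toRingHom ⊥) = ptB :=
    (PrimeSpectrum.comap_comp_apply (algebraMap B (Henz B Ω)) (Henz.proj B Ω).toRingHom ⊥).symm.trans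
      (by rw [show (Henz.proj B Ω).toRingHom.comp (algebraMap B (Henz B Ω)) = algebraMap B Ω from
        (Henz.proj B Ω).comp_algebraMap])
  obtain ⟨z, -, hz⟩ := Flat.generalizingMap (Spec.map (CommRingCat.ofHom (algebraMap B (Henz B Ω))))
    (show q ⤳ _ by rw [hpt]; exact hq)
  obtain ⟨w, hw⟩ := (Spec.map (CommRingCat.ofHom ψ)).surjective z
  refine ⟨ιA (Spec.map (CommRingCat.ofHom (algebraMap A (Henz A Ω))) w), ?_, ?_⟩
  · rw [← hη]
    refine Specializes.trans ((specializes_henzPt A Ω w).map (ιA.continuous.comp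
      (Spec.map (CommRingCat.ofHom (algebraMap A (Henz A Ω)))).continuous)) ?_
    refine specializes_of_eq ?_
    rw [Scheme.Hom.comp_apply, hbot]
    refine congrArg ιA ((PrimeSpectrum.comap_comp_apply (algebraMap A (Henz A Ω)) (Henz.proj A Ω).toRingHom ⊥).symm.trans ?_)
    rw [show (Henz.proj A Ω).toRingHom.comp (algebraMap A (Henz A Ω)) = algebraMap A Ω from
      (Henz.proj A Ω).comp_algebraMap]
    rfl
  · rw [← Scheme.Hom.comp_apply, ← Scheme.Hom.comp_apply, hι, ← Category.assoc (Spec.map _), ← Spec.map_comp,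
      ← CommRingCat.ofHom_comp, ← hψ₁, CommRingCat.ofHom_comp, Spec.map_comp, Category.assoc, Scheme.Hom.comp_apply,
      Scheme.Hom.comp_apply, hw, hz]

end Groth.Agent.H0FBC
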