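import Groth.Agent.H0FBC.FlatBC
import Groth.Agent.SmoothSecLib.Basic
import Groth.Agent.AlgSpDec.OneFlat
import Groth.Agent.FBaseLib.Product
import Groth.Agent.S1324
import Groth.Agent.S1327
import Groth.Agent.S7775
import Groth.Agent.S16763
import Mathlib.Topology.NoetherianSpace

/-!
# Flat morphisms with geometrically reduced fibres factor etale locally with connected fibres
-/

set_option autoImplicit false
set_option linter.style.haveILetI false
set_option linter.unusedSectionVars false
set_option backward.isDefEq.respectTransparency false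
set_option backward.isDefEq.respectTransparency.types false
universe u

open CategoryTheory CategoryTheory.Limits AlgebraicGeometry TopologicalSpace

namespace Groth.Agent.H0FBC

/-- connected components of noetherian spaces are clopen -/
theorem isClopen_connectedComponent {T : Type u} [TopologicalSpace T] [NoetherianSpace T] (x : T) :
    IsClopen (connectedComponent x) := by
  refine ⟨isClosed_connectedComponent, ?_⟩
  rw [← isClosed_compl_iff]
  have e : (connectedComponent x)ᶜ =
      ⋃₀ {Z ∈ irreducibleComponents T | ¬ Z ⊆ connectedComponent x} := by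
    ext y
    constructor
    · exact fun hy => ⟨irreducibleComponent y, ⟨irreducibleComponent_mem_irreducibleComponents y,
        fun h => hy (h mem_irreducibleComponent)⟩, mem_irreducibleComponent⟩
    · rintro ⟨Z, ⟨hZ, hZs⟩, hyZ⟩ hy
      refine hZs ?_
      rw [connectedComponent_eq hy]
      exact hZ.1.isConnected.isPreconnected.subset_connectedComponent hyZ
  rw [e, Set.sUnion_eq_biUnion]
  exact (NoetherianSpace.finite_irreducibleComponents.subset fun Z h => h.1).isClosed_biUnion
    fun Z hZ => isClosed_of_mem_irreducibleComponents Z hZ.1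

/-- etale schemes over geometrically reduced schemes are geometrically reduced -/
theorem geometricallyReduced_etale_comp {P Q S : Scheme.{u}} (h : P ⟶ Q) (f : Q ⟶ S)
    [AlgebraicGeometry.Etale h] [GeometricallyReduced f] : GeometricallyReduced (h ≫ f) := by
  refine ⟨fun K _ y Z f₁ f₂ hZ => ?_⟩
  haveI : IsReduced (pullback f y) :=
    GeometricallyReduced.geometrically_isReduced (f := f) y _ _ (IsPullback.of_hasPullback f y)
  haveI : IsReduced (pullback h (pullback.fst f y)) :=
    AlgSpDec.isReduced_of_etaleMor (pullback.snd h (pullback.fst f y))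
  exact isReduced_of_isOpenImmersion (hZ.isoPullback.hom ≫ (pullbackRightPullbackFstIso f y h).inv)

/-- a geometrically reduced scheme of finite type over a field is smooth somewhere on each irreducible
component -/
theorem exists_smooth_point {k : Type u} [Field k] {F : Scheme.{u}} (p : F ⟶ Spec (CommRingCat.of k))
    [LocallyOfFinitePresentation p] [GeometricallyReduced p] [NoetherianSpace F] [IsReduced F] (a : F) :
    ∃ w ∈ irreducibleComponent a, w ∈ p.smoothLocus := by
  let O : F.Opens := ⟨(⋃₀ (irreducibleComponents F \ {irreducibleComponent a}))ᶜ, by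
    rw [Set.sUnion_eq_biUnion, isOpen_compl_iff]
    exact NoetherianSpace.finite_irreducibleComponents.sdiff.isClosed_biUnion
      fun W hW => isClosed_of_mem_irreducibleComponents W hW.1⟩
  have hO : closure (O : Set F) = irreducibleComponent a :=
    closure_sUnion_irreducibleComponents_sdiff_singleton NoetherianSpace.finite_irreducibleComponents
      _ (irreducibleComponent_mem_irreducibleComponents a)
  haveI hirr : IrreducibleSpace O := isIrreducible_iff_irreducibleSpace.mp
    (isIrreducible_iff_closure.mp (hO ▸ isIrreducible_irreducibleComponent))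
  haveI : IsIntegral (O : Scheme.{u}) := isIntegral_of_irreducibleSpace_of_isReduced _
  haveI : IsIntegral (Spec (CommRingCat.of k)) := inferInstance
  haveI : GeometricallyReduced (O.ι ≫ p) := FBaseLib.geometricallyReduced_comp_openImmersion O.ι p
  haveI : Surjective (O.ι ≫ p) := ⟨fun t => ⟨Classical.arbitrary _, @Subsingleton.elim _ (inferInstanceAs (Subsingleton (PrimeSpectrum k))) _ _⟩⟩
  haveI : IsDominant (O.ι ≫ p) := ⟨(O.ι ≫ p).surjective.denseRange⟩
  obtain ⟨w, hw⟩ := (S7775.result (O : Scheme.{u}) (Spec (CommRingCat.of k)) (O.ι ≫ p) inferInstance).nonempty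
  rw [← Scheme.Hom.preimage_smoothLocus_eq] at hw
  exact ⟨O.ι w, hO.le (subset_closure w.2), hw⟩

/-- smoothness at a point of a flat morphism is checked on the fibre -/
theorem exists_smooth_nhd_of_fibre {X S : Scheme.{u}} (g : X ⟶ S) [Flat g] [LocallyOfFinitePresentation g]
    (s : S) (w : g.fiber s) (hw : haveI : LocallyOfFinitePresentation (g.fiberToSpecResidueField s) :=
        MorphismProperty.pullback_snd g (S.fromSpecResidueField s) inferInstance
      w ∈ (g.fiberToSpecResidueField s).smoothLocus) :
    ∃ W : X.Opens, g.fiberι s w ∈ W ∧ Smooth (W.ι ≫ g) := by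
  haveI : LocallyOfFinitePresentation (g.fiberToSpecResidueField s) :=
    MorphismProperty.pullback_snd g (S.fromSpecResidueField s) inferInstance
  have hs : g (g.fiberι s w) = s := by
    have : g.fiberι s w ∈ Set.range (g.fiberι s) := ⟨w, rfl⟩
    rw [Scheme.Hom.range_fiberι] at this
    exact this
  have key : ∀ (t : S) (e : t = s), ∃ x' : g.fiber t, g.fiberι t x' = g.fiberι s w ∧
      ∃ V : (g.fiber t).Opens, x' ∈ V ∧ Smooth (V.ι ≫ g.fiberToSpecResidueField t) := by
    rintro t rfl
    refine ⟨w, rfl, (g.fiberToSpecResidueField t).smoothLocus, hw, ?_⟩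
    rw [← Scheme.Hom.smoothLocus_eq_top_iff, ← Scheme.Hom.preimage_smoothLocus_eq]
    exact Scheme.Opens.ι_preimage_self _
  obtain ⟨x', hx', V, hV, hsm⟩ := key _ hs
  refine (S16763.result (𝟙 S) g g (Category.comp_id g) (g.fiberι s w) (Flat.stalkMap g _) x' hx').2 ⟨V, hV, ?_⟩
  have e : CohIII.fiberMapOver g g (𝟙 S) (Category.comp_id g) (g (g.fiberι s w)) =
      g.fiberToSpecResidueField (g (g.fiberι s w)) ≫
        inv (pullback.snd (𝟙 S) (S.fromSpecResidueField (g (g.fiberι s w)))) := by
    rw [IsIso.eq_comp_inv]
    exact (pullback.lift_snd _ _ _).trans (Category.comp_id _)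
  rw [e, ← Category.assoc]
  infer_instance

variable {U S₀ : Scheme.{u}}

/-- etale locally, flat morphisms with geometrically reduced fibres factor through universally open
morphisms with geometrically connected fibres followed by etale morphisms -/
theorem exists_geomConnected_nhd [IsAffine U] [IsAffine S₀] (g : U ⟶ S₀) [Flat g]
    [LocallyOfFinitePresentation g] [GeometricallyReduced g] (x : U) :
    ∃ (V U' : Scheme.{u}) (v : V ⟶ S₀) (m : U' ⟶ U) (a : U' ⟶ V) (y : U'),
      AlgebraicGeometry.Etale v ∧ AlgebraicGeometry.Etale m ∧ m y = x ∧ a ≫ v = m ≫ g ∧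
        UniversallyOpen a ∧ GeometricallyConnected a := by
  let s := g x
  let F := g.fiber s
  let p : F ⟶ Spec (S₀.residueField s) := g.fiberToSpecResidueField s
  haveI : LocallyOfFinitePresentation p :=
    MorphismProperty.pullback_snd g (S₀.fromSpecResidueField s) inferInstance
  haveI : CompactSpace F := by
    haveI : QuasiCompact g := inferInstance
    haveI : QuasiCompact p := MorphismProperty.pullback_snd g (S₀.fromSpecResidueField s) inferInstance
    exact QuasiCompact.compactSpace_of_compactSpace p
  haveI : IsLocallyNoetherian F := LocallyOfFiniteType.isLocallyNoetherian p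
  haveI : IsNoetherian F := { }
  haveI : NoetherianSpace F := inferInstance
  haveI : IsReduced F := inferInstanceAs (IsReduced (g.fiber s))
  -- a smooth point on the component of `x`
  let a₀ := g.asFiber x
  have ha₀ : g.fiberι s a₀ = x := g.fiberι_asFiber x
  obtain ⟨w, hwC, hw⟩ := exists_smooth_point (k := S₀.residueField s) p a₀
  obtain ⟨W, hxW, hW⟩ := exists_smooth_nhd_of_fibre g s w hw
  have hC := isClopen_connectedComponent a₀
  obtain ⟨O, hO, hOC⟩ := (g.fiberι s).isEmbedding.isInducing.isOpen_iff.1 hC.isOpen
  let W' : U.Opens := W ⊓ ⟨O, hO⟩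
  have hwO : g.fiberι s w ∈ O := hOC.ge
    (isIrreducible_irreducibleComponent.isConnected.isPreconnected.subset_connectedComponent
      mem_irreducibleComponent hwC)
  haveI : Smooth (W'.ι ≫ g) := by
    haveI := hW
    rw [← U.homOfLE_ι (inf_le_left : W' ≤ W), Category.assoc]
    infer_instance
  obtain ⟨V, v, s', hV, hv, hs', h₀, hh₀⟩ :=
    SmoothSecLib.exists_etale_section_scheme (W'.ι ≫ g) ⟨g.fiberι s w, hxW, hwO⟩
  have hvs : v s' = s := by
    rw [hs']
    show g (g.fiberι s w) = s
    have : g.fiberι s w ∈ Set.range (g.fiberι s) := ⟨w, rfl⟩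
    rw [Scheme.Hom.range_fiberι] at this
    exact this
  -- the section and its components
  let P := pullback g v
  let q : P ⟶ V := pullback.snd g v
  let σ : V ⟶ P := pullback.lift (h₀ ≫ W'.ι) (𝟙 V) (by rw [Category.assoc, hh₀, Category.id_comp])
  have hσ : σ ≫ q = 𝟙 V := pullback.lift_snd _ _ _
  haveI : IsAffineHom g := inferInstance
  haveI : IsAffineHom q := inferInstance
  have hSC : IsOpen (MoreMor.sectionComponents q σ) := by
    refine isOpen_iff_mem_nhds.2 fun z hz => mem_interior_iff_mem_nhds.1 ?_
    exact S1327.result q σ hσ (q z) inferInstance hz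
  let U' : P.Opens := ⟨_, hSC⟩
  haveI := hv
  haveI : AlgebraicGeometry.Etale (pullback.fst g v) := MorphismProperty.pullback_fst g v hv
  haveI : UniversallyOpen q := inferInstance
  refine ⟨V, U', v, U'.ι ≫ pullback.fst g v, U'.ι ≫ q, ?_⟩
  suffices hy : ∃ y : U', pullback.fst g v (U'.ι y) = x by
    obtain ⟨y, hy⟩ := hy
    refine ⟨y, hv, inferInstance, (Scheme.Hom.comp_apply _ _ _).trans hy, ?_, inferInstance, ⟨?_⟩⟩
    · rw [Category.assoc, Category.assoc, pullback.condition]
    -- geometric connectedness
    intro K _ y₀ Z f₁ f₂ hZ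
    let qK := pullback.snd q y₀
    let σK : Spec (CommRingCat.of K) ⟶ pullback q y₀ := pullback.lift (y₀ ≫ σ) (𝟙 _) (by
      rw [Category.assoc, hσ, Category.comp_id, Category.id_comp])
    have hσK : σK ≫ qK = 𝟙 _ := pullback.lift_snd _ _ _
    have hpre := S1324.result q σ hσ qK (pullback.fst q y₀) y₀ (IsPullback.of_hasPullback q y₀) σK hσK
      (pullback.lift_fst _ _ _)
    let j : Z ⟶ pullback q y₀ := pullback.lift (f₁ ≫ U'.ι) f₂ (by rw [Category.assoc]; exact hZ.w)
    have sq : IsPullback j f₁ (pullback.fst q y₀) U'.ι := by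
      refine (IsPullback.of_bot ?_ (pullback.lift_fst _ _ _).symm (IsPullback.of_hasPullback q y₀)).flip
      rw [show j ≫ pullback.snd q y₀ = f₂ from pullback.lift_snd _ _ _]
      exact hZ
    haveI : IsOpenImmersion j := MorphismProperty.of_isPullback sq.flip inferInstance
    have hrange : Set.range j = connectedComponent (σK default) := by
      rw [← sq.flip.isoPullback_hom_snd, Scheme.Hom.comp_base, TopCat.coe_comp,
        Function.Surjective.range_comp sq.flip.isoPullback.hom.surjective, Scheme.Pullback.range_snd,
        Scheme.Opens.range_ι]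
      show pullback.fst q y₀ ⁻¹' MoreMor.sectionComponents q σ = _
      rw [← hpre]
      ext z
      haveI : Subsingleton ↥(Spec (CommRingCat.of K)) := inferInstanceAs (Subsingleton (PrimeSpectrum K))
      have hu : qK ⁻¹' {qK z} = Set.univ := Set.eq_univ_of_forall fun t => Subsingleton.elim (qK t) (qK z)
      show z ∈ connectedComponentIn (qK ⁻¹' {qK z}) (σK (qK z)) ↔ _
      rw [hu, connectedComponentIn_univ, Subsingleton.elim (qK z) default]
    haveI : Nonempty Z := by
      obtain ⟨t, -⟩ := hrange.ge mem_connectedComponent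
      exact ⟨t⟩
    haveI : PreconnectedSpace Z := ⟨j.isEmbedding.isInducing.isPreconnected_image.1 (by
      rw [Set.image_univ, hrange]; exact isPreconnected_connectedComponent)⟩
    exact ⟨‹_›⟩
  -- the point over `x`
  let vF := v.fiberToSpecResidueField s
  haveI : IsFinite vF := inferInstance
  haveI : AlgebraicGeometry.Etale vF := MorphismProperty.pullback_snd v (S₀.fromSpecResidueField s) hv
  let F'' := pullback p vF
  let π : F'' ⟶ F := pullback.fst p vF
  haveI : IsFinite π := MorphismProperty.pullback_fst p vF inferInstance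
  haveI : AlgebraicGeometry.Etale π := MorphismProperty.pullback_fst p vF inferInstance
  haveI : CompactSpace F'' := QuasiCompact.compactSpace_of_compactSpace π
  haveI : IsLocallyNoetherian F'' := LocallyOfFiniteType.isLocallyNoetherian π
  haveI : IsNoetherian F'' := { }
  haveI : NoetherianSpace F'' := inferInstance
  let sF : v.fiber s ⟶ F := pullback.lift (v.fiberι s ≫ h₀ ≫ W'.ι) vF (by
    rw [Category.assoc, Category.assoc, hh₀]
    exact pullback.condition)
  let σF : v.fiber s ⟶ F'' := pullback.lift sF (𝟙 _) ((pullback.lift_snd _ _ _).trans (Category.id_comp _).symm)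
  let μ : F'' ⟶ P := pullback.lift (π ≫ g.fiberι s) (pullback.snd p vF ≫ v.fiberι s) (by
    have e₁ : g.fiberι s ≫ g = p ≫ S₀.fromSpecResidueField s := pullback.condition
    have e₂ : v.fiberι s ≫ v = vF ≫ S₀.fromSpecResidueField s := pullback.condition
    rw [Category.assoc, Category.assoc, e₁, e₂, pullback.condition_assoc])
  have hμσ : σF ≫ μ = v.fiberι s ≫ σ := by
    refine pullback.hom_ext ?_ ?_
    · rw [Category.assoc, Category.assoc, pullback.lift_fst, pullback.lift_fst]
      rw [pullback.lift_fst_assoc]
      exact pullback.lift_fst _ _ _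
    · rw [Category.assoc, Category.assoc, pullback.lift_snd, pullback.lift_snd, pullback.lift_snd_assoc,
        Category.id_comp, Category.comp_id]
  obtain ⟨w', hw'⟩ : s' ∈ Set.range (v.fiberι s) := by rw [Scheme.Hom.range_fiberι]; exact hvs
  let ω := σF w'
  let D := connectedComponent ω
  have hD := isClopen_connectedComponent ω
  have hπD : IsClopen (π '' D) := ⟨π.isClosedMap _ hD.isClosed, π.isOpenMap _ hD.isOpen⟩
  have hπω : π ω ∈ connectedComponent a₀ := by
    rw [← hOC]
    show g.fiberι s (π (σF w')) ∈ O
    have e : σF ≫ π ≫ g.fiberι s = (v.fiberι s ≫ h₀) ≫ W'.ι := by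
      rw [← Category.assoc, pullback.lift_fst, Category.assoc]
      exact pullback.lift_fst _ _ _
    rw [← Scheme.Hom.comp_apply π, ← Scheme.Hom.comp_apply σF, e, Scheme.Hom.comp_apply]
    exact ((v.fiberι s ≫ h₀) w').2.2
  have ha₀D : a₀ ∈ π '' D := by
    refine hπD.connectedComponent_subset ⟨ω, mem_connectedComponent, rfl⟩ ?_
    rw [← connectedComponent_eq hπω]
    exact mem_connectedComponent
  obtain ⟨ωy, hωy, hπy⟩ := ha₀D
  have hqμ : ∀ t ∈ D, q (μ t) = s' := by
    intro t ht
    have hdisc : DiscreteTopology ↥(v.fiber s) := inferInstance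
    have : pullback.snd p vF t = w' := by
      have h1 := (isPreconnected_connectedComponent (x := ω)).image _ (pullback.snd p vF).continuous.continuousOn
      have h2 : pullback.snd p vF ω = w' := by
        show pullback.snd p vF (σF w') = w'
        rw [← Scheme.Hom.comp_apply, pullback.lift_snd]
        rfl
      exact h1.subsingleton ⟨t, ht, rfl⟩ ⟨ω, mem_connectedComponent, h2⟩
    rw [← Scheme.Hom.comp_apply, pullback.lift_snd, Scheme.Hom.comp_apply, this, hw']
  have hmem : μ ωy ∈ MoreMor.sectionComponents q σ := by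
    show μ ωy ∈ connectedComponentIn (q ⁻¹' {q (μ ωy)}) (σ (q (μ ωy)))
    rw [hqμ ωy hωy]
    have h1 : μ ω = σ s' := by
      show μ (σF w') = σ s'
      rw [← Scheme.Hom.comp_apply, hμσ, Scheme.Hom.comp_apply, hw']
    rw [← h1]
    exact ((isPreconnected_connectedComponent (x := ω)).image _ μ.continuous.continuousOn).subset_connectedComponentIn
      ⟨ω, mem_connectedComponent, rfl⟩ (by rintro _ ⟨t, ht, rfl⟩; exact hqμ t ht) ⟨ωy, hωy, rfl⟩
  refine ⟨⟨μ ωy, hmem⟩, ?_⟩
  show pullback.fst g v (μ ωy) = x
  rw [← Scheme.Hom.comp_apply, pullback.lift_fst, Scheme.Hom.comp_apply, hπy, ha₀]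

end Groth.Agent.H0FBC
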