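import Groth.Agent.H0FBC.Descent
import Groth.Agent.GeomSep.Basic
import Groth.Prelude.Def_EtCore

/-!
# Global sections along flat morphisms with connected fibres, base change of separably closed fields
-/

set_option autoImplicit false
set_option linter.style.haveILetI false
set_option linter.unusedSectionVars false
set_option backward.isDefEq.respectTransparency false
set_option backward.isDefEq.respectTransparency.types false
universe u

open CategoryTheory CategoryTheory.Limits AlgebraicGeometry TopologicalSpace Opposite
open scoped TensorProduct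

namespace Groth.Agent.H0FBC

open H0PBC EtFound

/-- over a separably closed field every field extension is geometrically connected -/
theorem geometricallyConnected_of_sepClosed {k : Type u} [Field k] [IsSepClosed k] (K : Type u) [Field K]
    [Algebra k K] : GeometricallyConnected (Spec.map (CommRingCat.ofHom (algebraMap k K))) := by
  refine ⟨fun L _ y Z f₁ f₂ h => ?_⟩
  obtain ⟨φ, rfl⟩ := Spec.map_surjective y
  letI : Algebra k L := φ.hom.toAlgebra
  haveI : IrreducibleSpace ↥(Spec (CommRingCat.of (K ⊗[k] L))) :=
    GeomSep.irreducibleSpace_tensor_fields (k := k) K L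
  have hφ : Spec.map φ = Spec.map (CommRingCat.ofHom (algebraMap k L)) := rfl
  rw [hφ] at h
  let e : Z ≅ Spec (CommRingCat.of (K ⊗[k] L)) :=
    (h.isoPullback) ≪≫ pullbackSpecIso k K L
  exact e.schemeIsoToHomeo.symm.surjective.connectedSpace e.schemeIsoToHomeo.symm.continuous

variable {Y T : Scheme.{u}} {A : Type (u + 2)} [Category.{u + 1} A] [HasColimitsOfSize.{u, u} A]
  [HasProducts.{u} A]
  [∀ {P Q : Scheme.{u}} (h : P ⟶ Q),
    ((EtCoh.bc h).sheafPushforwardContinuous A Q.smallEtaleTopology P.smallEtaleTopology).IsRightAdjoint]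
  {FA : A → A → Type*} {CA : A → Type (u + 1)}
  [∀ M N, FunLike (FA M N) (CA M) (CA N)] [ConcreteCategory.{u + 1} A FA]
  [PreservesFilteredColimitsOfSize.{u, u} (forget A)]
  [∀ Z : Scheme.{u}, Z.smallEtaleTopology.HasSheafCompose (forget A)]

/-- global sections of inverse images come from the base under quasi-compact morphisms with connected
geometric fibres whose base changes along etale morphisms are quotient maps -/
theorem surjective_unit_top_of_quot (e : Y ⟶ T) [GeometricallyConnected e]
    (hquot : ∀ {U : Scheme.{u}} (p : U ⟶ T) [AlgebraicGeometry.Etale p],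
      Topology.IsQuotientMap (pullback.fst p e))
    (G : Sheaf T.smallEtaleTopology A) : Function.Surjective (pullSect e G (U := EtCoh.top T)) := by
  let q := toBC e (T' := EtCoh.top T) (W := EtCoh.top Y) e
    ((Category.comp_id e).trans (Category.id_comp e).symm)
  let r : (EtCoh.bc e).obj (EtCoh.top T) ⟶ EtCoh.top Y := (EtCore.bcTopIso e).hom
  have hq : r ≫ q = 𝟙 _ := (EtCore.bcTopIsTerminal e).hom_ext _ _
  have hinv : ∀ x, ((pullA A e).obj G).obj.map r.op (((pullA A e).obj G).obj.map q.op x) = x := fun x => by
    rw [← ConcreteCategory.comp_apply, ← Functor.map_comp, ← op_comp, hq, op_id, CategoryTheory.Functor.map_id,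
      ConcreteCategory.id_apply]
  intro σ
  obtain ⟨τ, hτ⟩ := exists_pullSect_eq_of_quot e G (T' := EtCoh.top T) (W := EtCoh.top Y) e
    ((Category.comp_id e).trans (Category.id_comp e).symm) (((pullA A e).obj G).obj.map q.op σ) fun U k =>
      haveI := etale_left k
      hquot k.left
  exact ⟨τ, ((hinv _).symm.trans (congrArg _ hτ)).trans (hinv σ)⟩

/-- global sections do not change under flat quasi-compact morphisms with connected geometric fibres -/
theorem bijective_unit_top_of_flat (e : Y ⟶ T) [Flat e] [QuasiCompact e] [GeometricallyConnected e]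
    (G : Sheaf T.smallEtaleTopology A) : Function.Bijective (pullSect e G (U := EtCoh.top T)) := by
  let q := toBC e (T' := EtCoh.top T) (W := EtCoh.top Y) e
    ((Category.comp_id e).trans (Category.id_comp e).symm)
  let r : (EtCoh.bc e).obj (EtCoh.top T) ⟶ EtCoh.top Y := (EtCore.bcTopIso e).hom
  have hq : r ≫ q = 𝟙 _ := (EtCore.bcTopIsTerminal e).hom_ext _ _
  have hinv : ∀ x, ((pullA A e).obj G).obj.map r.op (((pullA A e).obj G).obj.map q.op x) = x := fun x => by
    rw [← ConcreteCategory.comp_apply, ← Functor.map_comp, ← op_comp, hq, op_id, CategoryTheory.Functor.map_id,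
      ConcreteCategory.id_apply]
  refine ⟨fun τ₁ τ₂ h => eq_of_pullSect_eq e G (T' := EtCoh.top T) (W := EtCoh.top Y) e
    ((Category.comp_id e).trans (Category.id_comp e).symm) τ₁ τ₂
    (congrArg (fun x => ((pullA A e).obj G).obj.map q.op x) h), fun σ => ?_⟩
  obtain ⟨τ, hτ⟩ := exists_pullSect_eq e G (T' := EtCoh.top T) (W := EtCoh.top Y) e
    ((Category.comp_id e).trans (Category.id_comp e).symm) (((pullA A e).obj G).obj.map q.op σ) (.inl ‹_›)
  exact ⟨τ, ((hinv _).symm.trans (congrArg _ hτ)).trans (hinv σ)⟩

end Groth.Agent.H0FBC
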