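import Groth.Agent.H0FBC.ZeroAcyclic
import Groth.Agent.H0FBC.Generalizing
import Groth.Agent.H0FBC.GlobalSections
import Groth.Agent.H0FBC.GeomRed
import Groth.Agent.Hensel.IntegralStrict
import Groth.Agent.FBaseLib.Reduced
import Groth.Agent.GeomField.Reduced
import Mathlib.RingTheory.Spectrum.Prime.Homeomorph

/-!
# Preliminaries for acyclicity over fields
-/

set_option autoImplicit false
set_option linter.style.haveILetI false
set_option linter.unusedSectionVars false
set_option backward.isDefEq.respectTransparency false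
set_option backward.isDefEq.respectTransparency.types false
universe u

open CategoryTheory CategoryTheory.Limits AlgebraicGeometry TopologicalSpace Opposite
open scoped TensorProduct

attribute [-instance] CategoryTheory.catToReflQuiver

namespace Groth.Agent.H0FBC.OverField

open Groth.Agent IsLocalRing H0PBC EtFound

/-- a radicial integral algebra over a strictly henselian local ring is strictly henselian local -/
theorem strictlyHenselian_of_radicial (R S : Type u) [CommRing R] [CommRing S] [Algebra R S]
    [HenselianLocalRing R] [IsSepClosed (ResidueField R)]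
    (hpow : ∀ x : S, ∃ n > 0, x ^ n ∈ (algebraMap R S).range)
    (hker : RingHom.ker (algebraMap R S) ≤ nilradical R) :
    ∃ _ : HenselianLocalRing S, IsLocalHom (algebraMap R S) ∧ IsSepClosed (ResidueField S) := by
  haveI : Algebra.IsIntegral R S := ⟨fun x => by
    obtain ⟨n, hn, y, hy⟩ := hpow x
    exact IsIntegral.of_pow hn (hy ▸ isIntegral_algebraMap)⟩
  have hh := PrimeSpectrum.isHomeomorph_comap (algebraMap R S) hpow hker
  obtain ⟨P, -⟩ := hh.bijective.2 (IsLocalRing.closedPoint R)
  haveI : Nontrivial S := ⟨0, 1, fun h => P.2.ne_top ((Ideal.eq_top_iff_one _).2 (h ▸ P.asIdeal.zero_mem))⟩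
  haveI : IsLocalRing S := by
    have key : ∀ (I : Ideal S) (hI : I.IsMaximal), PrimeSpectrum.comap (algebraMap R S) ⟨I, hI.isPrime⟩ =
        IsLocalRing.closedPoint R := fun I hI => by
      haveI := hI
      haveI := Ideal.isMaximal_comap_of_isIntegral_of_isMaximal (R := R) I
      exact PrimeSpectrum.ext (IsLocalRing.eq_maximalIdeal ‹_›)
    obtain ⟨M, hM⟩ := Ideal.exists_maximal S
    exact .of_unique_max_ideal ⟨M, hM, fun N hN =>
      congrArg PrimeSpectrum.asIdeal (hh.bijective.1 ((key N hN).trans (key M hM).symm))⟩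
  haveI := Hensel.isLocalHom_of_isIntegral_local R S
  exact ⟨Hensel.henselianLocalRing_of_isIntegral_local R S, ‹_›, (Hensel.residueField_of_isIntegral R S).1⟩

/-- idempotents of a ring are determined on geometric points -/
theorem idem_trivial_of_lift {P Q : Type u} [CommRing P] [CommRing Q] (h : P →+* Q)
    (hlift : ∀ (K : Type u) [Field K] [IsAlgClosed K] (φ : P →+* K), ∃ φ' : Q →+* K, φ'.comp h = φ)
    {e : P} (he : IsIdempotentElem e) (hq : h e = 0 ∨ h e = 1) : e = 0 ∨ e = 1 := by
  have key : ∀ d : P, IsIdempotentElem d → h d = 0 → d = 0 := fun d hd h0 => by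
    refine hd.eq_zero_of_isNilpotent ?_
    rw [← mem_nilradical, nilradical_eq_sInf, Ideal.mem_sInf]
    intro p hp
    haveI : p.IsPrime := hp
    obtain ⟨φ', hφ'⟩ := hlift (AlgebraicClosure p.ResidueField)
      ((algebraMap p.ResidueField _).comp (algebraMap P p.ResidueField))
    have := congr($hφ' d)
    rw [RingHom.comp_apply, h0, map_zero, RingHom.comp_apply] at this
    exact Ideal.algebraMap_residueField_eq_zero.1
      ((algebraMap p.ResidueField (AlgebraicClosure p.ResidueField)).injective (this.symm.trans (map_zero _).symm))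
  rcases hq with hq | hq
  · exact .inl (key e he hq)
  · exact .inr (sub_eq_zero.1 (key _ he.one_sub (by rw [map_sub, map_one, hq, sub_self]))).symm

/-- idempotents in a connected spectrum over a base -/
theorem eq_zero_or_one_of_factor {P Q : Type u} [CommRing P] [CommRing Q] (h : P →+* Q) {Z : Scheme.{u}}
    [ConnectedSpace Z] (s : Spec (CommRingCat.of Q) ⟶ Z) (t : Z ⟶ Spec (CommRingCat.of P))
    (hst : s ≫ t = Spec.map (CommRingCat.ofHom h)) {e : P} (he : IsIdempotentElem e) : h e = 0 ∨ h e = 1 := by
  let D : Set (PrimeSpectrum P) := PrimeSpectrum.basicOpen e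
  have hD : IsClopen D := PrimeSpectrum.isClopen_iff.2 ⟨e, he, rfl⟩
  have key : ∀ q : PrimeSpectrum Q, (h e ∉ q.asIdeal) ↔ s q ∈ t ⁻¹' D := fun q => by
    show _ ↔ t (s q) ∈ D
    rw [← Scheme.Hom.comp_apply, hst]
    rfl
  rcases isClopen_iff.1 (hD.preimage t.continuous) with h0 | h1
  · refine .inl ((he.map h).eq_zero_of_isNilpotent ?_)
    rw [← mem_nilradical, nilradical_eq_sInf, Ideal.mem_sInf]
    intro p hp
    by_contra hn
    exact (h0 ▸ (key ⟨p, hp⟩).1 hn : _ ∈ (∅ : Set Z))
  · refine .inr ?_
    rw [← sub_eq_zero, ← neg_eq_zero, neg_sub]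
    refine ((he.map h).one_sub).eq_zero_of_isNilpotent ?_
    rw [← mem_nilradical, nilradical_eq_sInf, Ideal.mem_sInf]
    intro p hp
    have hne := (key ⟨p, hp⟩).2 (h1 ▸ Set.mem_univ _)
    by_contra hn
    exact hne ((hp.mem_or_mem (show h e * (1 - h e) ∈ p by
      rw [mul_sub, mul_one, (he.map h).eq, sub_self]; exact p.zero_mem)).resolve_right hn)

/-- an element killed in all fields over a ring is nilpotent, so directed colimits of flat algebras are flat -/
theorem flat_of_isColim {A : Type u} [CommRing A] {J : Type*} {G : J → Type u} [∀ i, CommRing (G i)]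
    [∀ i, Algebra A (G i)] [∀ i, Module.Flat A (G i)] {R : Type u} [CommRing R] [Algebra A R]
    {gR : ∀ i, G i →ₐ[A] R} (hG : DirColim.IsColim gR) : Module.Flat A R := by
  refine Module.Flat.iff_forall_isTrivialRelation.2 fun {l f x} hfx => ?_
  obtain ⟨i, x', hx'⟩ := hG.surj_fintype x
  obtain ⟨j, φ, hφ⟩ := hG.ker i (∑ t, f t • x' t) (by
    rw [map_sum, ← hfx]
    exact Finset.sum_congr rfl fun t _ => by rw [map_smul, hx'])
  rw [map_sum] at hφ
  simp only [map_smul] at hφ
  obtain ⟨k, a, y, hxy, ha⟩ :=
    Module.Flat.isTrivialRelation_of_sum_smul_eq_zero (R := A) (M := G j) (f := f) (x := fun t => φ.1 (x' t)) hφ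
  refine ⟨k, a, fun s => gR j (y s), fun t => ?_, ha⟩
  rw [← hx' t, ← φ.apply]
  refine (congrArg _ (hxy t)).trans ?_
  rw [map_sum]
  exact Finset.sum_congr rfl fun s _ => map_smul _ _ _

/-- changing the base of a directed colimit -/
theorem isColim_restrictScalars {A B : Type u} [CommRing A] [CommRing B] [Algebra A B] {J : Type*}
    {G : J → Type u} [∀ i, CommRing (G i)] [∀ i, Algebra A (G i)] [∀ i, Algebra B (G i)]
    [∀ i, IsScalarTower A B (G i)] {R : Type u} [CommRing R] [Algebra A R] [Algebra B R] [IsScalarTower A B R]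
    {g : ∀ i, G i →ₐ[B] R} (hG : DirColim.IsColim g) :
    DirColim.IsColim (R := A) fun i => (g i).restrictScalars A := by
  let up : ∀ {i j : J}, DirColim.Trans g i j →
      DirColim.Trans (R := A) (fun i => (g i).restrictScalars A) i j := fun {i j} φ =>
    ⟨φ.1.restrictScalars A, AlgHom.ext fun x => φ.apply x⟩
  refine ⟨hG.surj, fun i j => ?_, fun i x hx => ?_⟩
  · obtain ⟨k, ⟨φ⟩, ⟨ψ⟩⟩ := hG.directed i j
    exact ⟨k, ⟨up φ⟩, ⟨up ψ⟩⟩
  · obtain ⟨j, φ, hφ⟩ := hG.ker i x hx
    exact ⟨j, up φ, hφ⟩

/-- etale algebras over base changes of reduced algebras over perfect fields have geometrically reduced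
fibres -/
theorem geometricallyReduced_tensor {k : Type u} [Field k] [PerfectField k] (R A : Type u) [CommRing R]
    [Algebra k R] [CommRing A] [Algebra k A] [_root_.IsReduced A] (M : Type u) [CommRing M]
    [Algebra (R ⊗[k] A) M] [Algebra.Etale (R ⊗[k] A) M] [Algebra R M] [IsScalarTower R (R ⊗[k] A) M] :
    GeometricallyReduced (Spec.map (CommRingCat.ofHom (algebraMap R M))) := by
  let p : Spec (CommRingCat.of A) ⟶ Spec (CommRingCat.of k) := Spec.map (CommRingCat.ofHom (algebraMap k A))
  haveI hp : GeometricallyReduced p := by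
    refine ⟨fun L _ y Z f₁ f₂ h => ?_⟩
    obtain ⟨φ, rfl⟩ := Spec.map_surjective y
    letI : Algebra k L := φ.hom.toAlgebra
    haveI : Algebra.IsGeometricallyReduced k A := GrpSchLib.isGeometricallyReduced_of_isReduced (k := k) A
    haveI : _root_.IsReduced (L ⊗[k] A) := FBaseLib.isReduced_field_tensor A L
    haveI : AlgebraicGeometry.IsReduced (Spec (CommRingCat.of (L ⊗[k] A))) := inferInstance
    let e : Z ≅ Spec (CommRingCat.of (L ⊗[k] A)) := h.flip.isoPullback ≪≫ pullbackSpecIso k L A
    exact isReduced_of_isOpenImmersion e.hom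
  haveI : GeometricallyReduced (Spec.map (CommRingCat.ofHom (algebraMap R (R ⊗[k] A)))) := by
    have e : Spec.map (CommRingCat.ofHom (algebraMap R (R ⊗[k] A))) =
        (pullbackSpecIso k R A).inv ≫ pullback.fst (Spec.map (CommRingCat.ofHom (algebraMap k R))) p := by
      rw [pullbackSpecIso_inv_fst]
      rfl
    rw [e]
    exact geometricallyReduced_etale_comp _ _
  haveI : AlgebraicGeometry.Etale (Spec.map (CommRingCat.ofHom (algebraMap (R ⊗[k] A) M))) :=
    (HasRingHomProperty.Spec_iff (P := @AlgebraicGeometry.Etale)).2 (RingHom.etale_algebraMap.2 inferInstance)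
  rw [IsScalarTower.algebraMap_eq R (R ⊗[k] A) M, CommRingCat.ofHom_comp, Spec.map_comp]
  exact geometricallyReduced_etale_comp _ _

/-- quotient maps descend along surjective changes of source -/
theorem isQuotientMap_fst_of_model {X T X' T' U : Scheme.{u}} (e : X ⟶ T) (e' : X' ⟶ T') (i : X' ⟶ X)
    (j : T' ⟶ T) (w : i ≫ e = e' ≫ j) [IsClosedImmersion j] [Surjective j] [Flat e'] [QuasiCompact e']
    [Surjective e'] (p : U ⟶ T) : Topology.IsQuotientMap (pullback.fst p e) := by
  let q₁ := pullback.fst p j
  let q₂ := pullback.fst (pullback.snd p j) e'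
  have h₁ : Topology.IsQuotientMap q₁ :=
    q₁.isClosedEmbedding.isClosedMap.isQuotientMap q₁.continuous q₁.surjective
  have h₂ : Topology.IsQuotientMap q₂ := Flat.isQuotientMap_of_surjective _
  let r : pullback (pullback.snd p j) e' ⟶ pullback p e :=
    pullback.lift (q₂ ≫ q₁) (pullback.snd _ _ ≫ i) (by
      rw [Category.assoc, Category.assoc, pullback.condition, ← Category.assoc, pullback.condition,
        Category.assoc, w])
  have hr : r ≫ pullback.fst p e = q₂ ≫ q₁ := pullback.lift_fst _ _ _
  refine Topology.IsQuotientMap.of_comp r.continuous (pullback.fst p e).continuous ?_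
  rw [← TopCat.coe_comp, ← Scheme.Hom.comp_base, hr, Scheme.Hom.comp_base, TopCat.coe_comp]
  exact h₁.comp h₂

/-- morphisms with connected geometric fibres whose etale base changes are quotient maps are 0-acyclic -/
theorem isZeroAcyclic_of_quot {X Y : Scheme.{u}} (e : X ⟶ Y) [GeometricallyConnected e]
    (hquot : ∀ {U : Scheme.{u}} (p : U ⟶ Y) [AlgebraicGeometry.Etale p],
      Topology.IsQuotientMap (pullback.fst p e)) : EtAcyc.IsZeroAcyclic e := by
  intro V F
  let p := EtAcyc.prj e V
  haveI : GeometricallyConnected p := inferInstanceAs (GeometricallyConnected (pullback.fst V.hom e))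
  haveI : AlgebraicGeometry.Etale V.hom := V.prop
  suffices hb : ∀ W : V.left.Etale, Function.Bijective (pullSect (A := Type (u + 1)) p F (U := W)) by
    haveI : IsIso ((sheafToPresheaf _ _).map ((EtDesc.adjSh p).unit.app F)) := by
      rw [NatTrans.isIso_iff_isIso_app]
      intro W
      exact (isIso_iff_bijective _).2 (hb W.unop)
    exact isIso_of_reflects_iso _ (sheafToPresheaf _ _)
  intro W
  let W' : (pullback V.hom e).Etale := (EtCoh.bc p).obj W
  let a : W'.left ⟶ W.left := pullback.fst W.hom p
  have ha : a ≫ W.hom = W'.hom ≫ p := pullback.condition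
  haveI : GeometricallyConnected a := inferInstanceAs (GeometricallyConnected (pullback.fst W.hom p))
  have htb : toBC p (T' := W) (W := W') a ha = 𝟙 W' := by
    refine MorphismProperty.Over.Hom.ext (pullback.hom_ext ?_ ?_)
    · exact (pullback.lift_fst _ _ _).trans (Category.id_comp _).symm
    · exact (pullback.lift_snd _ _ _).trans (Category.id_comp _).symm
  have hmap : ∀ z, ((pullA (Type (u + 1)) p).obj F).obj.map (toBC p (T' := W) (W := W') a ha).op z = z :=
    fun z => by rw [htb, op_id, CategoryTheory.Functor.map_id]; rfl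
  refine ⟨fun s t h => eq_of_pullSect_eq p F (T' := W) (W := W') a ha s t (congrArg _ h), fun σ => ?_⟩
  obtain ⟨τ, hτ⟩ := exists_pullSect_eq_of_quot p F (T' := W) (W := W') a ha σ fun U k => by
    haveI := etale_left k
    haveI : AlgebraicGeometry.Etale W.hom := W.prop
    let φ : pullback k.left a ≅ pullback (k.left ≫ W.hom ≫ V.hom) e :=
      pullbackRightPullbackFstIso W.hom p k.left ≪≫ pullbackRightPullbackFstIso V.hom e (k.left ≫ W.hom) ≪≫
        pullback.congrHom (Category.assoc _ _ _) rfl
    have hφ : φ.hom ≫ pullback.fst _ _ = pullback.fst k.left a := by simp [φ, a, p]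
    rw [← hφ, Scheme.Hom.comp_base, TopCat.coe_comp]
    exact (hquot _).comp φ.hom.homeomorph.isQuotientMap
  exact ⟨τ, (hmap _).symm.trans hτ⟩

end Groth.Agent.H0FBC.OverField
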