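import Groth.Agent.H0FBC.FieldMain
import Groth.Agent.AlgSpDec.EtHenzField
import Groth.Agent.EtFound.IntegralCore
import Groth.Prelude.Def_EtAcyc

/-!
# Strict henselizations as colimits of etale algebras over charts, and the theorem over discrete bases
-/

set_option autoImplicit false
set_option linter.style.haveILetI false
set_option linter.unusedSectionVars false
set_option backward.isDefEq.respectTransparency false
set_option backward.isDefEq.respectTransparency.types false
universe u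

open CategoryTheory CategoryTheory.Limits AlgebraicGeometry TopologicalSpace Opposite
open scoped TensorProduct

attribute [-instance] CategoryTheory.catToReflQuiver

namespace Groth.Agent.H0FBC.OverField

open Groth.Agent IsLocalRing
open Groth.Agent.Hensel (Henz Nbhd)

/-- strict henselizations of local rings as colimits of etale algebras over a chart -/
theorem exists_strict_colim {Y : Scheme.{u}} {B : Type u} [CommRing B] (i : Spec (CommRingCat.of B) ⟶ Y)
    [IsOpenImmersion i] (y : Y) (hy : y ∈ Set.range i) (R : Type u) [CommRing R] [IsLocalRing R]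
    [Algebra (Y.presheaf.stalk y) R] [IsLocalHom (algebraMap (Y.presheaf.stalk y) R)]
    [_root_.Hensel.IsStrictHenselization (Y.presheaf.stalk y) R] :
    ∃ (β : B →+* R), Spec.map (CommRingCat.ofHom β) ≫ i =
        Spec.map (CommRingCat.ofHom (algebraMap (Y.presheaf.stalk y) R)) ≫ Y.fromSpecStalk y ∧
      letI := β.toAlgebra
      ∃ (κ : Type u) (G : κ → Type u) (_ : ∀ N, CommRing (G N)) (_ : ∀ N, Algebra B (G N))
        (_ : ∀ N, Algebra.Etale B (G N)) (g : ∀ N, G N →ₐ[B] R), DirColim.IsColim g := by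
  obtain ⟨b, rfl⟩ := hy
  let D := Y.presheaf.stalk (i b)
  let S := (Spec (CommRingCat.of B)).presheaf.stalk b
  let ψ₀ : CommRingCat.of B ⟶ S :=
    (Scheme.ΓSpecIso (CommRingCat.of B)).inv ≫ (Spec (CommRingCat.of B)).presheaf.germ ⊤ b trivial
  let ψ : CommRingCat.of B ⟶ D := ψ₀ ≫ inv (i.stalkMap b)
  have hψ : Spec.map ψ ≫ i = Y.fromSpecStalk (i b) := by
    rw [Spec.map_comp, Category.assoc, ← Spec.fromSpecStalk_eq, Spec.map_inv, IsIso.inv_comp_eq]
    exact (Scheme.SpecMap_stalkMap_fromSpecStalk i).symm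
  letI : Algebra B S := ψ₀.hom.toAlgebra
  letI : Algebra B D := ψ.hom.toAlgebra
  haveI hS : IsLocalization.AtPrime S (PrimeSpectrum.asIdeal (R := B) b) :=
    StructureSheaf.IsLocalization.to_stalk (CommRingCat.of B) b
  haveI hD : IsLocalization.AtPrime D (PrimeSpectrum.asIdeal (R := B) b) :=
    IsLocalization.isLocalization_of_algEquiv (PrimeSpectrum.asIdeal (R := B) b).primeCompl (S := S)
      (AlgEquiv.ofRingEquiv (f := (asIso (inv (i.stalkMap b))).commRingCatIsoToRingEquiv) fun _ => rfl)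
  let K := AlgebraicClosure (ResidueField D)
  haveI : IsScalarTower B D K := inferInstance
  haveI : IsLocalHom (algebraMap D K) := ⟨fun d hd => by
    by_contra hn
    rw [IsScalarTower.algebraMap_apply D (ResidueField D) K] at hd
    have h0 : algebraMap D (ResidueField D) d = 0 := (residue_eq_zero_iff d).2 hn
    rw [h0, map_zero] at hd
    exact not_isUnit_zero hd⟩
  let M := (PrimeSpectrum.asIdeal (R := B) b).primeCompl
  let a := AlgSpDec.EtHenz.fromLocal B D K M
  letI : Algebra D (Henz B K) := a.toRingHom.toAlgebra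
  obtain ⟨hl, hs⟩ := AlgSpDec.EtHenz.isStrictHenselization B D K M
  obtain ⟨E₁⟩ := Hensel.exists_algEquiv_strictHenz D (Henz B K)
  obtain ⟨E₂⟩ := Hensel.exists_algEquiv_strictHenz D R
  let E : Henz B K ≃ₐ[D] R := E₁.symm.trans E₂
  let β : B →+* R := (algebraMap D R).comp ψ.hom
  refine ⟨β, ?_, ?_⟩
  · show Spec.map (ψ ≫ CommRingCat.ofHom (algebraMap D R)) ≫ i = _
    rw [Spec.map_comp, Category.assoc, hψ]
  letI : Algebra B R := β.toAlgebra
  let E' : Henz B K →ₐ[B] R := { E.toRingEquiv.toRingHom with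
    commutes' := fun x => by
      show E (algebraMap B (Henz B K) x) = algebraMap D R (ψ.hom x)
      rw [show algebraMap B (Henz B K) x = algebraMap D (Henz B K) (algebraMap B D x) from (a.commutes x).symm,
        E.commutes]
      rfl }
  have hE : Function.Bijective E' := E.bijective
  refine ⟨Nbhd B K, fun N => N.B, inferInstance, inferInstance, fun N => inferInstance,
    fun N => E'.comp (Henz.ofB N), ?_, fun N₁ N₂ => ?_, fun N x hx => ?_⟩
  · intro r
    obtain ⟨z, rfl⟩ := hE.2 r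
    obtain ⟨N, x, rfl⟩ := Henz.exists_ofB z
    exact ⟨N, x, rfl⟩
  · obtain ⟨P, ⟨φ₁⟩, ⟨φ₂⟩⟩ := (EtFound.isColim_henz B K).directed N₁ N₂
    exact ⟨P, ⟨⟨φ₁.1, by rw [AlgHom.comp_assoc, φ₁.2]⟩⟩, ⟨⟨φ₂.1, by rw [AlgHom.comp_assoc, φ₂.2]⟩⟩⟩
  · obtain ⟨P, φ, hφ⟩ := (EtFound.isColim_henz B K).ker N x (hE.1 (hx.trans (map_zero E').symm))
    exact ⟨P, ⟨φ.1, by rw [AlgHom.comp_assoc, φ.2]⟩, hφ⟩

/-- morphisms to discrete schemes are universally locally 0-acyclic -/
theorem isULocZeroAcyclic_of_discrete {X Y : Scheme.{u}} (g : X ⟶ Y) [DiscreteTopology Y] :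
    EtAcyc.IsULocZeroAcyclic g := by
  intro X₁ Y₁ g₁ b' b hpb x RY RX _ _ _ _ _ _ _ _ _ _ _ _ hcomp
  let y : Y := g (b' x)
  have hy₁ : b (g₁ x) = y := by
    rw [← Scheme.Hom.comp_apply, ← hpb.w, Scheme.Hom.comp_apply]
  -- the chart on the discrete base
  obtain ⟨A₀, i₀, hi₀, hy₀, hi₀'⟩ := Scheme.exists_affine_mem_range_and_range_subset (x := y)
    (U := (⟨{y}, isOpen_discrete _⟩ : Y.Opens)) rfl
  have hr₀ : Set.range i₀ = {y} := Set.Subset.antisymm hi₀' (Set.singleton_subset_iff.2 hy₀)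
  haveI hsub : Subsingleton (PrimeSpectrum A₀) := ⟨fun p p' => by
    refine i₀.isOpenEmbedding.injective ?_
    rw [show i₀ p = y from hr₀.le ⟨p, rfl⟩, show i₀ p' = y from hr₀.le ⟨p', rfl⟩]⟩
  obtain ⟨A, iA, hiA, hxA, hiA'⟩ := Scheme.exists_affine_mem_range_and_range_subset (x := b' x)
    (U := g ⁻¹ᵁ i₀.opensRange) hy₀
  obtain ⟨B, iB, hiB, hyB, hiB'⟩ := Scheme.exists_affine_mem_range_and_range_subset (x := g₁ x)
    (U := b ⁻¹ᵁ i₀.opensRange) (by
      show b (g₁ x) ∈ Set.range i₀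
      rw [hy₁]; exact hy₀)
  obtain ⟨φA, hφA⟩ := Spec.map_surjective (IsOpenImmersion.lift i₀ (iA ≫ g) (by
    rintro _ ⟨t, rfl⟩
    rw [Scheme.Hom.comp_apply]
    exact hiA' ⟨t, rfl⟩))
  obtain ⟨φB, hφB⟩ := Spec.map_surjective (IsOpenImmersion.lift i₀ (iB ≫ b) (by
    rintro _ ⟨t, rfl⟩
    rw [Scheme.Hom.comp_apply]
    exact hiB' ⟨t, rfl⟩))
  have hA : Spec.map φA ≫ i₀ = iA ≫ g := by rw [hφA, IsOpenImmersion.lift_fac]
  have hB : Spec.map φB ≫ i₀ = iB ≫ b := by rw [hφB, IsOpenImmersion.lift_fac]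
  letI : Algebra A₀ A := φA.hom.toAlgebra
  letI : Algebra A₀ B := φB.hom.toAlgebra
  let P := pullback (Spec.map φB) (Spec.map φA)
  let m : P ⟶ pullback b g := pullback.map (Spec.map φB) (Spec.map φA) b g iB iA i₀ hB hA
  haveI : IsOpenImmersion m := inferInstance
  let sA : Spec (CommRingCat.of (B ⊗[A₀] A)) ⟶ P := (pullbackSpecIso A₀ B A).inv
  let j : Spec (CommRingCat.of (B ⊗[A₀] A)) ⟶ X₁ := sA ≫ m ≫ hpb.flip.isoPullback.inv
  haveI : IsOpenImmersion j := inferInstance
  have hxj : x ∈ Set.range j := by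
    have h1 : hpb.flip.isoPullback.hom x ∈ Set.range m := by
      rw [Scheme.Pullback.range_map]
      refine ⟨?_, ?_⟩
      · show (hpb.flip.isoPullback.hom ≫ pullback.fst b g) x ∈ Set.range iB
        rw [hpb.flip.isoPullback_hom_fst]; exact hyB
      · show (hpb.flip.isoPullback.hom ≫ pullback.snd b g) x ∈ Set.range iA
        rw [hpb.flip.isoPullback_hom_snd]; exact hxA
    obtain ⟨t, ht⟩ := h1
    obtain ⟨t', rfl⟩ := (pullbackSpecIso A₀ B A).inv.surjective t
    refine ⟨t', ?_⟩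
    show (sA ≫ m ≫ hpb.flip.isoPullback.inv) t' = x
    rw [Scheme.Hom.comp_apply, Scheme.Hom.comp_apply,
      show m (sA t') = hpb.flip.isoPullback.hom x from ht, ← Scheme.Hom.comp_apply, Iso.hom_inv_id]
    rfl
  have hjg : j ≫ g₁ = Spec.map (CommRingCat.ofHom (Algebra.TensorProduct.includeLeftRingHom :
      B →+* B ⊗[A₀] A)) ≫ iB := by
    show (sA ≫ m ≫ hpb.flip.isoPullback.inv) ≫ g₁ = _
    rw [Category.assoc, Category.assoc, hpb.flip.isoPullback_inv_fst]
    show (pullbackSpecIso A₀ B A).inv ≫ pullback.lift _ _ _ ≫ pullback.fst b g = _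
    rw [pullback.lift_fst, ← Category.assoc]
    congr 1
    exact pullbackSpecIso_inv_fst A₀ B A
  obtain ⟨βY, hβY, ιY, G, _, _, _, gY, hG⟩ := exists_strict_colim iB (g₁ x) hyB RY
  obtain ⟨βX, hβX, ιX, H, _, _, _, gX, hH⟩ := exists_strict_colim j x hxj RX
  letI : Algebra B RY := βY.toAlgebra
  letI : Algebra (B ⊗[A₀] A) RX := βX.toAlgebra
  have hcompat : (algebraMap RY RX).comp (algebraMap B RY) =
      (algebraMap (B ⊗[A₀] A) RX).comp Algebra.TensorProduct.includeLeftRingHom := by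
    have e : Spec.map (CommRingCat.ofHom ((algebraMap RY RX).comp βY)) ≫ iB =
        Spec.map (CommRingCat.ofHom (βX.comp Algebra.TensorProduct.includeLeftRingHom)) ≫ iB := by
      rw [CommRingCat.ofHom_comp, CommRingCat.ofHom_comp, Spec.map_comp, Spec.map_comp, Category.assoc,
        Category.assoc, hβY, ← hjg, ← Category.assoc (Spec.map (CommRingCat.ofHom βX)), hβX, Category.assoc,
        ← Scheme.SpecMap_stalkMap_fromSpecStalk g₁]
      simp only [← Category.assoc]
      congr 1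
      rw [← Spec.map_comp, ← Spec.map_comp]
      congr 1
      exact CommRingCat.hom_ext hcomp
    rw [cancel_mono] at e
    exact congrArg CommRingCat.Hom.hom (Spec.map_injective e)
  haveI : HenselianLocalRing RY := _root_.Hensel.IsStrictHenselization.henselian (Y₁.presheaf.stalk (g₁ x))
  haveI : HenselianLocalRing RX := _root_.Hensel.IsStrictHenselization.henselian (X₁.presheaf.stalk x)
  haveI : IsSepClosed (ResidueField RY) :=
    haveI := (_root_.Hensel.IsStrictHenselization.isSepClosure :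
      IsSepClosure (ResidueField (Y₁.presheaf.stalk (g₁ x))) (ResidueField RY))
    IsSepClosure.sep_closed (ResidueField (Y₁.presheaf.stalk (g₁ x)))
  haveI : IsSepClosed (ResidueField RX) :=
    haveI := (_root_.Hensel.IsStrictHenselization.isSepClosure :
      IsSepClosure (ResidueField (X₁.presheaf.stalk x)) (ResidueField RX))
    IsSepClosure.sep_closed (ResidueField (X₁.presheaf.stalk x))
  -- the field
  obtain ⟨p₀, -⟩ := hy₀
  let m₀ : Ideal A₀ := PrimeSpectrum.asIdeal (R := A₀) p₀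
  haveI : m₀.IsMaximal := by
    obtain ⟨M, hM, hle⟩ := Ideal.exists_le_maximal m₀ (Ideal.IsPrime.ne_top (PrimeSpectrum.isPrime (R := A₀) p₀))
    have : (⟨M, hM.isPrime⟩ : PrimeSpectrum A₀) = ⟨m₀, PrimeSpectrum.isPrime (R := A₀) p₀⟩ := Subsingleton.elim _ _
    have hMm : M = m₀ := congrArg PrimeSpectrum.asIdeal this
    exact hMm ▸ hM
  letI : Field (A₀ ⧸ m₀) := Ideal.Quotient.field m₀
  refine isZeroAcyclic_strict (Ideal.Quotient.mk m₀) Ideal.Quotient.mk_surjective ?_ hcompat hG hH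
  rw [Ideal.mk_ker, nilradical_eq_sInf]
  refine le_sInf fun Q hQ => le_of_eq ?_
  exact congrArg PrimeSpectrum.asIdeal
    (Subsingleton.elim (⟨m₀, PrimeSpectrum.isPrime (R := A₀) p₀⟩ : PrimeSpectrum A₀) ⟨Q, hQ⟩)

end Groth.Agent.H0FBC.OverField
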