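import Groth.Agent.H0FBC.FieldBasic
import Groth.Agent.Hensel.StrictSchemes
import Mathlib.RingTheory.Smooth.NoetherianDescent
import Mathlib.AlgebraicGeometry.Morphisms.FlatMono
import Mathlib.FieldTheory.PurelyInseparable.PerfectClosure

/-!
# Idempotents in geometric fibres of strict localizations over fields
-/

set_option autoImplicit false
set_option linter.style.haveILetI false
set_option linter.unusedSectionVars false
set_option backward.isDefEq.respectTransparency false
set_option backward.isDefEq.respectTransparency.types false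
universe u

open CategoryTheory CategoryTheory.Limits AlgebraicGeometry TopologicalSpace Opposite
open scoped TensorProduct

attribute [-instance] CategoryTheory.catToReflQuiver

namespace Groth.Agent.H0FBC.OverField

open Groth.Agent IsLocalRing

/-- idempotents of geometric fibres of strict localizations of flat morphisms with geometrically reduced
fibres are trivial -/
theorem idem_of_geometricallyReduced (R M T L : Type u) [CommRing R] [HenselianLocalRing R]
    [IsSepClosed (ResidueField R)] [CommRing M] [Algebra R M] [Module.Flat R M]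
    [Algebra.FinitePresentation R M]
    [GeometricallyReduced (Spec.map (CommRingCat.ofHom (algebraMap R M)))]
    [CommRing T] [HenselianLocalRing T] [IsSepClosed (ResidueField T)] [Algebra R T]
    [IsLocalHom (algebraMap R T)] (ψ : M →ₐ[R] T) [Field L] [Algebra R L] {e : L ⊗[R] M}
    (he : IsIdempotentElem e) :
    Algebra.TensorProduct.map (AlgHom.id L L) ψ e = 0 ∨ Algebra.TensorProduct.map (AlgHom.id L L) ψ e = 1 := by
  let g : Spec (CommRingCat.of M) ⟶ Spec (CommRingCat.of R) := Spec.map (CommRingCat.ofHom (algebraMap R M))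
  let π : Spec (CommRingCat.of T) ⟶ Spec (CommRingCat.of R) := Spec.map (CommRingCat.ofHom (algebraMap R T))
  let ψS : Spec (CommRingCat.of T) ⟶ Spec (CommRingCat.of M) := Spec.map (CommRingCat.ofHom ψ.toRingHom)
  have hψg : ψS ≫ g = π := by
    rw [← Spec.map_comp, ← CommRingCat.ofHom_comp, show (ψ.toRingHom).comp (algebraMap R M) = algebraMap R T from ψ.comp_algebraMap]
  haveI : Flat g := (HasRingHomProperty.Spec_iff (P := @Flat)).2 (RingHom.flat_algebraMap_iff.2 inferInstance)
  haveI : LocallyOfFinitePresentation g :=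
    (HasRingHomProperty.Spec_iff (P := @LocallyOfFinitePresentation)).2
      (RingHom.finitePresentation_algebraMap.2 inferInstance)
  obtain ⟨V, U', v, m, a, y, hv, hm, hy, hav, -, hGC⟩ := exists_geomConnected_nhd g (ψS (closedPoint T))
  -- lifting the closed point of `T`
  obtain ⟨z, hz₁, hz₂⟩ :=
    Scheme.Pullback.exists_preimage_pullback (f := ψS) (g := m) (closedPoint T) y hy.symm
  haveI : AlgebraicGeometry.Etale (pullback.fst ψS m) := inferInstance
  obtain ⟨w, hw, hw₀⟩ := (Hensel.strictlyHenselian_iff_exists_section T).1 ⟨‹_›, ‹_›⟩ _ (pullback.fst ψS m)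
    inferInstance z hz₁
  let q : Spec (CommRingCat.of T) ⟶ U' := w ≫ pullback.snd ψS m
  have hqm : q ≫ m = ψS := by
    rw [Category.assoc, ← pullback.condition, ← Category.assoc, hw, Category.id_comp]
  have hq₀ : q (closedPoint T) = y := by
    rw [Scheme.Hom.comp_apply]; exact (congrArg _ hw₀).trans hz₂
  -- the section of `V`
  have hvy : v (a y) = closedPoint R := by
    rw [← Scheme.Hom.comp_apply, hav, Scheme.Hom.comp_apply, hy, ← Scheme.Hom.comp_apply, hψg]
    exact PrimeSpectrum.ext (((local_hom_TFAE (algebraMap R T)).out 0 4).1 ‹_›)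
  obtain ⟨s, hs, hs₀⟩ := (Hensel.strictlyHenselian_iff_exists_section R).1 ⟨‹_›, ‹_›⟩ V v hv (a y) hvy
  haveI := hv
  haveI : AlgebraicGeometry.Etale (s ≫ v) := by rw [hs]; infer_instance
  haveI : AlgebraicGeometry.Etale s := AlgebraicGeometry.Etale.of_comp s v
  haveI : Mono s := mono_of_mono_fac hs
  haveI : IsOpenImmersion s := IsOpenImmersion.of_flat_of_mono s
  have hqa : q ≫ a ≫ v = π := by rw [hav, ← Category.assoc, hqm, hψg]
  have htop : Set.range (q ≫ a) ⊆ Set.range s := by
    rintro _ ⟨t, rfl⟩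
    have h : (q ≫ a) (closedPoint T) ∈ Set.range s := ⟨closedPoint R, by
      rw [Scheme.Hom.comp_apply, hq₀]; exact hs₀⟩
    exact (IsLocalRing.specializes_closedPoint t).mem_open (s.isOpenEmbedding.isOpen_range.preimage (q ≫ a).continuous) h
  let π' := IsOpenImmersion.lift s (q ≫ a) htop
  have hπ' : π' = π := by
    rw [← hqa, ← Category.comp_id π', ← hs, IsOpenImmersion.lift_fac_assoc, Category.assoc]
  have hcomm : q ≫ a = π ≫ s := by rw [← hπ', IsOpenImmersion.lift_fac]
  -- the connected geometric fibre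
  let U'' := pullback a s
  let b : U'' ⟶ Spec (CommRingCat.of R) := pullback.snd a s
  let ℓ : Spec (CommRingCat.of L) ⟶ Spec (CommRingCat.of R) := Spec.map (CommRingCat.ofHom (algebraMap R L))
  let Z := pullback ℓ b
  haveI := hGC
  haveI : GeometricallyConnected b := inferInstanceAs (GeometricallyConnected (pullback.snd a s))
  haveI : ConnectedSpace Z :=
    GeometricallyConnected.geometrically_connectedSpace (f := b) ℓ _ _ (IsPullback.of_hasPullback ℓ b).flip
  let q' : Spec (CommRingCat.of T) ⟶ U'' := pullback.lift q π hcomm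
  have hb : b = (pullback.fst a s ≫ m) ≫ g := by
    rw [Category.assoc, ← hav, ← Category.assoc, pullback.condition, Category.assoc, hs, Category.comp_id]
  let sc : Spec (CommRingCat.of (L ⊗[R] T)) ⟶ Z :=
    (pullbackSpecIso R L T).inv ≫ pullback.map ℓ π ℓ b (𝟙 _) q' (𝟙 _) (by simp)
      (by rw [Category.comp_id]; exact (pullback.lift_snd _ _ _).symm)
  let tc : Z ⟶ Spec (CommRingCat.of (L ⊗[R] M)) :=
    pullback.map ℓ b ℓ g (𝟙 _) (pullback.fst a s ≫ m) (𝟙 _) (by simp) (by rw [Category.comp_id]; exact hb) ≫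
      (pullbackSpecIso R L M).hom
  refine eq_zero_or_one_of_factor (Algebra.TensorProduct.map (AlgHom.id L L) ψ).toRingHom sc tc ?_ he
  rw [← cancel_mono (pullbackSpecIso R L M).inv]
  refine pullback.hom_ext ?_ ?_
  · simp only [sc, tc, ℓ, g, π, Category.assoc, Iso.hom_inv_id, Category.comp_id, pullback.lift_fst, pullback.map,
      pullback.lift_fst_assoc, pullbackSpecIso_inv_fst]
    rw [← Spec.map_comp, ← CommRingCat.ofHom_comp]
    congr 2
    ext l
    simp
  · simp only [sc, tc, ℓ, g, π, Category.assoc, Iso.hom_inv_id, Category.comp_id, pullback.lift_snd, pullback.map,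
      pullback.lift_snd_assoc, pullbackSpecIso_inv_snd]
    rw [show q' ≫ pullback.fst a s ≫ m = ψS by rw [pullback.lift_fst_assoc, hqm],
      pullbackSpecIso_inv_snd_assoc, ← Spec.map_comp, ← Spec.map_comp, ← CommRingCat.ofHom_comp, ← CommRingCat.ofHom_comp]
    congr 2

/-- maps out of tensor products, from ring maps -/
noncomputable def tlift {R A B C : Type u} [CommRing R] [CommRing A] [CommRing B] [CommRing C] [Algebra R A]
    [Algebra R B] (f : A →+* C) (g : B →+* C) (h : f.comp (algebraMap R A) = g.comp (algebraMap R B)) :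
    A ⊗[R] B →+* C :=
  letI : Algebra R C := (f.comp (algebraMap R A)).toAlgebra
  (Algebra.TensorProduct.lift (S := R) ({ f with commutes' := fun _ => rfl } : A →ₐ[R] C)
    ({ g with commutes' := fun r => (congr($h r)).symm } : B →ₐ[R] C) fun _ _ => .all _ _).toRingHom

@[simp] theorem tlift_tmul {R A B C : Type u} [CommRing R] [CommRing A] [CommRing B] [CommRing C] [Algebra R A]
    [Algebra R B] (f : A →+* C) (g : B →+* C) (h : f.comp (algebraMap R A) = g.comp (algebraMap R B)) (a : A)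
    (b : B) : tlift f g h (a ⊗ₜ b) = f a * g b := by
  letI : Algebra R C := (f.comp (algebraMap R A)).toAlgebra
  exact Algebra.TensorProduct.lift_tmul _ _ _ a b

theorem tlift_left {R A B C : Type u} [CommRing R] [CommRing A] [CommRing B] [CommRing C] [Algebra R A]
    [Algebra R B] (f : A →+* C) (g : B →+* C) (h : f.comp (algebraMap R A) = g.comp (algebraMap R B)) :
    (tlift f g h).comp Algebra.TensorProduct.includeLeftRingHom = f :=
  RingHom.ext fun a => by simp

theorem tlift_right {R A B C : Type u} [CommRing R] [CommRing A] [CommRing B] [CommRing C] [Algebra R A]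
    [Algebra R B] (f : A →+* C) (g : B →+* C) (h : f.comp (algebraMap R A) = g.comp (algebraMap R B)) :
    (tlift f g h).comp (Algebra.TensorProduct.includeRight : B →ₐ[R] A ⊗[R] B).toRingHom = g :=
  RingHom.ext fun a => by simp

/-- powers of elements of purely inseparable base changes come from the original algebra -/
theorem pow_mem_includeRight {k K S : Type u} [Field k] [Field K] [Algebra k K] [IsPurelyInseparable k K]
    [CommRing S] [Algebra k S] (x : K ⊗[k] S) : ∃ n > 0, ∃ s : S, x ^ n = 1 ⊗ₜ s := by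
  obtain ⟨n, hn, s, hs⟩ := IsPurelyInseparable.exists_pow_mem_range_tensorProduct (k := k) (K := K)
    (Algebra.TensorProduct.comm k K S x)
  refine ⟨n, hn, s, (Algebra.TensorProduct.comm k K S).injective ?_⟩
  rw [map_pow, ← hs]
  simp

/-- transfer of triviality of idempotents -/
theorem idem_transfer (R M T L R' M' T' : Type u) [CommRing R] [CommRing M] [Algebra R M] [CommRing T]
    [Algebra R T] [Field L] [Algebra R L] [CommRing R'] [HenselianLocalRing R'] [IsSepClosed (ResidueField R')]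
    [CommRing M'] [Algebra R' M'] [Module.Flat R' M'] [Algebra.FinitePresentation R' M']
    [GeometricallyReduced (Spec.map (CommRingCat.ofHom (algebraMap R' M')))]
    [CommRing T'] [HenselianLocalRing T'] [IsSepClosed (ResidueField T')] [Algebra R' T']
    [IsLocalHom (algebraMap R' T')] [Algebra R' L] (ιR : R →+* R') (ιM : M →+* M') (ιT : T →+* T')
    (hM : ιM.comp (algebraMap R M) = (algebraMap R' M').comp ιR)
    (hT : ιT.comp (algebraMap R T) = (algebraMap R' T').comp ιR)
    (hL : (algebraMap R' L).comp ιR = algebraMap R L) (ψ : M →ₐ[R] T) (ψ' : M' →ₐ[R'] T')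
    (hψ : ∀ x, ψ' (ιM x) = ιT (ψ x))
    (hlift : ∀ (K : Type u) [Field K] [IsAlgClosed K] (θL : L →+* K) (θT : T →+* K),
      θL.comp (algebraMap R L) = θT.comp (algebraMap R T) →
        ∃ θ : T' →+* K, θ.comp ιT = θT ∧ θL.comp (algebraMap R' L) = θ.comp (algebraMap R' T'))
    {e : L ⊗[R] M} (he : IsIdempotentElem e) :
    Algebra.TensorProduct.map (AlgHom.id L L) ψ e = 0 ∨ Algebra.TensorProduct.map (AlgHom.id L L) ψ e = 1 := by
  let h : L ⊗[R] M →+* L ⊗[R'] M' := tlift Algebra.TensorProduct.includeLeftRingHom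
    ((Algebra.TensorProduct.includeRight : M' →ₐ[R'] L ⊗[R'] M').toRingHom.comp ιM) (RingHom.ext fun r => by
      show algebraMap R L r ⊗ₜ 1 = (1 : L) ⊗ₜ[R'] ιM (algebraMap R M r)
      rw [← RingHom.comp_apply ιM, hM, ← hL]
      exact ((Algebra.TensorProduct.includeRight : M' →ₐ[R'] L ⊗[R'] M').commutes (ιR r)).symm)
  let g : L ⊗[R] T →+* L ⊗[R'] T' := tlift Algebra.TensorProduct.includeLeftRingHom
    ((Algebra.TensorProduct.includeRight : T' →ₐ[R'] L ⊗[R'] T').toRingHom.comp ιT) (RingHom.ext fun r => by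
      show algebraMap R L r ⊗ₜ 1 = (1 : L) ⊗ₜ[R'] ιT (algebraMap R T r)
      rw [← RingHom.comp_apply ιT, hT, ← hL]
      exact ((Algebra.TensorProduct.includeRight : T' →ₐ[R'] L ⊗[R'] T').commutes (ιR r)).symm)
  have key := idem_of_geometricallyReduced R' M' T' L ψ' (he.map h)
  have hsq : (Algebra.TensorProduct.map (AlgHom.id L L) ψ').toRingHom.comp h =
      g.comp (Algebra.TensorProduct.map (AlgHom.id L L) ψ).toRingHom :=
    Algebra.TensorProduct.ringHom_ext (RingHom.ext fun l => by simp [h, g])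
      (RingHom.ext fun x => by simp [h, g, hψ])
  have hsq' : Algebra.TensorProduct.map (AlgHom.id L L) ψ' (h e) =
      g (Algebra.TensorProduct.map (AlgHom.id L L) ψ e) := congr($hsq e)
  rw [hsq'] at key
  refine idem_trivial_of_lift g (fun K _ _ θ => ?_) (he.map _) key
  obtain ⟨θ', h₁, h₂⟩ := hlift K (θ.comp Algebra.TensorProduct.includeLeftRingHom)
    (θ.comp (Algebra.TensorProduct.includeRight : T →ₐ[R] L ⊗[R] T).toRingHom)
    (RingHom.ext fun r => congrArg θ ((Algebra.TensorProduct.includeRight : T →ₐ[R] L ⊗[R] T).commutes r).symm)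
  refine ⟨tlift _ θ' h₂, Algebra.TensorProduct.ringHom_ext (RingHom.ext fun l => ?_) (RingHom.ext fun t => ?_)⟩
  · simp [g]
  · have := congr($h₁ t)
    simpa [g, ← Algebra.TensorProduct.one_def] using this

/-- the model over a perfect field -/
theorem idem_step {k : Type u} [Field k] (k' : Type u) [Field k'] [Algebra k k'] [PerfectField k']
    (R A M T L R' A' T' : Type u) [CommRing R] [Algebra k R] [CommRing A] [Algebra k A]
    [CommRing M] [Algebra (R ⊗[k] A) M] [Algebra.Etale (R ⊗[k] A) M] [Algebra R M]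
    [IsScalarTower R (R ⊗[k] A) M] [CommRing T] [Algebra R T] [Field L] [Algebra R L]
    [CommRing R'] [Algebra k' R'] [HenselianLocalRing R'] [IsSepClosed (ResidueField R')]
    [CommRing A'] [Algebra k' A'] [Algebra.FinitePresentation k' A'] [_root_.IsReduced A']
    [CommRing T'] [HenselianLocalRing T'] [IsSepClosed (ResidueField T')] [Algebra R' T']
    [IsLocalHom (algebraMap R' T')] [Algebra R' L] (ιR : R →+* R') (ιA : A →+* A') (ιT : T →+* T')
    (α : A' →+* T')
    (hkR : ∀ c, ιR (algebraMap k R c) = algebraMap k' R' (algebraMap k k' c))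
    (hkA : ∀ c, ιA (algebraMap k A c) = algebraMap k' A' (algebraMap k k' c))
    (hkα : ∀ c, α (algebraMap k' A' c) = algebraMap R' T' (algebraMap k' R' c))
    (hT : ιT.comp (algebraMap R T) = (algebraMap R' T').comp ιR)
    (hL : (algebraMap R' L).comp ιR = algebraMap R L) (ψ : M →ₐ[R] T)
    (hα : ∀ a, α (ιA a) = ιT (ψ (algebraMap (R ⊗[k] A) M (1 ⊗ₜ a))))
    (hlift : ∀ (K : Type u) [Field K] [IsAlgClosed K] (θL : L →+* K) (θT : T →+* K),
      θL.comp (algebraMap R L) = θT.comp (algebraMap R T) →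
        ∃ θ : T' →+* K, θ.comp ιT = θT ∧ θL.comp (algebraMap R' L) = θ.comp (algebraMap R' T'))
    {e : L ⊗[R] M} (he : IsIdempotentElem e) :
    Algebra.TensorProduct.map (AlgHom.id L L) ψ e = 0 ∨ Algebra.TensorProduct.map (AlgHom.id L L) ψ e = 1 := by
  let φ : R ⊗[k] A →+* R' ⊗[k'] A' := tlift ((algebraMap R' (R' ⊗[k'] A')).comp ιR)
    ((Algebra.TensorProduct.includeRight : A' →ₐ[k'] R' ⊗[k'] A').toRingHom.comp ιA) (RingHom.ext fun c => by
      show algebraMap R' (R' ⊗[k'] A') (ιR (algebraMap k R c)) = (1 : R') ⊗ₜ[k'] ιA (algebraMap k A c)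
      rw [hkR, hkA]
      exact ((Algebra.TensorProduct.includeRight : A' →ₐ[k'] R' ⊗[k'] A').commutes _).symm)
  let χ : R' ⊗[k'] A' →+* T' := tlift (algebraMap R' T') α (RingHom.ext fun c => (hkα c).symm)
  letI : Algebra (R ⊗[k] A) (R' ⊗[k'] A') := φ.toAlgebra
  let M' := (R' ⊗[k'] A') ⊗[R ⊗[k] A] M
  let ψ' : M' →+* T' := tlift χ (ιT.comp ψ.toRingHom) (Algebra.TensorProduct.ringHom_ext
    (RingHom.ext fun r => by
      show χ (φ (r ⊗ₜ 1)) = ιT (ψ (algebraMap (R ⊗[k] A) M (algebraMap R (R ⊗[k] A) r)))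
      rw [← IsScalarTower.algebraMap_apply R (R ⊗[k] A) M, ψ.commutes, ← RingHom.comp_apply ιT, hT]
      simp [φ, χ, Algebra.TensorProduct.algebraMap_apply])
    (RingHom.ext fun a => by
      show χ (φ (1 ⊗ₜ a)) = ιT (ψ (algebraMap (R ⊗[k] A) M (1 ⊗ₜ a)))
      rw [← hα]
      simp [φ, χ]))
  haveI : GeometricallyReduced (Spec.map (CommRingCat.ofHom (algebraMap R' M'))) :=
    geometricallyReduced_tensor (k := k') R' A' M'
  haveI : Module.Flat R' M' := Module.Flat.trans R' (R' ⊗[k'] A') M'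
  haveI : Algebra.FinitePresentation R' M' := Algebra.FinitePresentation.trans R' (R' ⊗[k'] A') M'
  let ψ'' : M' →ₐ[R'] T' := { ψ' with
    commutes' := fun x => by
      refine (tlift_tmul _ _ _ _ _).trans ?_
      rw [map_one, mul_one]
      exact (tlift_tmul _ _ _ _ _).trans (by rw [map_one, mul_one]; rfl) }
  refine idem_transfer R M T L R' M' T' ιR (Algebra.TensorProduct.includeRight : M →ₐ[R ⊗[k] A] M').toRingHom ιT
    (RingHom.ext fun r => ?_) hT hL ψ ψ'' (fun x => ?_) hlift he
  · show (1 : R' ⊗[k'] A') ⊗ₜ[R ⊗[k] A] algebraMap R M r = algebraMap R' (R' ⊗[k'] A') (ιR r) ⊗ₜ 1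
    rw [IsScalarTower.algebraMap_apply R (R ⊗[k] A) M]
    refine ((Algebra.TensorProduct.includeRight : M →ₐ[R ⊗[k] A] M').commutes _).trans ?_
    show φ (algebraMap R (R ⊗[k] A) r) ⊗ₜ 1 = _
    simp [φ, Algebra.TensorProduct.algebraMap_apply]
  · show ψ' ((1 : R' ⊗[k'] A') ⊗ₜ x) = ιT (ψ x)
    refine (tlift_tmul χ (ιT.comp ψ.toRingHom) _ 1 x).trans ?_
    rw [map_one, one_mul]
    rfl

/-- idempotents of geometric fibres of strict localizations over a field, finite type case -/
theorem idem_of_finiteType {k : Type u} [Field k] (R A M T L : Type u) [CommRing R] [HenselianLocalRing R]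
    [IsSepClosed (ResidueField R)] [Algebra k R] [CommRing A] [Algebra k A] [Algebra.FiniteType k A]
    [CommRing M] [Algebra (R ⊗[k] A) M] [Algebra.Etale (R ⊗[k] A) M] [Algebra R M]
    [IsScalarTower R (R ⊗[k] A) M] [CommRing T] [HenselianLocalRing T] [IsSepClosed (ResidueField T)]
    [Algebra R T] [IsLocalHom (algebraMap R T)] (ψ : M →ₐ[R] T) [Field L] [IsAlgClosed L] [Algebra R L]
    {e : L ⊗[R] M} (he : IsIdempotentElem e) :
    Algebra.TensorProduct.map (AlgHom.id L L) ψ e = 0 ∨ Algebra.TensorProduct.map (AlgHom.id L L) ψ e = 1 := by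
  obtain ⟨k', _, _, _, _⟩ : ∃ (K : Type u) (_ : Field K) (_ : Algebra k K), IsPurelyInseparable k K ∧
      PerfectField K :=
    ⟨perfectClosure k (AlgebraicClosure k), inferInstance, inferInstance, inferInstance, inferInstance⟩
  letI : Algebra k T := ((algebraMap R T).comp (algebraMap k R)).toAlgebra
  haveI : IsScalarTower k R T := .of_algebraMap_eq fun _ => rfl
  letI : Algebra k L := ((algebraMap R L).comp (algebraMap k R)).toAlgebra
  haveI : IsScalarTower k R L := .of_algebraMap_eq fun _ => rfl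
  -- the strictly henselian rings
  let R' := k' ⊗[k] R
  let ιR : R →+* R' := (Algebra.TensorProduct.includeRight : R →ₐ[k] R').toRingHom
  obtain ⟨hR', hlR, hsR⟩ : ∃ _ : HenselianLocalRing R', IsLocalHom ιR ∧ IsSepClosed (ResidueField R') := by
    letI : Algebra R R' := ιR.toAlgebra
    refine strictlyHenselian_of_radicial R R' (fun x => ?_) ?_
    · obtain ⟨n, hn, s, hs⟩ := pow_mem_includeRight x
      exact ⟨n, hn, s, hs.symm⟩
    · show RingHom.ker ιR ≤ _
      rw [(RingHom.injective_iff_ker_eq_bot _).1 (show Function.Injective ιR from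
        Algebra.TensorProduct.includeRight_injective (algebraMap k k').injective)]
      exact bot_le
  let T' := (k' ⊗[k] T) ⧸ nilradical (k' ⊗[k] T)
  haveI : _root_.IsReduced T' := (Ideal.isRadical_iff_quotient_reduced _).1 (Ideal.radical_isRadical _)
  let ιT : T →+* T' := (Ideal.Quotient.mk _).comp (Algebra.TensorProduct.includeRight : T →ₐ[k] k' ⊗[k] T).toRingHom
  obtain ⟨hT', hlT, hsT⟩ : ∃ _ : HenselianLocalRing T', IsLocalHom ιT ∧ IsSepClosed (ResidueField T') := by
    letI : Algebra T T' := ιT.toAlgebra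
    refine strictlyHenselian_of_radicial T T' (fun x => ?_) (fun t ht => ?_)
    · obtain ⟨x, rfl⟩ := Ideal.Quotient.mk_surjective x
      obtain ⟨n, hn, s, hs⟩ := pow_mem_includeRight x
      exact ⟨n, hn, s, (congrArg (Ideal.Quotient.mk _) hs.symm).trans (map_pow _ _ _)⟩
    · rw [mem_nilradical, ← IsNilpotent.map_iff (f := (Algebra.TensorProduct.includeRight : T →ₐ[k] k' ⊗[k] T))
        (Algebra.TensorProduct.includeRight_injective (algebraMap k k').injective), ← mem_nilradical]
      exact Ideal.Quotient.eq_zero_iff_mem.1 ht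
  let ρ : R' →+* T' := (Ideal.Quotient.mk _).comp
    (Algebra.TensorProduct.map (AlgHom.id k k') (IsScalarTower.toAlgHom k R T)).toRingHom
  letI : Algebra R' T' := ρ.toAlgebra
  have hρ : ρ.comp ιR = ιT.comp (algebraMap R T) := RingHom.ext fun r => by
    show Ideal.Quotient.mk _ (Algebra.TensorProduct.map _ _ ((1 : k') ⊗ₜ[k] r)) =
      Ideal.Quotient.mk _ ((1 : k') ⊗ₜ[k] algebraMap R T r)
    simp
  haveI : IsLocalHom (algebraMap R' T') := by
    refine ⟨fun x hx => ?_⟩
    obtain ⟨n, hn, r, hr⟩ := pow_mem_includeRight x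
    have h1 : IsUnit (ιT (algebraMap R T r)) := by
      rw [← RingHom.comp_apply, ← hρ, RingHom.comp_apply, show ιR r = x ^ n from hr.symm, map_pow]
      exact hx.pow n
    have h2 : IsUnit r := (isUnit_map_iff (algebraMap R T) r).1 ((isUnit_map_iff ιT _).1 h1)
    exact (isUnit_pow_iff hn.ne').1 (hr ▸ h2.map ιR)
  -- the algebras of finite type
  let A' := (k' ⊗[k] A) ⧸ nilradical (k' ⊗[k] A)
  haveI : _root_.IsReduced A' := (Ideal.isRadical_iff_quotient_reduced _).1 (Ideal.radical_isRadical _)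
  haveI : Algebra.FiniteType k' A' :=
    .of_surjective (Ideal.Quotient.mkₐ k' (nilradical (k' ⊗[k] A))) Ideal.Quotient.mk_surjective
  haveI : Algebra.FinitePresentation k' A' := Algebra.FinitePresentation.of_finiteType.1 inferInstance
  let ιA : A →+* A' := (Ideal.Quotient.mk _).comp (Algebra.TensorProduct.includeRight : A →ₐ[k] k' ⊗[k] A).toRingHom
  let ψA : A →+* T := ψ.toRingHom.comp
    ((algebraMap (R ⊗[k] A) M).comp (Algebra.TensorProduct.includeRight : A →ₐ[k] R ⊗[k] A).toRingHom)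
  have hψA : ∀ c, ψA (algebraMap k A c) = algebraMap k T c := fun c => by
    show ψ (algebraMap (R ⊗[k] A) M (1 ⊗ₜ algebraMap k A c)) = algebraMap R T (algebraMap k R c)
    rw [show (1 : R) ⊗ₜ[k] algebraMap k A c = algebraMap R (R ⊗[k] A) (algebraMap k R c) from
      (Algebra.TensorProduct.includeRight.commutes c).trans (IsScalarTower.algebraMap_apply k R _ c),
      ← IsScalarTower.algebraMap_apply R (R ⊗[k] A) M, ψ.commutes]
  let ψA' : A →ₐ[k] T := { ψA with commutes' := hψA }
  let α : A' →+* T' := Ideal.Quotient.lift _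
    ((Ideal.Quotient.mk _).comp (Algebra.TensorProduct.map (AlgHom.id k k') ψA').toRingHom) fun x hx =>
      IsReduced.eq_zero _ ((mem_nilradical.1 hx).map _)
  let σ : k' →ₐ[k] L := IsAlgClosed.lift
  let ρL : R' →+* L := (Algebra.TensorProduct.lift σ (IsScalarTower.toAlgHom k R L) fun _ _ => .all _ _).toRingHom
  letI : Algebra R' L := ρL.toAlgebra
  refine idem_step (k := k) k' R A M T L R' A' T' ιR ιA ιT α (fun c => ?_) (fun c => ?_) (fun c => ?_) hρ.symm
    (RingHom.ext fun r => ?_) ψ (fun a => ?_) ?_ he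
  · exact ((Algebra.TensorProduct.includeRight : R →ₐ[k] R').commutes c).trans
      (IsScalarTower.algebraMap_apply k k' (k' ⊗[k] R) c)
  · show Ideal.Quotient.mk _ ((1 : k') ⊗ₜ[k] algebraMap k A c) = Ideal.Quotient.mk _ (algebraMap k k' c ⊗ₜ[k] 1)
    rw [show (1 : k') ⊗ₜ[k] algebraMap k A c = algebraMap k k' c ⊗ₜ[k] (1 : A) from
      (Algebra.TensorProduct.includeRight : A →ₐ[k] k' ⊗[k] A).commutes c]
  · show Ideal.Quotient.mk _ (Algebra.TensorProduct.map _ _ (c ⊗ₜ[k] (1 : A))) =
      Ideal.Quotient.mk _ (Algebra.TensorProduct.map _ _ (c ⊗ₜ[k] (1 : R)))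
    simp
  · exact (Algebra.TensorProduct.lift_tmul σ (IsScalarTower.toAlgHom k R L) (fun _ _ => .all _ _) 1 r).trans
      (by rw [map_one, one_mul]; rfl)
  · show Ideal.Quotient.mk _ (Algebra.TensorProduct.map _ _ ((1 : k') ⊗ₜ[k] a)) =
      Ideal.Quotient.mk _ ((1 : k') ⊗ₜ[k] ψA a)
    simp [ψA']
  intro K _ _ θL θT hθ
  have hk : (θL.comp σ.toRingHom).comp (algebraMap k k') = θT.comp (algebraMap k T) := RingHom.ext fun c => by
    show θL (σ (algebraMap k k' c)) = θT (algebraMap k T c)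
    rw [σ.commutes]
    exact congr($hθ (algebraMap k R c))
  let θ₀ : k' ⊗[k] T →+* K := tlift (θL.comp σ.toRingHom) θT hk
  let θ' : T' →+* K := Ideal.Quotient.lift (nilradical (k' ⊗[k] T)) θ₀ fun x hx =>
    IsReduced.eq_zero _ ((mem_nilradical.1 hx).map _)
  refine ⟨θ', RingHom.ext fun t => ?_, Algebra.TensorProduct.ringHom_ext (RingHom.ext fun c => ?_)
    (RingHom.ext fun r => ?_)⟩
  · exact (tlift_tmul (θL.comp σ.toRingHom) θT hk (1 : k') t).trans (by rw [map_one, one_mul])
  · refine (congrArg θL (Algebra.TensorProduct.lift_tmul σ (IsScalarTower.toAlgHom k R L)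
      (fun _ _ => .all _ _) c 1)).trans ?_
    refine Eq.trans ?_ (congrArg θ₀ (Algebra.TensorProduct.map_tmul (AlgHom.id k k')
      (IsScalarTower.toAlgHom k R T) c 1)).symm
    rw [map_one, map_one, mul_one]
    exact ((tlift_tmul (θL.comp σ.toRingHom) θT hk c 1).trans (by rw [map_one, mul_one]; rfl)).symm
  · refine (congrArg θL (Algebra.TensorProduct.lift_tmul σ (IsScalarTower.toAlgHom k R L)
      (fun _ _ => .all _ _) 1 r)).trans ?_
    refine Eq.trans ?_ (congrArg θ₀ (Algebra.TensorProduct.map_tmul (AlgHom.id k k')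
      (IsScalarTower.toAlgHom k R T) 1 r)).symm
    rw [map_one, one_mul]
    refine (congr($hθ r) : θL (algebraMap R L r) = θT (algebraMap R T r)).trans ?_
    exact ((tlift_tmul (θL.comp σ.toRingHom) θT hk (1 : k') (algebraMap R T r)).trans
      (by rw [map_one, one_mul])).symm

/-- finitely many elements of a base change come from a finitely generated subalgebra -/
theorem exists_fg_subalgebra {k : Type u} [Field k] (R A : Type u) [CommRing R] [Algebra k R] [CommRing A]
    [Algebra k A] (s : Finset (R ⊗[k] A)) : ∃ A₁ : Subalgebra k A, A₁.FG ∧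
      ∀ x ∈ s, x ∈ (Algebra.TensorProduct.map (AlgHom.id R R) A₁.val).range := by
  classical
  have mono : ∀ {B₁ B₂ : Subalgebra k A}, B₁ ≤ B₂ → (Algebra.TensorProduct.map (AlgHom.id R R) B₁.val).range ≤
      (Algebra.TensorProduct.map (AlgHom.id R R) B₂.val).range := fun {B₁ B₂} h => by
    rintro _ ⟨y, rfl⟩
    refine ⟨Algebra.TensorProduct.map (AlgHom.id R R) (Subalgebra.inclusion h) y, ?_⟩
    show Algebra.TensorProduct.map _ _ (Algebra.TensorProduct.map _ _ y) = _
    rw [← AlgHom.comp_apply, ← Algebra.TensorProduct.map_comp]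
    rfl
  have one : ∀ x : R ⊗[k] A, ∃ A₁ : Subalgebra k A, A₁.FG ∧
      x ∈ (Algebra.TensorProduct.map (AlgHom.id R R) A₁.val).range := fun x => by
    induction x using TensorProduct.induction_on with
    | zero => exact ⟨⊥, Subalgebra.fg_bot, zero_mem _⟩
    | tmul r a =>
      exact ⟨Algebra.adjoin k {a}, ⟨{a}, by simp⟩, r ⊗ₜ ⟨a, Algebra.subset_adjoin rfl⟩, by simp⟩
    | add x y hx hy =>
      obtain ⟨B₁, h₁, h₁'⟩ := hx
      obtain ⟨B₂, h₂, h₂'⟩ := hy
      exact ⟨B₁ ⊔ B₂, h₁.sup h₂, add_mem (mono le_sup_left h₁') (mono le_sup_right h₂')⟩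
  induction s using Finset.induction_on with
  | empty => exact ⟨⊥, Subalgebra.fg_bot, by simp⟩
  | insert x s hx ih =>
    obtain ⟨B₁, h₁, h₁'⟩ := ih
    obtain ⟨B₂, h₂, h₂'⟩ := one x
    refine ⟨B₁ ⊔ B₂, h₁.sup h₂, fun y hy => ?_⟩
    rcases Finset.mem_insert.1 hy with rfl | hy
    · exact mono le_sup_right h₂'
    · exact mono le_sup_left (h₁' y hy)

/-- idempotents coming from a stage of a model -/
theorem idem_of_stage {k : Type u} [Field k] (R A M T L : Type u) [CommRing R] [HenselianLocalRing R]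
    [IsSepClosed (ResidueField R)] [Algebra k R] [CommRing A] [Algebra k A]
    [CommRing M] [Algebra (R ⊗[k] A) M] [Algebra R M] [IsScalarTower R (R ⊗[k] A) M]
    [CommRing T] [HenselianLocalRing T] [IsSepClosed (ResidueField T)]
    [Algebra R T] [IsLocalHom (algebraMap R T)] (ψ : M →ₐ[R] T) [Field L] [IsAlgClosed L] [Algebra R L]
    (A₁ : Subalgebra k A) (hA₁ : A₁.FG) (P N : Type u) [CommRing P] [CommRing N] [Algebra R P] [Algebra P N]
    [Algebra.Etale P N] [Algebra R N] [IsScalarTower R P N] (j : P →ₐ[R] R ⊗[k] A₁) (q : N →ₐ[R] M)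
    (hq : ∀ x, q (algebraMap P N x) =
      algebraMap (R ⊗[k] A) M (Algebra.TensorProduct.map (AlgHom.id R R) A₁.val (j x)))
    {e : L ⊗[R] M} {e₁ : L ⊗[R] N} (he₁ : IsIdempotentElem e₁)
    (he : Algebra.TensorProduct.map (AlgHom.id L L) q e₁ = e) :
    Algebra.TensorProduct.map (AlgHom.id L L) ψ e = 0 ∨ Algebra.TensorProduct.map (AlgHom.id L L) ψ e = 1 := by
  letI : Algebra P (R ⊗[k] A₁) := j.toRingHom.toAlgebra
  haveI : IsScalarTower R P (R ⊗[k] A₁) := .of_algebraMap_eq fun r => (j.commutes r).symm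
  let M₁ := (R ⊗[k] A₁) ⊗[P] N
  haveI : Algebra.FiniteType k A₁ := (Subalgebra.fg_iff_finiteType A₁).1 hA₁
  let φ : R ⊗[k] A₁ →ₐ[R] R ⊗[k] A := Algebra.TensorProduct.map (AlgHom.id R R) A₁.val
  let φM : R ⊗[k] A₁ →+* M := (algebraMap (R ⊗[k] A) M).comp φ.toRingHom
  have hχ : φM.comp (algebraMap P (R ⊗[k] A₁)) = q.toRingHom.comp (algebraMap P N) :=
    RingHom.ext fun x => (hq x).symm
  let χ : M₁ →ₐ[R] M := { tlift φM q.toRingHom hχ with
    commutes' := fun r => by
      show tlift φM q.toRingHom hχ (algebraMap R M₁ r) = algebraMap R M r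
      rw [IsScalarTower.algebraMap_apply R (R ⊗[k] A₁) M₁]
      refine (tlift_tmul φM q.toRingHom hχ _ 1).trans ?_
      rw [map_one, mul_one]
      show algebraMap (R ⊗[k] A) M (φ (algebraMap R (R ⊗[k] A₁) r)) = _
      rw [φ.commutes, ← IsScalarTower.algebraMap_apply R (R ⊗[k] A) M] }
  let ι : N →ₐ[R] M₁ := (Algebra.TensorProduct.includeRight : N →ₐ[P] M₁).restrictScalars R
  have hq' : χ.comp ι = q := AlgHom.ext fun z =>
    (tlift_tmul φM q.toRingHom hχ 1 z).trans (by rw [map_one, one_mul]; rfl)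
  have key := idem_of_finiteType (k := k) R A₁ M₁ T L (ψ.comp χ) (he₁.map (Algebra.TensorProduct.map (AlgHom.id L L) ι))
  rwa [← AlgHom.comp_apply, ← Algebra.TensorProduct.map_comp, AlgHom.comp_id, AlgHom.comp_assoc, hq',
    show Algebra.TensorProduct.map (AlgHom.id L L) (ψ.comp q) e₁ =
      Algebra.TensorProduct.map (AlgHom.id L L) ψ e by
        rw [← he, ← AlgHom.comp_apply, ← Algebra.TensorProduct.map_comp, AlgHom.comp_id]] at key

/-- idempotents of etale algebras descended along a model -/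
theorem idem_of_model {k : Type u} [Field k] (R A M T L : Type u) [CommRing R] [HenselianLocalRing R]
    [IsSepClosed (ResidueField R)] [Algebra k R] [CommRing A] [Algebra k A]
    [CommRing M] [Algebra (R ⊗[k] A) M] [Algebra.Etale (R ⊗[k] A) M] [Algebra R M]
    [IsScalarTower R (R ⊗[k] A) M] [CommRing T] [HenselianLocalRing T] [IsSepClosed (ResidueField T)]
    [Algebra R T] [IsLocalHom (algebraMap R T)] (ψ : M →ₐ[R] T) [Field L] [IsAlgClosed L] [Algebra R L]
    (A₀ M₀ : Type u) [CommRing A₀] [CommRing M₀] [Algebra A₀ M₀] [Algebra.Etale A₀ M₀] [Algebra R A₀]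
    [Algebra A₀ (R ⊗[k] A)] [IsScalarTower R A₀ (R ⊗[k] A)] (s : Finset (R ⊗[k] A))
    (hs : (IsScalarTower.toAlgHom R A₀ (R ⊗[k] A)).range ≤ Algebra.adjoin R (s : Set (R ⊗[k] A)))
    (Φ : M ≃ₐ[R ⊗[k] A] (R ⊗[k] A) ⊗[A₀] M₀) {e : L ⊗[R] M} (he : IsIdempotentElem e) :
    Algebra.TensorProduct.map (AlgHom.id L L) ψ e = 0 ∨ Algebra.TensorProduct.map (AlgHom.id L L) ψ e = 1 := by
  classical
  let C := R ⊗[k] A
  have hcol : DirColim.IsColim (R := A₀) (G := fun P : {P : Subalgebra A₀ C // P.FG} => ↥P.1)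
      (fun P => P.1.val) := by
    haveI : IsDirected {P : Subalgebra A₀ C // P.FG} (· ≤ ·) :=
      ⟨fun P Q => ⟨⟨P.1 ⊔ Q.1, P.2.sup Q.2⟩, (le_sup_left : P.1 ≤ P.1 ⊔ Q.1), (le_sup_right : Q.1 ≤ P.1 ⊔ Q.1)⟩⟩
    refine .of_system (fun P Q h => Subalgebra.inclusion (h : P.1 ≤ Q.1)) _ (fun P Q h => rfl) (fun a => ?_) ?_
    · exact ⟨⟨Algebra.adjoin A₀ {a}, ⟨{a}, by simp⟩⟩, ⟨a, Algebra.subset_adjoin rfl⟩, rfl⟩
    · exact fun P x hx => ⟨P, le_rfl, Subtype.ext hx⟩
  have hcolL := (isColim_restrictScalars (A := R) (hcol.tensorRight M₀)).baseChange L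
  let e' : L ⊗[R] (C ⊗[A₀] M₀) :=
    Algebra.TensorProduct.map (AlgHom.id L L) (Φ.toAlgHom.restrictScalars R) e
  have he' : IsIdempotentElem e' := he.map _
  obtain ⟨P₀, e₀, he₀⟩ := hcolL.surj e'
  obtain ⟨P, τ, hτ⟩ := hcolL.eq_of_apply_eq P₀ (e₀ * e₀) e₀ (by rw [map_mul, he₀, he'.eq])
  let e₁ := τ.1 e₀
  have he₁ : IsIdempotentElem e₁ := (map_mul τ.1 e₀ e₀).symm.trans hτ
  have he₁' : Algebra.TensorProduct.map (AlgHom.id L L) (((Algebra.TensorProduct.map P.1.val
      (AlgHom.id A₀ M₀))).restrictScalars R) e₁ = e' := (τ.apply e₀).trans he₀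
  -- a finitely generated subalgebra of `A`
  obtain ⟨t, ht⟩ := P.2
  obtain ⟨A₁, hA₁, hst⟩ := exists_fg_subalgebra R A (s ∪ t)
  let φ : R ⊗[k] A₁ →ₐ[R] C := Algebra.TensorProduct.map (AlgHom.id R R) A₁.val
  have hinj : Function.Injective φ :=
    Module.Flat.lTensor_preserves_injective_linearMap (M := R) A₁.val.toLinearMap Subtype.val_injective
  have hA₀le : (IsScalarTower.toAlgHom R A₀ C).range ≤ φ.range :=
    hs.trans (Algebra.adjoin_le fun x hx => hst x (Finset.mem_union_left _ hx))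
  have hgen : ∀ y ∈ Algebra.adjoin A₀ (t : Set C), y ∈ φ.range := fun y hy => by
    induction hy using Algebra.adjoin_induction with
    | mem x hx => exact hst x (Finset.mem_union_right _ hx)
    | algebraMap a => exact hA₀le ⟨a, rfl⟩
    | add x y _ _ hx hy => exact add_mem hx hy
    | mul x y _ _ hx hy => exact mul_mem hx hy
  have hle : P.1.restrictScalars R ≤ φ.range := fun x hx => hgen x (ht.ge hx)
  let j : ↥P.1 →+* R ⊗[k] A₁ :=
    (AlgEquiv.ofInjective φ hinj).symm.toRingEquiv.toRingHom.comp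
      (Subalgebra.inclusion hle).toRingHom
  have hj : ∀ x : ↥P.1, φ (j x) = (x : C) := fun x =>
    congrArg Subtype.val ((AlgEquiv.ofInjective φ hinj).apply_symm_apply (Subalgebra.inclusion hle x))
  let j' : ↥P.1 →ₐ[R] R ⊗[k] A₁ := { j with
    commutes' := fun r => hinj (by
      show φ (j (algebraMap R ↥P.1 r)) = φ (algebraMap R _ r)
      rw [hj, φ.commutes]
      rfl) }
  haveI : Algebra.Etale ↥P.1 (↥P.1 ⊗[A₀] M₀) := Algebra.Etale.baseChange _ _ _
  let q : ↥P.1 ⊗[A₀] M₀ →ₐ[R] M := (Φ.symm.toAlgHom.restrictScalars R).comp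
    ((Algebra.TensorProduct.map P.1.val (AlgHom.id A₀ M₀)).restrictScalars R)
  refine idem_of_stage (k := k) R A M T L ψ A₁ hA₁ ↥P.1 (↥P.1 ⊗[A₀] M₀) j' q (fun x => ?_) he₁ ?_
  · show Φ.symm ((Algebra.TensorProduct.map P.1.val (AlgHom.id A₀ M₀)) (x ⊗ₜ 1)) = _
    rw [Algebra.TensorProduct.map_tmul, map_one]
    refine (Φ.symm.commutes (x : C)).trans ?_
    exact congrArg _ (hj x).symm
  · rw [show q = (Φ.symm.toAlgHom.restrictScalars R).comp
        ((Algebra.TensorProduct.map P.1.val (AlgHom.id A₀ M₀)).restrictScalars R) from rfl]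
    rw [← AlgHom.comp_id (AlgHom.id L L), Algebra.TensorProduct.map_comp, AlgHom.comp_apply, he₁',
      ← AlgHom.comp_apply, ← Algebra.TensorProduct.map_comp, AlgHom.comp_id,
      show (Φ.symm.toAlgHom.restrictScalars R).comp (Φ.toAlgHom.restrictScalars R) = AlgHom.id R M from
        AlgHom.ext Φ.symm_apply_apply, Algebra.TensorProduct.map_id, AlgHom.id_apply]

/-- idempotents of geometric fibres of strict localizations over a field -/
theorem idem_of_field {k : Type u} [Field k] (R A M T L : Type u) [CommRing R] [HenselianLocalRing R]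
    [IsSepClosed (ResidueField R)] [Algebra k R] [CommRing A] [Algebra k A]
    [CommRing M] [Algebra (R ⊗[k] A) M] [Algebra.Etale (R ⊗[k] A) M] [Algebra R M]
    [IsScalarTower R (R ⊗[k] A) M] [CommRing T] [HenselianLocalRing T] [IsSepClosed (ResidueField T)]
    [Algebra R T] [IsLocalHom (algebraMap R T)] (ψ : M →ₐ[R] T) [Field L] [IsAlgClosed L] [Algebra R L]
    {e : L ⊗[R] M} (he : IsIdempotentElem e) :
    Algebra.TensorProduct.map (AlgHom.id L L) ψ e = 0 ∨ Algebra.TensorProduct.map (AlgHom.id L L) ψ e = 1 := by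
  classical
  obtain ⟨A₀, M₀, _, _, ⟨s, hs⟩, hM₀, ⟨Φ⟩⟩ := Algebra.Etale.exists_subalgebra_fg R (R ⊗[k] A) M
  haveI := hM₀
  refine idem_of_model (k := k) R A M T L ψ ↥A₀ M₀ s ?_ Φ he
  rintro _ ⟨a, rfl⟩
  exact hs.ge a.2

end Groth.Agent.H0FBC.OverField
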