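import Groth.Agent.H0FBC.FieldCore
import Mathlib.RingTheory.Unramified.Finite
import Mathlib.RingTheory.Flat.FaithfullyFlat.Algebra

/-!
# Strict localizations of products over a field are 0-acyclic
-/

set_option autoImplicit false
set_option linter.style.haveILetI false
set_option linter.unusedSectionVars false
set_option backward.isDefEq.respectTransparency false
set_option backward.isDefEq.respectTransparency.types false
universe u

open CategoryTheory CategoryTheory.Limits AlgebraicGeometry TopologicalSpace Opposite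
open scoped TensorProduct

attribute [-instance] CategoryTheory.catToReflQuiver

namespace Groth.Agent.H0FBC.OverField

open Groth.Agent IsLocalRing

/-- idempotents separating two maps from an etale algebra -/
theorem exists_split {B V M : Type u} [CommRing B] [CommRing V] [Algebra B V] [Algebra.Etale B V] [CommRing M]
    (f g : V →+* M) (h : f.comp (algebraMap B V) = g.comp (algebraMap B V)) :
    ∃ ε : M, IsIdempotentElem ε ∧ (∀ v, f v * ε = g v * ε) ∧
      ∀ (Q : Type u) [CommRing Q] (θ : M →+* Q), θ.comp f = θ.comp g → θ ε = 1 := by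
  let μ := tlift f g h
  have h1 : ∀ v w : V, μ (v ⊗ₜ w) = f v * g w := fun v w => tlift_tmul f g h v w
  refine ⟨μ (Algebra.FormallyUnramified.elem B V), ?_, fun v => ?_, fun Q _ θ hθ => ?_⟩
  · rw [IsIdempotentElem, ← map_mul]
    congr 1
    have key : ∀ z : V ⊗[B] V, z * Algebra.FormallyUnramified.elem B V =
        (Algebra.TensorProduct.lmul' B z ⊗ₜ 1) * Algebra.FormallyUnramified.elem B V := fun z => by
      induction z using TensorProduct.induction_on with
      | zero => simp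
      | tmul a b =>
        rw [show a ⊗ₜ[B] b = (a ⊗ₜ (1 : V)) * ((1 : V) ⊗ₜ b) by simp, mul_assoc,
          Algebra.FormallyUnramified.one_tmul_mul_elem, ← mul_assoc]
        simp
      | add x y hx hy => rw [add_mul, hx, hy, map_add, TensorProduct.add_tmul, add_mul]
    rw [key, Algebra.FormallyUnramified.lmul_elem, ← Algebra.TensorProduct.one_def, one_mul]
  · have hv := congrArg μ (Algebra.FormallyUnramified.one_tmul_mul_elem (R := B) v)
    rw [map_mul, map_mul, h1, h1, map_one, map_one, one_mul, mul_one] at hv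
    exact hv.symm
  · have e : ∀ z : V ⊗[B] V, θ (μ z) = θ (f (Algebra.TensorProduct.lmul' B z)) := fun z => by
      induction z using TensorProduct.induction_on with
      | zero => simp
      | tmul a b =>
        rw [h1, map_mul, Algebra.TensorProduct.lmul'_apply_tmul, map_mul, map_mul]
        congr 1
        exact (congr($hθ b)).symm
      | add x y hx hy => simp only [map_add, hx, hy]
    rw [e, Algebra.FormallyUnramified.lmul_elem, map_one, map_one]

section

variable {B W RY RX R T C : Type u} [CommRing B] [CommRing W] [CommRing RY] [CommRing RX]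
  [CommRing R] [CommRing T] [CommRing C] [Algebra R C] [Module.Flat R C] [Algebra B RY] [Algebra W RX]
  [Algebra RY RX] [Algebra R T]
  (βW : B →+* W) (ιR : RY →+* R) (ιT : RX →+* T) (φW : W →+* C) (α : C →ₐ[R] T)
  (hcompat : (algebraMap RY RX).comp (algebraMap B RY) = (algebraMap W RX).comp βW)
  (hsq : ιT.comp (algebraMap RY RX) = (algebraMap R T).comp ιR)
  (hφB : ∀ b, φW (βW b) = algebraMap R C (ιR (algebraMap B RY b)))
  (hαW : ∀ w, α (φW w) = ιT (algebraMap W RX w))

include hφB hαW in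
/-- stages of the strict localization, base changed -/
theorem exists_stage (N : Type u) [CommRing N] [Algebra W N] [Algebra.Etale W N] (h : N →ₐ[W] RX) :
    ∃ (M : Type u) (_ : CommRing M) (_ : Algebra C M) (_ : Algebra.Etale C M)
      (_ : Algebra R M) (_ : IsScalarTower R C M) (ιN : N →+* M) (ψ : M →ₐ[R] T),
      Module.Flat R M ∧ (∀ b, ιN (algebraMap W N (βW b)) = algebraMap R M (ιR (algebraMap B RY b))) ∧
        ∀ n, ψ (ιN n) = ιT (h n) := by
  letI : Algebra W C := φW.toAlgebra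
  let M := C ⊗[W] N
  haveI : Algebra.Etale C M := Algebra.Etale.baseChange _ _ _
  have hψ : α.toRingHom.comp (algebraMap W C) = (ιT.comp h.toRingHom).comp (algebraMap W N) :=
    RingHom.ext fun w => (hαW w).trans (congrArg ιT (h.commutes w).symm)
  let ψ₀ : M →+* T := tlift α.toRingHom (ιT.comp h.toRingHom) hψ
  let ιN : N →+* M := (Algebra.TensorProduct.includeRight : N →ₐ[W] M).toRingHom
  refine ⟨M, inferInstance, inferInstance, inferInstance, inferInstance, inferInstance, ιN,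
    { ψ₀ with commutes' := fun r => ?_ }, Module.Flat.trans R C M, fun b => ?_, fun n => ?_⟩
  · show ψ₀ (algebraMap R C r ⊗ₜ[W] (1 : N)) = algebraMap R T r
    refine (tlift_tmul α.toRingHom (ιT.comp h.toRingHom) hψ _ 1).trans ?_
    rw [map_one, mul_one]
    exact α.commutes r
  · refine ((Algebra.TensorProduct.includeRight : N →ₐ[W] M).commutes (βW b)).trans ?_
    show φW (βW b) ⊗ₜ[W] (1 : N) = _
    rw [hφB]
    rfl
  · refine (tlift_tmul α.toRingHom (ιT.comp h.toRingHom) hψ 1 n).trans ?_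
    rw [map_one, one_mul]
    rfl

variable {ι κ : Type u} {G : ι → Type u} [∀ i, CommRing (G i)] [∀ i, Algebra B (G i)]
  [∀ i, Algebra.Etale B (G i)] {g : ∀ i, G i →ₐ[B] RY} (hG : DirColim.IsColim g)
  {H : κ → Type u} [∀ i, CommRing (H i)] [∀ i, Algebra W (H i)] [∀ i, Algebra.Etale W (H i)]
  {h : ∀ i, H i →ₐ[W] RX} (hH : DirColim.IsColim h)

include hG hH hcompat hsq hφB hαW in
/-- the reduced strict localizations are flat over each other -/
theorem flat_strict (hιR : Function.Surjective ιR) (hιT : Function.Surjective ιT)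
    (hkerT : RingHom.ker ιT ≤ (RingHom.ker ιR).map (algebraMap RY RX)) : Module.Flat R T := by
  classical
  letI : Algebra B W := βW.toAlgebra
  letI : ∀ i, Algebra B (H i) := fun i => ((algebraMap W (H i)).comp βW).toAlgebra
  haveI : ∀ i, IsScalarTower B W (H i) := fun i => .of_algebraMap_eq fun _ => rfl
  letI : Algebra B RX := ((algebraMap W RX).comp βW).toAlgebra
  haveI : IsScalarTower B W RX := .of_algebraMap_eq fun _ => rfl
  have hHB := isColim_restrictScalars (A := B) hH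
  refine Module.Flat.iff_forall_isTrivialRelation.2 fun {l f x} hfx => ?_
  choose rf hrf using fun t => hιR (f t)
  choose rx hrx using fun t => hιT (x t)
  have hker : ∑ t, algebraMap RY RX (rf t) * rx t ∈ RingHom.ker ιT := by
    rw [RingHom.mem_ker, map_sum, ← hfx]
    refine Finset.sum_congr rfl fun t _ => ?_
    rw [map_mul, ← RingHom.comp_apply, hsq, RingHom.comp_apply, hrf, hrx, Algebra.smul_def]
  obtain ⟨n, c, a, hca⟩ : ∃ (n : ℕ) (c : Fin n → RX) (a : Fin n → RY), (∀ s, ιR (a s) = 0) ∧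
      ∑ s, c s * algebraMap RY RX (a s) = ∑ t, algebraMap RY RX (rf t) * rx t := by
    obtain ⟨n, c, v, hv⟩ := Submodule.mem_span_set'.1 (hkerT hker)
    choose a ha ha' using fun s => (v s).2
    exact ⟨n, c, a, ha, by simpa [ha'] using hv⟩
  -- a stage
  obtain ⟨i, v, hv⟩ := hG.surj_fintype (Sum.elim rf a)
  let u₀ : G i →ₐ[B] RX := { (algebraMap RY RX).comp (g i).toRingHom with
    commutes' := fun b => (congrArg (algebraMap RY RX) ((g i).commutes b)).trans congr($hcompat b) }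
  obtain ⟨p₁, u₁, hu₁⟩ := hHB.exists_lift u₀
  obtain ⟨p₂, y, hy⟩ := hH.surj_fintype (Sum.elim rx c)
  obtain ⟨p, ⟨φ₁⟩, ⟨φ₂⟩⟩ := hH.directed p₁ p₂
  let u : G i →+* H p := φ₁.1.toRingHom.comp u₁.toRingHom
  have hu : ∀ z, h p (u z) = algebraMap RY RX (g i z) := fun z => (φ₁.apply _).trans congr($hu₁ z)
  let y' := fun s => φ₂.1 (y s)
  have hy' : ∀ s, h p (y' s) = Sum.elim rx c s := fun s => (φ₂.apply _).trans (hy s)
  obtain ⟨q, φ, hφ⟩ := hH.eq_of_apply_eq p (∑ s, y' (Sum.inr s) * u (v (Sum.inr s)))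
    (∑ t, u (v (Sum.inl t)) * y' (Sum.inl t)) (by
      simp only [map_sum, map_mul, hu, hy', hv, Sum.elim_inl, Sum.elim_inr]
      exact hca.2)
  obtain ⟨M, _, _, _, _, _, ιN, ψ, hflat, hιB, hψ⟩ := exists_stage βW ιR ιT φW α hφB hαW (H q) (h q)
  let uq : G i →+* H q := φ.1.toRingHom.comp u
  have huq : ∀ z, h q (uq z) = algebraMap RY RX (g i z) := fun z => (φ.apply _).trans (hu z)
  let f₁ : G i →+* M := (algebraMap R M).comp (ιR.comp (g i).toRingHom)
  let f₂ : G i →+* M := ιN.comp uq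
  have hf : f₁.comp (algebraMap B (G i)) = f₂.comp (algebraMap B (G i)) := RingHom.ext fun b => by
    show algebraMap R M (ιR (g i (algebraMap B (G i) b))) = ιN (φ.1 (φ₁.1 (u₁ (algebraMap B (G i) b))))
    rw [(g i).commutes, u₁.commutes, show algebraMap B (H p₁) b = algebraMap W (H p₁) (βW b) from rfl,
      φ₁.1.commutes, φ.1.commutes, hιB]
  obtain ⟨ε, -, hε, hε1⟩ := exists_split f₁ f₂ hf
  have hθ : ψ.toRingHom.comp f₁ = ψ.toRingHom.comp f₂ := RingHom.ext fun z => by
    show ψ (algebraMap R M (ιR (g i z))) = ψ (ιN (uq z))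
    rw [ψ.commutes, hψ, huq, ← RingHom.comp_apply ιT, hsq, RingHom.comp_apply]
  have hε1' : ψ ε = 1 := hε1 T ψ.toRingHom hθ
  have hrel : ∑ t, f t • (ε * ιN (φ.1 (y' (Sum.inl t)))) = 0 := by
    have h0 : ∀ s : Fin n, f₁ (v (Sum.inr s)) = 0 := fun s => by
      show algebraMap R M (ιR (g i (v (Sum.inr s)))) = 0
      rw [hv, Sum.elim_inr, hca.1, map_zero]
    have h1 : ∀ t, f t • (ε * ιN (φ.1 (y' (Sum.inl t)))) =
        f₂ (v (Sum.inl t)) * ε * ιN (φ.1 (y' (Sum.inl t))) := fun t => by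
      rw [← hε, Algebra.smul_def, ← mul_assoc]
      congr 2
      show _ = algebraMap R M (ιR (g i (v (Sum.inl t))))
      rw [hv, Sum.elim_inl, hrf]
    rw [Finset.sum_congr rfl fun t _ => h1 t]
    have h2 := congrArg (fun z => ε * ιN z) hφ
    simp only [map_sum, map_mul, Finset.mul_sum] at h2
    refine (Finset.sum_congr rfl fun t _ => ?_).trans (h2.symm.trans (Finset.sum_eq_zero fun s _ => ?_))
    · show ιN (φ.1 (u (v (Sum.inl t)))) * ε * _ = ε * (ιN (φ.1 (u (v (Sum.inl t)))) * _)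
      ring
    · rw [mul_comm (ιN (φ.1 (y' (Sum.inr s)))), ← mul_assoc, mul_comm ε,
        show ιN (φ.1 (u (v (Sum.inr s)))) = f₂ (v (Sum.inr s)) from rfl, ← hε, h0]
      simp
  obtain ⟨m, a', z, hz, ha'⟩ := Module.Flat.isTrivialRelation_of_sum_smul_eq_zero (R := R) (M := M) hrel
  refine ⟨m, a', fun s => ψ (z s), fun t => ?_, ha'⟩
  have h3 := congrArg ψ (hz t)
  simp only [map_sum, map_smul, map_mul, hε1', one_mul, hψ] at h3
  rw [← h3]
  refine ((congrArg ιT ((φ.apply _).trans (hy' (Sum.inl t)))).trans (hrx t)).symm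

include hG hH hcompat hsq hφB hαW in
/-- idempotents of the geometric fibres are trivial -/
theorem idem_strict [HenselianLocalRing R] [IsSepClosed (ResidueField R)] [HenselianLocalRing T]
    [IsSepClosed (ResidueField T)] [IsLocalHom (algebraMap R T)] (hιR : Function.Surjective ιR) (hιT : Function.Surjective ιT)
    (hkerT : RingHom.ker ιT ≤ (RingHom.ker ιR).map (algebraMap RY RX))
    (L : Type u) [Field L] [IsAlgClosed L] [Algebra R L]
    (hcore : ∀ (M : Type u) [CommRing M] [Algebra C M] [Algebra.Etale C M] [Algebra R M] [IsScalarTower R C M]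
      (ψ : M →ₐ[R] T) {d : L ⊗[R] M}, IsIdempotentElem d →
        Algebra.TensorProduct.map (AlgHom.id L L) ψ d = 0 ∨ Algebra.TensorProduct.map (AlgHom.id L L) ψ d = 1)
    {e : L ⊗[R] T} (he : IsIdempotentElem e) :
    e = 0 ∨ e = 1 := by
  classical
  letI : Algebra B W := βW.toAlgebra
  letI : ∀ i, Algebra B (H i) := fun i => ((algebraMap W (H i)).comp βW).toAlgebra
  haveI : ∀ i, IsScalarTower B W (H i) := fun i => .of_algebraMap_eq fun _ => rfl
  letI : Algebra B RX := ((algebraMap W RX).comp βW).toAlgebra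
  haveI : IsScalarTower B W RX := .of_algebraMap_eq fun _ => rfl
  let ρ : RY →+* L := (algebraMap R L).comp ιR
  letI : Algebra B L := (ρ.comp (algebraMap B RY)).toAlgebra
  have hHL := (isColim_restrictScalars (A := B) hH).baseChange L
  let iT : T →+* L ⊗[R] T := (Algebra.TensorProduct.includeRight : T →ₐ[R] L ⊗[R] T).toRingHom
  let iX : RX →+* L ⊗[B] RX := (Algebra.TensorProduct.includeRight : RX →ₐ[B] L ⊗[B] RX).toRingHom
  let iL : L →+* L ⊗[B] RX := Algebra.TensorProduct.includeLeftRingHom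
  have hRL : ∀ r : RY, iT (ιT (algebraMap RY RX r)) = ρ r ⊗ₜ[R] (1 : T) := fun r => by
    rw [← RingHom.comp_apply ιT, hsq]
    exact (Algebra.TensorProduct.includeRight : T →ₐ[R] L ⊗[R] T).commutes (ιR r)
  have hπ₀ : (Algebra.TensorProduct.includeLeftRingHom : L →+* L ⊗[R] T).comp (algebraMap B L) =
      (iT.comp ιT).comp (algebraMap B RX) := RingHom.ext fun b =>
    ((congrArg (fun z => iT (ιT z)) (congr($hcompat b)).symm).trans (hRL _)).symm
  let π : L ⊗[B] RX →+* L ⊗[R] T := tlift Algebra.TensorProduct.includeLeftRingHom (iT.comp ιT) hπ₀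
  -- the kernel
  let I : Ideal (L ⊗[B] RX) := Ideal.span (Set.range fun r : RY => iL (ρ r) - iX (algebraMap RY RX r))
  let mk := Ideal.Quotient.mk I
  let Q₁ : L →+* _ ⧸ I := mk.comp iL
  have hmk : ∀ r, mk (iX (algebraMap RY RX r)) = Q₁ (ρ r) := fun r =>
    ((Ideal.Quotient.eq (I := I)).2 (Ideal.subset_span (Set.mem_range_self r))).symm
  have hkQ : RingHom.ker ιT ≤ RingHom.ker (mk.comp iX) := by
    refine hkerT.trans (Ideal.map_le_iff_le_comap.2 fun r hr => ?_)
    rw [Ideal.mem_comap, RingHom.mem_ker, RingHom.comp_apply, hmk]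
    simp [ρ, RingHom.mem_ker.1 hr]
  let Q₂ : T →+* (L ⊗[B] RX) ⧸ I := RingHom.liftOfSurjective ιT hιT
    (⟨mk.comp iX, hkQ⟩ : {q : RX →+* (L ⊗[B] RX) ⧸ I // RingHom.ker ιT ≤ RingHom.ker q})
  have hQ₂ : ∀ x, Q₂ (ιT x) = mk (iX x) := fun x => RingHom.liftOfSurjective_comp_apply _ _ _ x
  have hinv₀ : Q₁.comp (algebraMap R L) = Q₂.comp (algebraMap R T) := RingHom.ext fun r => by
    obtain ⟨r', rfl⟩ := hιR r
    show Q₁ (ρ r') = Q₂ (algebraMap R T (ιR r'))
    rw [← RingHom.comp_apply (algebraMap R T), ← hsq]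
    exact ((hQ₂ _).trans (hmk r')).symm
  let inv : L ⊗[R] T →+* _ ⧸ I := tlift Q₁ Q₂ hinv₀
  have hinv : ∀ z, inv (π z) = mk z := fun z => by
    have : inv.comp π = mk := Algebra.TensorProduct.ringHom_ext
      (RingHom.ext fun l => by
        show inv (π (l ⊗ₜ (1 : RX))) = mk (l ⊗ₜ (1 : RX))
        rw [show π (l ⊗ₜ (1 : RX)) = l ⊗ₜ[R] (1 : T) from
          (tlift_tmul _ (iT.comp ιT) hπ₀ l 1).trans (by rw [map_one, mul_one]; rfl)]
        exact (tlift_tmul Q₁ Q₂ hinv₀ l 1).trans (by rw [map_one, mul_one]; rfl))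
      (RingHom.ext fun x => by
        show inv (π ((1 : L) ⊗ₜ x)) = mk ((1 : L) ⊗ₜ x)
        rw [show π ((1 : L) ⊗ₜ x) = (1 : L) ⊗ₜ[R] ιT x from
          (tlift_tmul _ (iT.comp ιT) hπ₀ 1 x).trans (by rw [map_one, one_mul]; rfl)]
        exact (tlift_tmul Q₁ Q₂ hinv₀ 1 (ιT x)).trans (by rw [map_one, one_mul, hQ₂]; rfl))
    exact congr($this z)
  obtain ⟨z, rfl⟩ : ∃ z, π z = e := by
    clear he
    induction e using TensorProduct.induction_on with
    | zero => exact ⟨0, map_zero _⟩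
    | tmul l t =>
      obtain ⟨x, rfl⟩ := hιT t
      refine ⟨l ⊗ₜ x, (tlift_tmul _ (iT.comp ιT) hπ₀ l x).trans ?_⟩
      exact (Algebra.TensorProduct.tmul_mul_tmul l (1 : L) (1 : T) (ιT x)).trans (by rw [mul_one, one_mul])
    | add a b ha hb =>
      obtain ⟨a', rfl⟩ := ha
      obtain ⟨b', rfl⟩ := hb
      exact ⟨a' + b', map_add _ _ _⟩
  have hzI : z * z - z ∈ I := Ideal.Quotient.eq_zero_iff_mem.1 (by
    show mk _ = 0
    rw [← hinv, map_sub, map_mul, he.eq, sub_self, map_zero])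
  obtain ⟨n, c, v, hc⟩ := Submodule.mem_span_set'.1 hzI
  choose a ha using fun s => (v s).2
  -- the stage
  obtain ⟨i, w, hw⟩ := hG.surj_fintype a
  let u₀ : G i →ₐ[B] RX := { (algebraMap RY RX).comp (g i).toRingHom with
    commutes' := fun b => (congrArg (algebraMap RY RX) ((g i).commutes b)).trans congr($hcompat b) }
  obtain ⟨p₁, u₁, hu₁⟩ := (isColim_restrictScalars (A := B) hH).exists_lift u₀
  obtain ⟨p₂, z₂, hz₂⟩ := hHL.surj z
  obtain ⟨p, ⟨φ₁⟩, ⟨φ₂⟩⟩ := hH.directed p₁ p₂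
  let u : G i →ₐ[B] H p := (φ₁.1.restrictScalars B).comp u₁
  have hu : ∀ x, h p (u x) = algebraMap RY RX (g i x) := fun x => (φ₁.apply _).trans congr($hu₁ x)
  let iN : ∀ q, H q →ₐ[B] L ⊗[B] H q := fun q => Algebra.TensorProduct.includeRight
  let k₁ : G i →+* L ⊗[B] H p :=
    (Algebra.TensorProduct.includeLeftRingHom : L →+* L ⊗[B] H p).comp (ρ.comp (g i).toRingHom)
  let k₂ : G i →+* L ⊗[B] H p := (iN p).toRingHom.comp u.toRingHom
  have hk : k₁.comp (algebraMap B (G i)) = k₂.comp (algebraMap B (G i)) := RingHom.ext fun b => by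
    show ρ (g i (algebraMap B (G i) b)) ⊗ₜ (1 : H p) = iN p (u (algebraMap B (G i) b))
    rw [(g i).commutes, u.commutes, (iN p).commutes]
    rfl
  obtain ⟨ε, hεi, hε, hε1⟩ := exists_split k₁ k₂ hk
  let up : ∀ q, L ⊗[B] H q →ₐ[L] L ⊗[B] RX := fun q =>
    Algebra.TensorProduct.map (AlgHom.id L L) ((h q).restrictScalars B)
  have hup₁ : ∀ x, up p (k₁ x) = iL (ρ (g i x)) := fun x => by
    show up p (ρ (g i x) ⊗ₜ (1 : H p)) = ρ (g i x) ⊗ₜ (1 : RX)
    simp [up]
  have hup₂ : ∀ x, up p (k₂ x) = iX (algebraMap RY RX (g i x)) := fun x => by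
    show up p ((1 : L) ⊗ₜ (u x)) = (1 : L) ⊗ₜ (algebraMap RY RX (g i x))
    simp [up, hu]
  let z' : L ⊗[B] H p := Algebra.TensorProduct.map (AlgHom.id L L) (φ₂.1.restrictScalars B) z₂
  have hz' : up p z' = z := by
    rw [← hz₂]
    show ((up p).comp (Algebra.TensorProduct.map (AlgHom.id L L) (φ₂.1.restrictScalars B))) z₂ = _
    rw [← Algebra.TensorProduct.map_comp, AlgHom.comp_id]
    congr 2
    exact AlgHom.ext φ₂.apply
  have h0 : up p ((z' * z' - z') * ε) = 0 := by
    rw [map_mul, map_sub, map_mul, hz', ← hc, Finset.sum_mul]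
    refine Finset.sum_eq_zero fun s _ => ?_
    rw [smul_mul_assoc]
    refine (congrArg (c s • ·) ?_).trans (smul_zero _)
    rw [← ha s, sub_mul, ← hw s, ← hup₁, ← hup₂, ← map_mul, ← map_mul, hε, sub_self]
  obtain ⟨q, φ, hφ⟩ := hHL.ker p _ h0
  let e₁ : L ⊗[B] H q := φ.1 z' * φ.1 ε
  have he₁ : IsIdempotentElem e₁ := by
    show φ.1 z' * φ.1 ε * (φ.1 z' * φ.1 ε) = φ.1 z' * φ.1 ε
    rw [mul_mul_mul_comm, ← map_mul φ.1, ← map_mul φ.1, hεi.eq, ← sub_eq_zero, ← sub_mul, ← map_sub φ.1,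
      ← map_mul φ.1, hφ]
  obtain ⟨M, _, _, _, _, _, ιN, ψ, -, hιB, hψ⟩ := exists_stage βW ιR ιT φW α hφB hαW (H q) (h q)
  let iM : M →+* L ⊗[R] M := (Algebra.TensorProduct.includeRight : M →ₐ[R] L ⊗[R] M).toRingHom
  have hν₀ : (Algebra.TensorProduct.includeLeftRingHom : L →+* L ⊗[R] M).comp (algebraMap B L) =
      (iM.comp ιN).comp (algebraMap B (H q)) := RingHom.ext fun b =>
    (((Algebra.TensorProduct.includeRight : M →ₐ[R] L ⊗[R] M).commutes (ιR (algebraMap B RY b))).symm.trans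
      (congrArg iM (hιB b).symm))
  let ν : L ⊗[B] H q →+* L ⊗[R] M := tlift Algebra.TensorProduct.includeLeftRingHom (iM.comp ιN) hν₀
  have key := hcore M ψ (he₁.map ν)
  let ψL := Algebra.TensorProduct.map (AlgHom.id L L) ψ
  have hsq' : ψL.toRingHom.comp ν = π.comp (up q).toRingHom := Algebra.TensorProduct.ringHom_ext
    (RingHom.ext fun l => by
      show ψL (ν (l ⊗ₜ (1 : H q))) = π (up q (l ⊗ₜ (1 : H q)))
      rw [show ν (l ⊗ₜ (1 : H q)) = l ⊗ₜ[R] (1 : M) from
        (tlift_tmul _ (iM.comp ιN) hν₀ l 1).trans (by rw [map_one, mul_one]; rfl)]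
      rw [show up q (l ⊗ₜ (1 : H q)) = l ⊗ₜ (1 : RX) by simp [up]]
      rw [show π (l ⊗ₜ (1 : RX)) = l ⊗ₜ[R] (1 : T) from
        (tlift_tmul _ (iT.comp ιT) hπ₀ l 1).trans (by rw [map_one, mul_one]; rfl)]
      simp [ψL])
    (RingHom.ext fun x => by
      show ψL (ν ((1 : L) ⊗ₜ x)) = π (up q ((1 : L) ⊗ₜ x))
      rw [show ν ((1 : L) ⊗ₜ x) = (1 : L) ⊗ₜ[R] ιN x from
        (tlift_tmul _ (iM.comp ιN) hν₀ 1 x).trans (by rw [map_one, one_mul]; rfl)]
      rw [show up q ((1 : L) ⊗ₜ x) = (1 : L) ⊗ₜ (h q x) by simp [up]]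
      rw [show π ((1 : L) ⊗ₜ (h q x)) = (1 : L) ⊗ₜ[R] ιT (h q x) from
        (tlift_tmul _ (iT.comp ιT) hπ₀ 1 (h q x)).trans (by rw [map_one, one_mul]; rfl)]
      simp [ψL, hψ])
  have hval : ψL (ν e₁) = π z := by
    have h1 : ψL (ν e₁) = π (up q e₁) := congr($hsq' e₁)
    rw [h1, map_mul, φ.apply, φ.apply, map_mul]
    show π (up p z') * π (up p ε) = π z
    rw [hz']
    have hε' : π (up p ε) = 1 := hε1 _ (π.comp (up p).toRingHom) (RingHom.ext fun x => by
      show π (up p (k₁ x)) = π (up p (k₂ x))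
      rw [hup₁, hup₂]
      show π (ρ (g i x) ⊗ₜ (1 : RX)) = π ((1 : L) ⊗ₜ (algebraMap RY RX (g i x)))
      rw [show π (ρ (g i x) ⊗ₜ (1 : RX)) = ρ (g i x) ⊗ₜ[R] (1 : T) from
          (tlift_tmul _ (iT.comp ιT) hπ₀ _ 1).trans (by rw [map_one, mul_one]; rfl),
        show π ((1 : L) ⊗ₜ (algebraMap RY RX (g i x))) = iT (ιT (algebraMap RY RX (g i x))) from
          (tlift_tmul _ (iT.comp ιT) hπ₀ 1 _).trans (by rw [map_one, one_mul]; rfl), hRL])
    rw [hε', mul_one]
  rwa [hval] at key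

end

/-- strict localizations of products over local rings with nil maximal ideal are 0-acyclic -/
theorem isZeroAcyclic_strict {A₀ k B A : Type u} [CommRing A₀] [Field k] (q : A₀ →+* k)
    (hq : Function.Surjective q) (hqker : RingHom.ker q ≤ nilradical A₀) [CommRing B] [CommRing A] [Algebra A₀ B]
    [Algebra A₀ A] {RY RX : Type u} [CommRing RY] [CommRing RX] [HenselianLocalRing RY]
    [IsSepClosed (ResidueField RY)] [HenselianLocalRing RX] [IsSepClosed (ResidueField RX)] [Algebra B RY]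
    [Algebra (B ⊗[A₀] A) RX] [Algebra RY RX] [IsLocalHom (algebraMap RY RX)]
    (hcompat : (algebraMap RY RX).comp (algebraMap B RY) =
      (algebraMap (B ⊗[A₀] A) RX).comp Algebra.TensorProduct.includeLeftRingHom)
    {ι κ : Type u} {G : ι → Type u} [∀ i, CommRing (G i)] [∀ i, Algebra B (G i)]
    [∀ i, Algebra.Etale B (G i)] {g : ∀ i, G i →ₐ[B] RY} (hG : DirColim.IsColim g)
    {H : κ → Type u} [∀ i, CommRing (H i)] [∀ i, Algebra (B ⊗[A₀] A) (H i)]
    [∀ i, Algebra.Etale (B ⊗[A₀] A) (H i)] {h : ∀ i, H i →ₐ[B ⊗[A₀] A] RX} (hH : DirColim.IsColim h) :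
    EtAcyc.IsZeroAcyclic (Spec.map (CommRingCat.ofHom (algebraMap RY RX))) := by
  classical
  let a₀ : A₀ →+* RY := (algebraMap B RY).comp (algebraMap A₀ B)
  let J : Ideal RY := (RingHom.ker q).map a₀
  let R := RY ⧸ J
  let ιR : RY →+* R := Ideal.Quotient.mk J
  have hιR : Function.Surjective ιR := Ideal.Quotient.mk_surjective
  have hJ : J ≤ nilradical RY :=
    Ideal.map_le_iff_le_comap.2 fun c hc => mem_nilradical.2 ((mem_nilradical.1 (hqker hc)).map a₀)
  let JT : Ideal RX := J.map (algebraMap RY RX)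
  let T := RX ⧸ JT
  let ιT : RX →+* T := Ideal.Quotient.mk JT
  have hιT : Function.Surjective ιT := Ideal.Quotient.mk_surjective
  have hJT : JT ≤ nilradical RX :=
    Ideal.map_le_iff_le_comap.2 fun c hc => mem_nilradical.2 ((mem_nilradical.1 (hJ hc)).map _)
  let ρ : R →+* T := Ideal.quotientMap JT (algebraMap RY RX) Ideal.le_comap_map
  letI : Algebra R T := ρ.toAlgebra
  have hρ : ∀ r, algebraMap R T (ιR r) = ιT (algebraMap RY RX r) := fun r => Ideal.quotientMap_mk
  obtain ⟨hR', hlR, hsR⟩ : ∃ _ : HenselianLocalRing R, IsLocalHom ιR ∧ IsSepClosed (ResidueField R) := by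
    refine strictlyHenselian_of_radicial RY R (fun x => ?_) ?_
    · obtain ⟨r, hr⟩ := hιR x
      exact ⟨1, one_pos, r, (pow_one x).symm ▸ hr⟩
    · show RingHom.ker ιR ≤ _
      rw [Ideal.mk_ker]; exact hJ
  obtain ⟨hT', hlT, hsT⟩ : ∃ _ : HenselianLocalRing T, IsLocalHom ιT ∧ IsSepClosed (ResidueField T) := by
    refine strictlyHenselian_of_radicial RX T (fun x => ?_) ?_
    · obtain ⟨r, hr⟩ := hιT x
      exact ⟨1, one_pos, r, (pow_one x).symm ▸ hr⟩
    · show RingHom.ker ιT ≤ _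
      rw [Ideal.mk_ker]; exact hJT
  haveI : IsLocalHom (algebraMap R T) := by
    refine ⟨fun x hx => ?_⟩
    obtain ⟨r, rfl⟩ := hιR x
    rw [hρ] at hx
    exact ((isUnit_map_iff (algebraMap RY RX) r).1 ((isUnit_map_iff ιT _).1 hx)).map ιR
  -- the structures over the field
  have hkR : RingHom.ker q ≤ RingHom.ker (ιR.comp a₀) := fun c hc => by
    rw [RingHom.mem_ker, RingHom.comp_apply]
    exact Ideal.Quotient.eq_zero_iff_mem.2 (Ideal.mem_map_of_mem a₀ hc)
  let kR : k →+* R := RingHom.liftOfSurjective q hq (⟨ιR.comp a₀, hkR⟩ : {θ : A₀ →+* R // RingHom.ker q ≤ RingHom.ker θ})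
  have hkR' : ∀ c, kR (q c) = ιR (a₀ c) := fun c => RingHom.liftOfSurjective_comp_apply _ _ _ c
  letI : Algebra k R := kR.toAlgebra
  letI : Algebra A₀ k := q.toAlgebra
  let Ab := k ⊗[A₀] A
  let ιA : A →+* Ab := (Algebra.TensorProduct.includeRight : A →ₐ[A₀] Ab).toRingHom
  let iA : Ab →+* R ⊗[k] Ab := (Algebra.TensorProduct.includeRight : Ab →ₐ[k] R ⊗[k] Ab).toRingHom
  let βR : B →+* R ⊗[k] Ab := (algebraMap R (R ⊗[k] Ab)).comp (ιR.comp (algebraMap B RY))
  have hφ : βR.comp (algebraMap A₀ B) = (iA.comp ιA).comp (algebraMap A₀ A) := RingHom.ext fun c => by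
    show algebraMap R (R ⊗[k] Ab) (ιR (a₀ c)) = iA (ιA (algebraMap A₀ A c))
    rw [← hkR', show ιA (algebraMap A₀ A c) = algebraMap k Ab (q c) from
      (Algebra.TensorProduct.includeRight : A →ₐ[A₀] Ab).commutes c]
    exact ((Algebra.TensorProduct.includeRight : Ab →ₐ[k] R ⊗[k] Ab).commutes (q c)).symm
  let φW : B ⊗[A₀] A →+* R ⊗[k] Ab := tlift βR (iA.comp ιA) hφ
  let aA : A →+* RX := (algebraMap (B ⊗[A₀] A) RX).comp
    (Algebra.TensorProduct.includeRight : A →ₐ[A₀] B ⊗[A₀] A).toRingHom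
  have haA : ∀ c, aA (algebraMap A₀ A c) = algebraMap RY RX (a₀ c) := fun c => by
    show algebraMap (B ⊗[A₀] A) RX ((1 : B) ⊗ₜ algebraMap A₀ A c) = _
    rw [show (1 : B) ⊗ₜ[A₀] algebraMap A₀ A c = algebraMap A₀ B c ⊗ₜ[A₀] (1 : A) from
      (Algebra.TensorProduct.includeRight : A →ₐ[A₀] B ⊗[A₀] A).commutes c]
    exact (congr($hcompat (algebraMap A₀ B c))).symm
  have hαA : ((algebraMap R T).comp kR).comp (algebraMap A₀ k) = (ιT.comp aA).comp (algebraMap A₀ A) :=
    RingHom.ext fun c => by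
      show algebraMap R T (kR (q c)) = ιT (aA (algebraMap A₀ A c))
      rw [hkR', hρ, haA]
  let αA₀ : Ab →+* T := tlift ((algebraMap R T).comp kR) (ιT.comp aA) hαA
  letI : Algebra k T := ((algebraMap R T).comp kR).toAlgebra
  haveI : IsScalarTower k R T := .of_algebraMap_eq fun _ => rfl
  let αA : Ab →ₐ[k] T := { αA₀ with
    commutes' := fun c => (tlift_tmul _ (ιT.comp aA) hαA c 1).trans (by rw [map_one, mul_one]; rfl) }
  let α : R ⊗[k] Ab →ₐ[R] T := Algebra.TensorProduct.lift (Algebra.ofId R T) αA fun _ _ => .all _ _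
  have hφB : ∀ b, φW (Algebra.TensorProduct.includeLeftRingHom b) =
      algebraMap R (R ⊗[k] Ab) (ιR (algebraMap B RY b)) := fun b =>
    (tlift_tmul βR (iA.comp ιA) hφ b 1).trans (by rw [map_one, mul_one]; rfl)
  have hαW : ∀ w, α (φW w) = ιT (algebraMap (B ⊗[A₀] A) RX w) := fun w => by
    have : α.toRingHom.comp φW = ιT.comp (algebraMap (B ⊗[A₀] A) RX) := Algebra.TensorProduct.ringHom_ext
      (RingHom.ext fun b => by
        show α (φW (Algebra.TensorProduct.includeLeftRingHom b)) = ιT (algebraMap _ RX _)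
        rw [hφB, α.commutes, hρ]
        exact congrArg ιT congr($hcompat b))
      (RingHom.ext fun a => by
        show α (φW ((1 : B) ⊗ₜ a)) = ιT (aA a)
        rw [show φW ((1 : B) ⊗ₜ a) = (1 : R) ⊗ₜ[k] ιA a from
          (tlift_tmul βR (iA.comp ιA) hφ 1 a).trans (by rw [map_one, one_mul]; rfl)]
        refine (Algebra.TensorProduct.lift_tmul (Algebra.ofId R T) αA (fun _ _ => .all _ _) 1 (ιA a)).trans ?_
        rw [map_one, one_mul]
        exact (tlift_tmul _ (ιT.comp aA) hαA (1 : k) a).trans (by rw [map_one, one_mul]; rfl))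
    exact congr($this w)
  have hsq : ιT.comp (algebraMap RY RX) = (algebraMap R T).comp ιR := RingHom.ext fun r => (hρ r).symm
  have hkerT : RingHom.ker ιT ≤ (RingHom.ker ιR).map (algebraMap RY RX) := by
    rw [Ideal.mk_ker, Ideal.mk_ker]
  have hflat : Module.Flat R T := flat_strict Algebra.TensorProduct.includeLeftRingHom ιR ιT φW α
    hcompat hsq hφB hαW hG hH hιR hιT hkerT
  haveI := hflat
  haveI : Module.FaithfullyFlat R T := Module.FaithfullyFlat.of_flat_of_isLocalHom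
  -- the morphisms
  let e := Spec.map (CommRingCat.ofHom (algebraMap RY RX))
  haveI hGC : GeometricallyConnected e := by
    refine ⟨fun L _ y Z f₁ f₂ hZ => ?_⟩
    obtain ⟨φy, rfl⟩ := Spec.map_surjective y
    letI : Algebra RY L := φy.hom.toAlgebra
    suffices hc : ConnectedSpace (PrimeSpectrum (L ⊗[RY] RX)) by
      haveI : ConnectedSpace ↥(Spec (CommRingCat.of (L ⊗[RY] RX))) := hc
      let E : Z ≅ Spec (CommRingCat.of (L ⊗[RY] RX)) := hZ.flip.isoPullback ≪≫ pullbackSpecIso RY L RX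
      exact E.inv.homeomorph.surjective.connectedSpace E.inv.homeomorph.continuous
    have hJL : RingHom.ker ιR ≤ RingHom.ker (algebraMap RY L) := fun r hr => by
      rw [Ideal.mk_ker] at hr
      exact ((mem_nilradical.1 (hJ hr)).map _).eq_zero
    let L' := AlgebraicClosure L
    let ρL : R →+* L' := RingHom.liftOfSurjective ιR hιR
      (⟨(algebraMap L L').comp (algebraMap RY L), hJL.trans fun r hr => by
        rw [RingHom.mem_ker, RingHom.comp_apply, RingHom.mem_ker.1 hr, map_zero]⟩ :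
        {θ : RY →+* L' // RingHom.ker ιR ≤ RingHom.ker θ})
    have hρL : ∀ r, ρL (ιR r) = algebraMap L L' (algebraMap RY L r) := fun r =>
      RingHom.liftOfSurjective_comp_apply _ _ _ r
    letI : Algebra R L' := ρL.toAlgebra
    haveI : Nontrivial (L' ⊗[R] T) := inferInstance
    let iTL : T →+* L' ⊗[R] T := (Algebra.TensorProduct.includeRight : T →ₐ[R] L' ⊗[R] T).toRingHom
    let iLL : L →+* L' ⊗[R] T := (Algebra.TensorProduct.includeLeftRingHom).comp (algebraMap L L')
    have hπ : iLL.comp (algebraMap RY L) = (iTL.comp ιT).comp (algebraMap RY RX) := RingHom.ext fun r => by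
      show (algebraMap L L' (algebraMap RY L r)) ⊗ₜ[R] (1 : T) = iTL (ιT (algebraMap RY RX r))
      rw [← hρ, ← hρL]
      exact ((Algebra.TensorProduct.includeRight : T →ₐ[R] L' ⊗[R] T).commutes (ιR r)).symm
    let π : L ⊗[RY] RX →+* L' ⊗[R] T := tlift iLL (iTL.comp ιT) hπ
    haveI : Nontrivial (L ⊗[RY] RX) := π.domain_nontrivial
    refine connectedSpace_of_idempotent fun x hx => ?_
    refine idem_trivial_of_lift π (fun K _ _ θ => ?_) hx
      (idem_strict Algebra.TensorProduct.includeLeftRingHom ιR ιT φW α hcompat hsq hφB hαW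
        hG hH hιR hιT hkerT L' (fun M _ _ _ _ _ ψ _ hd => idem_of_field (k := k) R Ab M T L' ψ hd) (hx.map π))
    let θL : L →+* K := θ.comp Algebra.TensorProduct.includeLeftRingHom
    let θX : RX →+* K := θ.comp (Algebra.TensorProduct.includeRight : RX →ₐ[RY] L ⊗[RY] RX).toRingHom
    have hθ : ∀ r, θL (algebraMap RY L r) = θX (algebraMap RY RX r) := fun r =>
      congrArg θ ((Algebra.TensorProduct.includeRight : RX →ₐ[RY] L ⊗[RY] RX).commutes r).symm
    letI : Algebra L K := θL.toAlgebra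
    let θL' : L' →ₐ[L] K := IsAlgClosed.lift
    have hkT : RingHom.ker ιT ≤ RingHom.ker θX := fun r hr => by
      rw [Ideal.mk_ker] at hr
      exact ((mem_nilradical.1 (hJT hr)).map _).eq_zero
    let θT : T →+* K := RingHom.liftOfSurjective ιT hιT
      (⟨θX, hkT⟩ : {ξ : RX →+* K // RingHom.ker ιT ≤ RingHom.ker ξ})
    have hθT : ∀ r, θT (ιT r) = θX r := fun r => RingHom.liftOfSurjective_comp_apply _ _ _ r
    have hθ' : θL'.toRingHom.comp (algebraMap R L') = θT.comp (algebraMap R T) := RingHom.ext fun r => by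
      obtain ⟨r, rfl⟩ := hιR r
      show θL' (ρL (ιR r)) = θT (algebraMap R T (ιR r))
      rw [hρ, hθT, hρL, θL'.commutes]
      exact hθ r
    refine ⟨tlift θL'.toRingHom θT hθ', Algebra.TensorProduct.ringHom_ext (RingHom.ext fun l => ?_)
      (RingHom.ext fun x => ?_)⟩
    · show tlift θL'.toRingHom θT hθ' (π (l ⊗ₜ (1 : RX))) = θL l
      rw [show π (l ⊗ₜ (1 : RX)) = algebraMap L L' l ⊗ₜ[R] (1 : T) from
        (tlift_tmul iLL (iTL.comp ιT) hπ l 1).trans (by rw [map_one, mul_one]; rfl)]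
      refine (tlift_tmul θL'.toRingHom θT hθ' _ 1).trans ?_
      rw [map_one, mul_one]
      exact θL'.commutes l
    · show tlift θL'.toRingHom θT hθ' (π ((1 : L) ⊗ₜ x)) = θX x
      rw [show π ((1 : L) ⊗ₜ x) = (1 : L') ⊗ₜ[R] ιT x from
        (tlift_tmul iLL (iTL.comp ιT) hπ 1 x).trans (by rw [map_one, one_mul]; rfl)]
      refine (tlift_tmul θL'.toRingHom θT hθ' 1 (ιT x)).trans ?_
      rw [map_one, one_mul, hθT]
  refine isZeroAcyclic_of_quot e fun {U} p _ => ?_
  let i := Spec.map (CommRingCat.ofHom ιT)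
  let j := Spec.map (CommRingCat.ofHom ιR)
  let e' := Spec.map (CommRingCat.ofHom (algebraMap R T))
  haveI : IsClosedImmersion j := IsClosedImmersion.spec_of_surjective _ hιR
  haveI : Surjective j := ⟨fun x => by
    obtain ⟨z, hz⟩ := (PrimeSpectrum.comap_quotientMk_bijective_of_le_nilradical hJ).2 x
    exact ⟨z, hz⟩⟩
  haveI : Flat e' := (HasRingHomProperty.Spec_iff (P := @Flat)).2 (RingHom.flat_algebraMap_iff.2 hflat)
  haveI : Surjective e' := ⟨PrimeSpectrum.comap_surjective_of_faithfullyFlat⟩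
  refine isQuotientMap_fst_of_model e e' i j ?_ p
  rw [← Spec.map_comp, ← Spec.map_comp, ← CommRingCat.ofHom_comp, ← CommRingCat.ofHom_comp, hsq]

end Groth.Agent.H0FBC.OverField
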