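import Groth.Agent.H0FBC.Descent

/-!
# Base change along flat morphisms factoring locally with geometrically connected fibres
-/

set_option autoImplicit false
set_option linter.style.haveILetI false
set_option linter.unusedSectionVars false
set_option backward.isDefEq.respectTransparency false
set_option backward.isDefEq.respectTransparency.types false
universe u

open CategoryTheory CategoryTheory.Limits AlgebraicGeometry TopologicalSpace Opposite

namespace Groth.Agent.H0FBC

open H0PBC EtFound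

/-- a morphism to an etale scheme over the base is flat if the composite is -/
theorem flat_of_comp_etale {P Q S : Scheme.{u}} (a : P ⟶ Q) (q : Q ⟶ S) [AlgebraicGeometry.Etale q]
    [Flat (a ≫ q)] : Flat a := by
  let Γ : P ⟶ pullback (a ≫ q) q := pullback.lift (𝟙 P) a (Category.id_comp _)
  haveI : AlgebraicGeometry.Etale (Γ ≫ pullback.fst (a ≫ q) q) := by
    rw [show Γ ≫ pullback.fst (a ≫ q) q = 𝟙 P from pullback.lift_fst _ _ _]
    infer_instance
  haveI : AlgebraicGeometry.Etale Γ := AlgebraicGeometry.Etale.of_comp Γ (pullback.fst (a ≫ q) q)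
  rw [← show Γ ≫ pullback.snd (a ≫ q) q = a from pullback.lift_snd _ _ _]
  infer_instance

/-- a clopen set in the source of a flat quasi-compact surjective morphism with connected fibres has
open image -/
theorem isOpen_image_clopen {P Q : Scheme.{u}} (p : P ⟶ Q) [Flat p] [GeometricallyConnected p]
    (hqo : QuasiCompact p ∨ UniversallyOpen p) {C : Set P} (hC : IsClopen C) : IsOpen (p '' C) := by
  have hq : Topology.IsQuotientMap p := by
    rcases hqo with h | h
    · exact Flat.isQuotientMap_of_surjective p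
    · exact IsOpenMap.isQuotientMap p.isOpenMap p.continuous p.surjective
  rw [← hq.isOpen_preimage]
  refine (congrArg IsOpen (Set.Subset.antisymm ?_ (Set.subset_preimage_image _ _))).mpr hC.isOpen
  rintro x ⟨x', hx', e⟩
  exact (p.isConnected_preimage_singleton (p x)).isPreconnected.subset_isClopen hC ⟨x', e, hx'⟩ rfl

variable {X Y X' Y' : Scheme.{u}} {f : X ⟶ Y} {g : Y' ⟶ Y} {f' : X' ⟶ Y'} {g' : X' ⟶ X}

section bcMap

variable (w : g' ≫ f = f' ≫ g) {U : Y'.Etale} {V : Y.Etale} (a : U.left ⟶ V.left) (ha : a ≫ V.hom = U.hom ≫ g)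

/-- the morphism `U ×_{Y'} X' ⟶ V ×_Y X` -/
noncomputable def bcMap : ((EtCoh.bc f').obj U).left ⟶ ((EtCoh.bc f).obj V).left :=
  pullback.lift (pullback.fst U.hom f' ≫ a) (pullback.snd U.hom f' ≫ g') (by
    rw [Category.assoc, Category.assoc, ha, w, pullback.condition_assoc])

theorem bcMap_w : bcMap w a ha ≫ ((EtCoh.bc f).obj V).hom = ((EtCoh.bc f').obj U).hom ≫ g' :=
  pullback.lift_snd _ _ _

theorem bcMap_fst : bcMap w a ha ≫ pullback.fst V.hom f = pullback.fst U.hom f' ≫ a :=
  pullback.lift_fst _ _ _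

variable (h : IsPullback g' f' f g)

theorem isPullback_bcMap : IsPullback (bcMap h.w a ha) (pullback.fst U.hom f') (pullback.fst V.hom f) a := by
  refine IsPullback.of_right ?_ (bcMap_fst h.w a ha) (IsPullback.of_hasPullback V.hom f).flip
  have e : bcMap h.w a ha ≫ pullback.snd V.hom f = pullback.snd U.hom f' ≫ g' := bcMap_w h.w a ha
  rw [e, ha]
  exact (IsPullback.of_hasPullback U.hom f').flip.paste_horiz h

theorem prop_bcMap (P : MorphismProperty Scheme.{u}) [P.IsStableUnderBaseChange] (hP : P a) :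
    P (bcMap h.w a ha) :=
  MorphismProperty.of_isPullback (isPullback_bcMap a ha h).flip hP

theorem toBC_bcSquare :
    (EtCoh.bc f').map (toBC g a ha) ≫ bcSquare w V = toBC g' (bcMap w a ha) (bcMap_w w a ha) := by
  have hk : ((EtCoh.bc f').map (toBC g a ha)).left ≫ pullback.fst (pullback.snd V.hom g) f' =
      pullback.fst U.hom f' ≫ (toBC g a ha).left := pullback.lift_fst _ _ _
  refine MorphismProperty.Over.Hom.ext (pullback.hom_ext (pullback.hom_ext ?_ ?_) ?_)
  · refine Eq.trans (Category.assoc _ _ _) ((Category.assoc _ _ _).trans ?_)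
    refine (congrArg (_ ≫ ·) (bcSquare_fst w V)).trans ((Category.assoc _ _ _).symm.trans ?_)
    refine (congrArg (· ≫ pullback.fst V.hom g) hk).trans ((Category.assoc _ _ _).trans ?_)
    refine (congrArg (pullback.fst U.hom f' ≫ ·) (pullback.lift_fst _ _ _)).trans ?_
    exact ((congrArg (· ≫ pullback.fst V.hom f) (pullback.lift_fst _ _ _)).trans (bcMap_fst w a ha)).symm
  · refine Eq.trans (Category.assoc _ _ _) ?_
    refine (congrArg (_ ≫ ·) pullback.condition).trans ((Category.assoc _ _ _).symm.trans ?_)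
    refine (congrArg (· ≫ g') (MorphismProperty.Over.w ((EtCoh.bc f').map (toBC g a ha) ≫ bcSquare w V))).trans ?_
    exact ((congrArg (· ≫ pullback.snd V.hom f) (pullback.lift_fst _ _ _)).trans (bcMap_w w a ha)).symm
  · exact (MorphismProperty.Over.w ((EtCoh.bc f').map (toBC g a ha) ≫ bcSquare w V)).trans
      (pullback.lift_snd _ _ _).symm

end bcMap

variable {A : Type (u + 2)} [Category.{u + 1} A] [HasColimitsOfSize.{u, u} A] [HasProducts.{u} A]
  [∀ {P Q : Scheme.{u}} (h : P ⟶ Q),
    ((EtCoh.bc h).sheafPushforwardContinuous A Q.smallEtaleTopology P.smallEtaleTopology).IsRightAdjoint]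
  {FA : A → A → Type*} {CA : A → Type (u + 1)}
  [∀ M N, FunLike (FA M N) (CA M) (CA N)] [ConcreteCategory.{u + 1} A FA]
  [PreservesFilteredColimitsOfSize.{u, u} (forget A)]
  [∀ Z : Scheme.{u}, Z.smallEtaleTopology.HasSheafCompose (forget A)] [(forget A).ReflectsIsomorphisms]

theorem pullSect_map {P Q : Scheme.{u}} (q : P ⟶ Q) (G : Sheaf Q.smallEtaleTopology A) {U₁ U₂ : Q.Etale}
    (k : U₂ ⟶ U₁) (s : ToType (G.obj.obj (op U₁))) :
    pullSect q G (G.obj.map k.op s) =
      ((pullA A q).obj G).obj.map ((EtCoh.bc q).map k).op (pullSect q G s) :=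
  ((ConcreteCategory.comp_apply _ _ _).symm.trans (ConcreteCategory.congr_hom
    (((((EtCoh.bc q).sheafAdjunctionContinuous A Q.smallEtaleTopology P.smallEtaleTopology).unit.app G).hom.naturality
      k.op)) s)).trans (ConcreteCategory.comp_apply _ _ _)

include FA CA in
/-- a transposed base change map on inverse images of sections -/
theorem beta_toBC (h : IsPullback g' f' f g) (F : Sheaf X.smallEtaleTopology A)
    (β : (pullA A g).obj ((pushA A f).obj F) ⟶ (pushA A f').obj ((pullA A g').obj F))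
    (hβ : ∀ V : Y.Etale,
      (((EtCoh.bc g).sheafAdjunctionContinuous A Y.smallEtaleTopology Y'.smallEtaleTopology).unit.app
          ((pushA A f).obj F)).hom.app (op V) ≫ β.hom.app (op ((EtCoh.bc g).obj V)) =
        (((EtCoh.bc g').sheafAdjunctionContinuous A X.smallEtaleTopology X'.smallEtaleTopology).unit.app F).hom.app
          (op ((EtCoh.bc f).obj V)) ≫ ((pullA A g').obj F).obj.map (bcSquare h.w V).op)
    {U : Y'.Etale} {V : Y.Etale} (a : U.left ⟶ V.left) (ha : a ≫ V.hom = U.hom ≫ g)
    (τ : ToType (((pushA A f).obj F).obj.obj (op V))) :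
    β.hom.app (op U) (((pullA A g).obj ((pushA A f).obj F)).obj.map (toBC g a ha).op
      (pullSect g ((pushA A f).obj F) τ)) =
    ((pullA A g').obj F).obj.map (toBC g' (bcMap h.w a ha) (bcMap_w h.w a ha)).op (pullSect g' F τ) := by
  refine (NatTrans.naturality_apply β.hom (toBC g a ha).op (pullSect g ((pushA A f).obj F) τ)).trans ?_
  refine (congrArg (((pushA A f').obj ((pullA A g').obj F)).obj.map (toBC g a ha).op)
    ((ConcreteCategory.comp_apply _ _ τ).symm.trans ((ConcreteCategory.congr_hom (hβ V) τ).trans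
      (ConcreteCategory.comp_apply _ _ τ)))).trans ?_
  refine ((ConcreteCategory.comp_apply _ _ _).symm.trans (ConcreteCategory.congr_hom ?_ (pullSect g' F τ)))
  refine (((pullA A g').obj F).obj.map_comp _ _).symm.trans (congrArg ((pullA A g').obj F).obj.map ?_)
  exact (op_comp (f := (EtCoh.bc f').map (toBC g a ha))).symm.trans
    (congrArg Quiver.Hom.op (toBC_bcSquare h.w a ha))

include FA CA in
/-- base change in degree zero along flat morphisms that factor locally through quasi-compact
morphisms with geometrically connected fibres followed by etale morphisms -/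
theorem isIso_baseChange_of_covers (h : IsPullback g' f' f g) [Flat g]
    (hcov : ∀ (U : Y'.Etale) (x : U.left), ∃ (U' : Y'.Etale) (m : U' ⟶ U) (y : U'.left) (V : Y.Etale)
      (a : U'.left ⟶ V.left), m.left y = x ∧ a ≫ V.hom = U'.hom ≫ g ∧ (QuasiCompact a ∨ UniversallyOpen a) ∧ GeometricallyConnected a)
    (F : Sheaf X.smallEtaleTopology A)
    (β : (pullA A g).obj ((pushA A f).obj F) ⟶ (pushA A f').obj ((pullA A g').obj F))
    (hβ : ∀ V : Y.Etale,
      (((EtCoh.bc g).sheafAdjunctionContinuous A Y.smallEtaleTopology Y'.smallEtaleTopology).unit.app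
          ((pushA A f).obj F)).hom.app (op V) ≫ β.hom.app (op ((EtCoh.bc g).obj V)) =
        (((EtCoh.bc g').sheafAdjunctionContinuous A X.smallEtaleTopology X'.smallEtaleTopology).unit.app F).hom.app
          (op ((EtCoh.bc f).obj V)) ≫ ((pullA A g').obj F).obj.map (bcSquare h.w V).op) : IsIso β := by
  have hflat : ∀ {U : Y'.Etale} {V : Y.Etale} (a : U.left ⟶ V.left), a ≫ V.hom = U.hom ≫ g → Flat a := by
    intro U V a ha
    haveI : AlgebraicGeometry.Etale U.hom := U.prop
    haveI : AlgebraicGeometry.Etale V.hom := V.prop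
    haveI : Flat (a ≫ V.hom) := by rw [ha]; infer_instance
    exact flat_of_comp_etale a V.hom
  refine isIso_of_stalks β fun Ω _ _ η => ⟨?_, ?_⟩
  · intro p₁ p₂ e
    obtain ⟨V₁, τ₁, b₁, hb₁, rfl⟩ := exists_germ_eq g ((pushA A f).obj F) η (η ≫ g) rfl p₁
    obtain ⟨V₂, τ₂, b₂, hb₂, rfl⟩ := exists_germ_eq g ((pushA A f).obj F) η (η ≫ g) rfl p₂
    let b : Spec (CommRingCat.of Ω) ⟶ (prodEt V₁ V₂).left := pullback.lift b₁ b₂ (hb₁.trans hb₂.symm)
    obtain ⟨O, hO, hbO, -⟩ := exists_isAffineOpen_mem_and_subset (x := b default)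
      (U := (⊤ : (prodEt V₁ V₂).left.Opens)) trivial
    let Vn := restrictEtale (prodEt V₁ V₂) O
    let r₁ : Vn ⟶ V₁ := restrictEtaleHom _ O ≫ prodEtFst V₁ V₂
    let r₂ : Vn ⟶ V₂ := restrictEtaleHom _ O ≫ prodEtSnd V₁ V₂
    have hrb : Set.range b ⊆ Set.range O.ι := by
      rintro _ ⟨t, rfl⟩
      rw [Scheme.Opens.range_ι, Subsingleton.elim t default]
      exact hbO
    let v : Spec (CommRingCat.of Ω) ⟶ Vn.left := IsOpenImmersion.lift O.ι b hrb
    have hv : v ≫ O.ι = b := IsOpenImmersion.lift_fac _ _ _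
    have hvξ : v ≫ Vn.hom = η ≫ g := by
      show v ≫ O.ι ≫ pullback.fst V₁.hom V₂.hom ≫ V₁.hom = η ≫ g
      rw [← Category.assoc, hv, ← Category.assoc]
      exact (congrArg (· ≫ V₁.hom) (pullback.lift_fst _ _ _)).trans hb₁
    have hv₁ : v ≫ r₁.left = b₁ := by
      show v ≫ O.ι ≫ pullback.fst V₁.hom V₂.hom = b₁
      rw [← Category.assoc, hv]
      exact pullback.lift_fst _ _ _
    have hv₂ : v ≫ r₂.left = b₂ := by
      show v ≫ O.ι ≫ pullback.snd V₁.hom V₂.hom = b₂
      rw [← Category.assoc, hv]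
      exact pullback.lift_snd _ _ _
    rw [← germ_map ((pushA A f).obj F) r₁ τ₁ _ v hvξ b₁ hb₁ hv₁,
      ← germ_map ((pushA A f).obj F) r₂ τ₂ _ v hvξ b₂ hb₂ hv₂] at e ⊢
    generalize ((pushA A f).obj F).obj.map r₁.op τ₁ = t₁ at e ⊢
    generalize ((pushA A f).obj F).obj.map r₂.op τ₂ = t₂ at e ⊢
    let c : Spec (CommRingCat.of Ω) ⟶ ((EtCoh.bc g).obj Vn).left := pullback.lift v η hvξ
    have hc : c ≫ ((EtCoh.bc g).obj Vn).hom = η := pullback.lift_snd _ _ _
    let c' : (Scheme.pointSmallEtale η).fiber.obj ((EtCoh.bc g).obj Vn) := CategoryTheory.Over.homMk c hc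
    have hgp : ∀ t : ToType (((pushA A f).obj F).obj.obj (op Vn)),
        toPullStalk g ((pushA A f).obj F) η (η ≫ g) rfl (germ ((pushA A f).obj F) t (η ≫ g) v hvξ) =
          (Scheme.pointSmallEtale η).toPresheafFiber _ c' ((pullA A g).obj ((pushA A f).obj F)).obj (pullSect g ((pushA A f).obj F) t) := fun t =>
      (germ_pullSect g ((pushA A f).obj F) η _ rfl t c hc v hvξ (pullback.lift_fst _ _ _)).symm
    rw [hgp, hgp] at e
    have e' := (((Scheme.pointSmallEtale η).toPresheafFiber_naturality_apply β.hom _ c' _).symm.trans e).trans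
      ((Scheme.pointSmallEtale η).toPresheafFiber_naturality_apply β.hom _ c' _)
    obtain ⟨U₁, k, z, hz, hk⟩ := ((Scheme.pointSmallEtale η).toPresheafFiber_eq_iff' _ c' _ _).1 e'
    obtain ⟨U', m, y, V', a, hmy, ha, hqc, hgc⟩ :=
      hcov U₁ ((z.left : Spec (CommRingCat.of Ω) ⟶ U₁.left) (default : Spec (CommRingCat.of Ω)))
    haveI := hgc
    haveI := hflat a ha
    let a₁ : U'.left ⟶ Vn.left := (m ≫ k).left ≫ pullback.fst Vn.hom g
    have ha₁ : a₁ ≫ Vn.hom = U'.hom ≫ g := by
      refine (Category.assoc _ _ _).trans ?_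
      rw [pullback.condition, ← Category.assoc]
      exact congrArg (· ≫ g) (MorphismProperty.Over.w (m ≫ k))
    have hmk : toBC g a₁ ha₁ = m ≫ k := by
      refine MorphismProperty.Over.Hom.ext (pullback.hom_ext (pullback.lift_fst _ _ _) ?_)
      exact (pullback.lift_snd _ _ _).trans (MorphismProperty.Over.w (m ≫ k)).symm
    have hsame : ((pullA A g').obj F).obj.map (toBC g' (bcMap h.w a₁ ha₁) (bcMap_w h.w a₁ ha₁)).op
          (pullSect g' F t₁) =
        ((pullA A g').obj F).obj.map (toBC g' (bcMap h.w a₁ ha₁) (bcMap_w h.w a₁ ha₁)).op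
          (pullSect g' F t₂) := by
      have n : ∀ t, β.hom.app (op U') (((pullA A g).obj ((pushA A f).obj F)).obj.map (toBC g a₁ ha₁).op t) =
          ((pushA A f').obj ((pullA A g').obj F)).obj.map m.op
            (((pushA A f').obj ((pullA A g').obj F)).obj.map k.op (β.hom.app (op ((EtCoh.bc g).obj Vn)) t)) := by
        intro t
        refine (NatTrans.naturality_apply β.hom _ t).trans ?_
        rw [hmk, op_comp, Functor.map_comp]
        exact ConcreteCategory.comp_apply _ _ _
      rw [← beta_toBC h F β hβ a₁ ha₁ t₁, ← beta_toBC h F β hβ a₁ ha₁ t₂, n, n, hk]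
    -- the image of `U'` in `Vn ×_Y V'` is open
    let V'' := prodEt Vn V'
    haveI : AlgebraicGeometry.Etale Vn.hom := Vn.prop
    haveI : IsAffine (O : Scheme.{u}) := hO
    haveI : IsSeparated Vn.hom := by
      haveI : IsSeparated (Vn.hom ≫ terminal.from Y) := by
        rw [show Vn.hom ≫ terminal.from Y = terminal.from Vn.left from Subsingleton.elim _ _]
        have hs : (O : Scheme.{u}).IsSeparated := inferInstance
        exact @Scheme.IsSeparated.isSeparated_terminal_from _ hs
      exact IsSeparated.of_comp Vn.hom (terminal.from Y)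
    let pr := pullback.snd a (pullback.snd Vn.hom V'.hom)
    let a₂ : U'.left ⟶ V''.left := pullback.lift a₁ a (ha₁.trans ha.symm)
    have ha₂' : a₂ ≫ pullback.snd Vn.hom V'.hom = a := pullback.lift_snd _ _ _
    let Γ : U'.left ⟶ pullback a (pullback.snd Vn.hom V'.hom) :=
      pullback.lift (𝟙 _) a₂ ((Category.id_comp _).trans ha₂'.symm)
    have hΓ₁ : Γ ≫ pullback.fst a (pullback.snd Vn.hom V'.hom) = 𝟙 _ := pullback.lift_fst _ _ _
    have hΓ₂ : Γ ≫ pr = a₂ := pullback.lift_snd _ _ _
    have hclopen : IsClopen (Set.range Γ) := by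
      haveI : AlgebraicGeometry.Etale (Γ ≫ pullback.fst a (pullback.snd Vn.hom V'.hom)) := by
        rw [hΓ₁]; infer_instance
      haveI : AlgebraicGeometry.Etale Γ := AlgebraicGeometry.Etale.of_comp Γ (pullback.fst a (pullback.snd Vn.hom V'.hom))
      haveI : IsClosedImmersion Γ := MorphismProperty.of_postcomp (W' := @IsSeparated) @IsClosedImmersion Γ
        (pullback.fst a (pullback.snd Vn.hom V'.hom)) inferInstance (by rw [hΓ₁]; infer_instance)
      exact ⟨Γ.isClosedEmbedding.isClosed_range, Γ.isOpenMap.isOpen_range⟩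
    have hI : IsOpen (Set.range a₂) := by
      have e₂ : Set.range a₂ = pr '' Set.range Γ := by
        rw [← Set.range_comp, ← hΓ₂]
        exact congrArg Set.range (funext fun t => Scheme.Hom.comp_apply Γ pr t)
      rw [e₂]
      refine isOpen_image_clopen pr ?_ hclopen
      rcases hqc with hh | hh
      · exact .inl inferInstance
      · exact .inr inferInstance
    let I : V''.left.Opens := ⟨_, hI⟩
    let VI := restrictEtale V'' I
    let ρ : VI ⟶ Vn := restrictEtaleHom V'' I ≫ prodEtFst Vn V'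
    let a₃ : U'.left ⟶ VI.left := IsOpenImmersion.lift I.ι a₂ (Scheme.Opens.range_ι I).ge
    have ha₃' : a₃ ≫ I.ι = a₂ := IsOpenImmersion.lift_fac _ _ _
    have ha₃ρ : a₃ ≫ ρ.left = a₁ := by
      show a₃ ≫ I.ι ≫ pullback.fst Vn.hom V'.hom = a₁
      rw [← Category.assoc, ha₃']
      exact pullback.lift_fst _ _ _
    have ha₃ : a₃ ≫ VI.hom = U'.hom ≫ g := by
      rw [← MorphismProperty.Over.w ρ, ← Category.assoc, ha₃ρ, ha₁]
    haveI : Surjective a₃ := ⟨fun t => by
      obtain ⟨u', hu'⟩ := t.2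
      refine ⟨u', I.ι.isOpenEmbedding.injective ?_⟩
      exact ((Scheme.Hom.comp_apply a₃ I.ι u').symm.trans
        (congrArg (fun l : U'.left ⟶ V''.left => l u') ha₃')).trans hu'⟩
    haveI : Surjective (bcMap h.w a₃ ha₃) := prop_bcMap a₃ ha₃ h @Surjective inferInstance
    have hcomp : toBC g' (bcMap h.w a₃ ha₃) (bcMap_w h.w a₃ ha₃) ≫ (EtCoh.bc g').map ((EtCoh.bc f).map ρ) =
        toBC g' (bcMap h.w a₁ ha₁) (bcMap_w h.w a₁ ha₁) := by
      refine MorphismProperty.Over.Hom.ext (pullback.hom_ext ?_ ?_)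
      · refine (Category.assoc _ _ _).trans ((congrArg (_ ≫ ·) (pullback.lift_fst _ _ _)).trans ?_)
        refine ((Category.assoc _ _ _).symm.trans (congrArg (· ≫ ((EtCoh.bc f).map ρ).left) (pullback.lift_fst _ _ _))).trans ?_
        refine Eq.trans ?_ (pullback.lift_fst _ _ _).symm
        refine pullback.hom_ext ?_ ?_
        · refine (Category.assoc _ _ _).trans ((congrArg (_ ≫ ·) (pullback.lift_fst _ _ _)).trans ?_)
          refine ((Category.assoc _ _ _).symm.trans (congrArg (· ≫ ρ.left) (bcMap_fst h.w a₃ ha₃))).trans ?_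
          rw [bcMap_fst, Category.assoc, ha₃ρ]
        · refine (Category.assoc _ _ _).trans ((congrArg (_ ≫ ·) (pullback.lift_snd _ _ _)).trans ?_)
          exact (bcMap_w h.w a₃ ha₃).trans (bcMap_w h.w a₁ ha₁).symm
      · exact (MorphismProperty.Over.w (toBC g' (bcMap h.w a₃ ha₃) (bcMap_w h.w a₃ ha₃) ≫
          (EtCoh.bc g').map ((EtCoh.bc f).map ρ))).trans (pullback.lift_snd _ _ _).symm
    have hn : ∀ t : ToType (F.obj.obj (op ((EtCoh.bc f).obj Vn))),
        ((pullA A g').obj F).obj.map (toBC g' (bcMap h.w a₁ ha₁) (bcMap_w h.w a₁ ha₁)).op (pullSect g' F t) =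
        ((pullA A g').obj F).obj.map (toBC g' (bcMap h.w a₃ ha₃) (bcMap_w h.w a₃ ha₃)).op
          (pullSect g' F (F.obj.map ((EtCoh.bc f).map ρ).op t)) := by
      intro t
      rw [pullSect_map, ← ConcreteCategory.comp_apply, ← Functor.map_comp, ← op_comp, hcomp]
    have hρ := eq_of_pullSect_eq g' F (bcMap h.w a₃ ha₃) (bcMap_w h.w a₃ ha₃) _ _
      ((hn t₁).symm.trans (hsame.trans (hn t₂)))
    have hy : ρ.left (a₃ y) = v default := by
      rw [← Scheme.Hom.comp_apply, ha₃ρ]
      show ((m ≫ k).left ≫ pullback.fst Vn.hom g) y = v default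
      rw [Scheme.Hom.comp_apply]
      show pullback.fst Vn.hom g (k.left (m.left y)) = v default
      rw [hmy]
      refine (congrArg (fun p => pullback.fst Vn.hom g p) ((Scheme.Hom.comp_apply _ k.left _).symm.trans
        (congrArg (fun l : Spec (CommRingCat.of Ω) ⟶ ((EtCoh.bc g).obj Vn).left => l default)
          (show (z.left : Spec (CommRingCat.of Ω) ⟶ U₁.left) ≫ k.left = c from
            congrArg CommaMorphism.left hz)))).trans ?_
      exact (Scheme.Hom.comp_apply c _ default).symm.trans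
        (congrArg (fun l : Spec (CommRingCat.of Ω) ⟶ Vn.left => l default) (pullback.lift_fst _ _ _))
    obtain ⟨v', hv', -⟩ := EtFound.exists_lift_point ρ (CategoryTheory.Over.homMk v hvξ) (a₃ y) hy
    have hv'' : (v'.left : Spec (CommRingCat.of Ω) ⟶ _) ≫ ρ.left = v := congrArg CommaMorphism.left hv'
    refine congrArg _ ?_
    exact (germ_map ((pushA A f).obj F) ρ t₁ _ v'.left (CategoryTheory.Over.w v') v hvξ hv'').symm.trans
      ((congrArg (fun s => germ ((pushA A f).obj F) s _ v'.left (CategoryTheory.Over.w v')) hρ).trans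
        (germ_map ((pushA A f).obj F) ρ t₂ _ v'.left (CategoryTheory.Over.w v') v hvξ hv''))
  · intro q
    obtain ⟨U₀, z, s, rfl⟩ := (Scheme.pointSmallEtale η).toPresheafFiber_jointly_surjective q
    obtain ⟨U', m, y, V, a, hmy, ha, hqc, hgc⟩ :=
      hcov U₀ ((z.left : Spec (CommRingCat.of Ω) ⟶ U₀.left) (default : Spec (CommRingCat.of Ω)))
    obtain ⟨z', hz', -⟩ := EtFound.exists_lift_point m z y hmy
    haveI := hgc
    haveI := hflat a ha
    haveI : Flat (bcMap h.w a ha) := prop_bcMap a ha h @Flat inferInstance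
    have hqo : QuasiCompact (bcMap h.w a ha) ∨ UniversallyOpen (bcMap h.w a ha) := by
      rcases hqc with hh | hh
      · exact .inl (prop_bcMap a ha h @QuasiCompact hh)
      · exact .inr (prop_bcMap a ha h @UniversallyOpen hh)
    haveI : GeometricallyConnected (bcMap h.w a ha) := prop_bcMap a ha h @GeometricallyConnected inferInstance
    obtain ⟨τ, hτ⟩ := exists_pullSect_eq g' F (bcMap h.w a ha) (bcMap_w h.w a ha)
      (((pushA A f').obj ((pullA A g').obj F)).obj.map m.op s) hqo
    let P := ((pullA A g).obj ((pushA A f).obj F)).obj.map (toBC g a ha).op (pullSect g ((pushA A f).obj F) τ)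
    refine ⟨(Scheme.pointSmallEtale η).toPresheafFiber U' z' ((pullA A g).obj ((pushA A f).obj F)).obj P, ?_⟩
    refine ((Scheme.pointSmallEtale η).toPresheafFiber_naturality_apply β.hom U' z' P).trans ?_
    rw [beta_toBC h F β hβ a ha τ, hτ, ← hz']
    exact (Scheme.pointSmallEtale η).toPresheafFiber_w_apply m z' _ s

end Groth.Agent.H0FBC
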