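import Groth.Agent.H0FBC.StrictAlg
import Groth.Agent.AlgSpDec.EtHenzField
import Groth.Agent.Hensel.TensorHenzFinite
import Groth.Agent.H0FBC.FieldCore

/-!
# Universal neighbourhoods along quasi-finite algebras
-/

set_option autoImplicit false
set_option linter.unusedSectionVars false
set_option linter.style.haveILetI false
universe u

open IsLocalRing
open scoped TensorProduct

namespace Groth.Agent.H0FBC.QfPairs

open Groth.Agent
open Groth.Agent.Hensel (Henz Nbhd)

instance isPrime_ker_algebraMap (B Ω : Type u) [CommRing B] [Field Ω] [Algebra B Ω] :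
    (RingHom.ker (algebraMap B Ω)).IsPrime :=
  RingHom.ker_isPrime _

variable {B S Ω : Type u} [CommRing B] [CommRing S] [Field Ω] [IsAlgClosed Ω] [Algebra B S] [Algebra S Ω]
  [Algebra B Ω] [IsScalarTower B S Ω]

/-- the universal neighbourhood is a strict henselization of the local ring at its point -/
theorem strictHens_prime (B Ω : Type u) [CommRing B] [Field Ω] [IsAlgClosed Ω] [Algebra B Ω] :
    ∃ (_ : Algebra (Localization.AtPrime (RingHom.ker (algebraMap B Ω))) (Henz B Ω))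
      (_ : IsScalarTower B (Localization.AtPrime (RingHom.ker (algebraMap B Ω))) (Henz B Ω))
      (_ : IsLocalRing (Henz B Ω))
      (_ : IsLocalHom (algebraMap (Localization.AtPrime (RingHom.ker (algebraMap B Ω))) (Henz B Ω))),
      _root_.Hensel.IsStrictHenselization (Localization.AtPrime (RingHom.ker (algebraMap B Ω))) (Henz B Ω) := by
  let p := RingHom.ker (algebraMap B Ω)
  let D := Localization.AtPrime p
  have hu : ∀ s : p.primeCompl, IsUnit (algebraMap B Ω s) := fun s => isUnit_iff_ne_zero.2 fun h0 => s.2 h0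
  letI : Algebra D Ω := (IsLocalization.lift (M := p.primeCompl) (S := D) hu).toAlgebra
  haveI : IsScalarTower B D Ω := .of_algebraMap_eq fun x => (IsLocalization.lift_eq (S := D) hu x).symm
  haveI : IsLocalHom (algebraMap D Ω) := ⟨fun d hd => by
    obtain ⟨x, s, rfl⟩ := IsLocalization.exists_mk'_eq p.primeCompl d
    refine (IsLocalization.AtPrime.isUnit_mk'_iff D p x s).2 fun hx => ?_
    have e := congrArg (algebraMap D Ω) (IsLocalization.mk'_spec D x s)
    rw [map_mul, ← IsScalarTower.algebraMap_apply, ← IsScalarTower.algebraMap_apply,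
      show algebraMap B Ω x = 0 from hx, mul_eq_zero] at e
    exact (hd.ne_zero (e.resolve_right (hu s).ne_zero))⟩
  let a := AlgSpDec.EtHenz.fromLocal B D Ω p.primeCompl
  letI : Algebra D (Henz B Ω) := a.toRingHom.toAlgebra
  obtain ⟨hl, hs⟩ := AlgSpDec.EtHenz.isStrictHenselization B D Ω p.primeCompl
  exact ⟨inferInstance, .of_algebraMap_eq fun x => (a.commutes x).symm, inferInstance, hl, hs⟩

variable [Algebra.FiniteType B S] [Algebra.QuasiFinite B S] {ψ : Henz B Ω →+* Henz S Ω}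
  (hψ₁ : ψ.comp (algebraMap B (Henz B Ω)) = (algebraMap S (Henz S Ω)).comp (algebraMap B S))
  (hψ₂ : ∀ z, Henz.proj S Ω (ψ z) = Henz.proj B Ω z)

include hψ₁ hψ₂

/-- along a quasi-finite algebra, points of the universal neighbourhood in a field are determined below,
up to specialization -/
theorem exists_spec_pair {K : Type u} [Field K] (h₁ h₂ : Henz S Ω →+* K) (h12 : h₁.comp ψ = h₂.comp ψ) :
    ∃ (T L : Type u) (_ : CommRing T) (_ : Field L) (i₁ i₂ : Henz S Ω →+* T) (Θ : T →+* K) (π : T →+* L),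
      Θ.comp i₁ = h₁ ∧ Θ.comp i₂ = h₂ ∧ i₁.comp ψ = i₂.comp ψ ∧ π.comp i₁ = π.comp i₂ ∧
        ∀ t, Θ t = 0 → π t = 0 := by
  obtain ⟨_, _, _, _, _⟩ := strictHens_prime B Ω
  obtain ⟨_, _, _, _, _⟩ := strictHens_prime S Ω
  letI : Algebra B (Henz S Ω) := ((algebraMap S (Henz S Ω)).comp (algebraMap B S)).toAlgebra
  haveI : IsScalarTower B S (Henz S Ω) := .of_algebraMap_eq fun _ => rfl
  letI : Algebra (Henz B Ω) (Henz S Ω) := ψ.toAlgebra
  haveI : IsScalarTower B (Henz B Ω) (Henz S Ω) := .of_algebraMap_eq fun x => (congr($hψ₁ x)).symm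
  haveI : IsLocalHom (algebraMap (Henz B Ω) (Henz S Ω)) := isLocalHom_henzMap hψ₁ hψ₂
  haveI : (RingHom.ker (algebraMap S Ω)).LiesOver (RingHom.ker (algebraMap B Ω)) := ⟨by
    rw [Ideal.under_def, RingHom.comap_ker, ← IsScalarTower.algebraMap_eq]⟩
  haveI : Module.Finite (Henz B Ω) (Henz S Ω) :=
    Hensel.finite_strict B S (RingHom.ker (algebraMap B Ω)) (RingHom.ker (algebraMap S Ω)) (Henz B Ω) (Henz S Ω)
  haveI : Algebra.IsIntegral (Henz B Ω) (Henz S Ω) := Algebra.IsIntegral.of_finite _ _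
  haveI := Hensel.isPurelyInseparable_strict B S (RingHom.ker (algebraMap B Ω)) (RingHom.ker (algebraMap S Ω))
    (Henz B Ω) (Henz S Ω)
  let RY := Henz B Ω
  let RX := Henz S Ω
  let i₁ : RX →+* RX ⊗[RY] RX := Algebra.TensorProduct.includeLeftRingHom
  let i₂ : RX →+* RX ⊗[RY] RX := (Algebra.TensorProduct.includeRight : RX →ₐ[RY] RX ⊗[RY] RX).toRingHom
  have hi : i₁.comp ψ = i₂.comp ψ := RingHom.ext fun x =>
    (Algebra.TensorProduct.algebraMap_apply x).symm.trans (Algebra.TensorProduct.algebraMap_apply' x)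
  let Θ : RX ⊗[RY] RX →+* K := OverField.tlift (R := RY) (A := RX) (B := RX) (C := K) h₁ h₂ h12
  obtain ⟨m, hm, hle⟩ := Ideal.exists_le_maximal (RingHom.ker Θ) (RingHom.ker_ne_top Θ)
  letI : Field ((RX ⊗[RY] RX) ⧸ m) := Ideal.Quotient.field m
  let π := Ideal.Quotient.mk m
  haveI : Algebra.IsIntegral RY (RX ⊗[RY] RX) := Algebra.IsIntegral.trans RX
  haveI : Algebra.IsIntegral RY ((RX ⊗[RY] RX) ⧸ m) :=
    Algebra.IsIntegral.of_surjective (Ideal.Quotient.mkₐ RY m) Ideal.Quotient.mk_surjective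
  have hmax : ∀ g : RX →+* (RX ⊗[RY] RX) ⧸ m, g.comp ψ = (π.comp i₁).comp ψ →
      ∀ x ∈ maximalIdeal RX, g x = 0 := by
    intro g hg x hx
    haveI : (RingHom.ker g).IsPrime := RingHom.ker_isPrime g
    have h0 : (RingHom.ker g).comap (algebraMap RY RX) = RingHom.ker (algebraMap RY ((RX ⊗[RY] RX) ⧸ m)) := by
      rw [RingHom.comap_ker]
      exact congrArg RingHom.ker (hg.trans (RingHom.ext fun r => congrArg π (Algebra.TensorProduct.algebraMap_apply r).symm))
    have hy : ((RingHom.ker g).comap (algebraMap RY RX)).IsMaximal := by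
      rw [h0]
      haveI : (⊥ : Ideal ((RX ⊗[RY] RX) ⧸ m)).IsMaximal := Ideal.bot_isMaximal
      exact Ideal.isMaximal_comap_of_isIntegral_of_isMaximal (⊥ : Ideal ((RX ⊗[RY] RX) ⧸ m))
    have := IsLocalRing.eq_maximalIdeal (Ideal.isMaximal_of_isIntegral_of_isMaximal_comap _ hy)
    exact RingHom.mem_ker.1 (this ▸ hx)
  let g₁ : ResidueField RX →+* (RX ⊗[RY] RX) ⧸ m :=
    Ideal.Quotient.lift (maximalIdeal RX) (π.comp i₁) (hmax _ rfl)
  let g₂ : ResidueField RX →+* (RX ⊗[RY] RX) ⧸ m :=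
    Ideal.Quotient.lift (maximalIdeal RX) (π.comp i₂) (hmax _ (by rw [RingHom.comp_assoc, ← hi, RingHom.comp_assoc]))
  have hg : g₁ = g₂ := by
    refine IsPurelyInseparable.injective_comp_algebraMap (ResidueField RY) (ResidueField RX)
      ((RX ⊗[RY] RX) ⧸ m) (RingHom.ext fun z => ?_)
    obtain ⟨r, rfl⟩ := residue_surjective z
    exact congrArg π congr($hi r)
  refine ⟨RX ⊗[RY] RX, (RX ⊗[RY] RX) ⧸ m, inferInstance, inferInstance, i₁, i₂, Θ, π,
    RingHom.ext fun x => (OverField.tlift_tmul _ _ h12 x 1).trans (by rw [map_one, mul_one]),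
    RingHom.ext fun x => (OverField.tlift_tmul _ _ h12 1 x).trans (by rw [map_one, one_mul]), hi,
    RingHom.ext fun x => congr($hg (residue RX x)), fun t ht => Ideal.Quotient.eq_zero_iff_mem.2 (hle ht)⟩

end Groth.Agent.H0FBC.QfPairs

open TensorProduct in
/-- a point of a faithfully flat quasi-finite algebra over a geometric point -/
theorem Groth.Agent.H0FBC.QfPairs.exists_point (B S Ω : Type u) [CommRing B] [CommRing S] [Field Ω] [IsAlgClosed Ω]
    [Algebra B S] [Algebra B Ω] [Algebra.QuasiFinite B S] [Module.FaithfullyFlat B S] :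
    Nonempty (S →ₐ[B] Ω) := by
  haveI : Module.Finite Ω (Ω ⊗[B] S) := Algebra.QuasiFinite.iff_of_isArtinianRing.1 inferInstance
  haveI : Nontrivial (Ω ⊗[B] S) := Module.FaithfullyFlat.rTensor_nontrivial B S Ω
  obtain ⟨m, hm⟩ := Ideal.exists_maximal (Ω ⊗[B] S)
  letI : Field ((Ω ⊗[B] S) ⧸ m) := Ideal.Quotient.field m
  let e : Ω ≃ₐ[Ω] (Ω ⊗[B] S) ⧸ m := AlgEquiv.ofBijective (Algebra.ofId Ω _) IsAlgClosed.algebraMap_bijective_of_isIntegral
  exact ⟨((e.symm.toAlgHom.comp (Ideal.Quotient.mkₐ Ω m)).restrictScalars B).comp Algebra.TensorProduct.includeRight⟩
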