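import Groth.Agent.H0FBC.StageConn
import Groth.Agent.H0FBC.QfPairs
import Groth.Agent.S9432
import Mathlib.AlgebraicGeometry.Morphisms.Flat
import Mathlib.AlgebraicGeometry.Morphisms.UniversallyOpen

/-!
# Flat locally finitely presented surjections have stages
-/

set_option autoImplicit false
set_option linter.style.haveILetI false
set_option linter.unusedSectionVars false
set_option backward.isDefEq.respectTransparency false
set_option backward.isDefEq.respectTransparency.types false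
universe u

open CategoryTheory CategoryTheory.Limits AlgebraicGeometry TopologicalSpace Opposite
open scoped TensorProduct

attribute [-instance] CategoryTheory.catToReflQuiver

namespace Groth.Agent.H0FBC

open H0PBC Groth.Agent.BigSiteLib DescSec
open Groth.Agent.Hensel (Henz Nbhd)

variable {X' X : Scheme.{u}} (f : X' ⟶ X)

/-- the points of the base lie below quasi-finite flat slices -/
theorem exists_qf_slice [Flat f] [LocallyOfFinitePresentation f] (x : X') :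
    ∃ (B S : Type u) (_ : CommRing B) (_ : CommRing S) (_ : Algebra B S) (iB : Spec (CommRingCat.of B) ⟶ X)
      (g : Spec (CommRingCat.of S) ⟶ X'),
      IsOpenImmersion iB ∧ f x ∈ Set.range iB ∧ Algebra.QuasiFinite B S ∧ Module.FaithfullyFlat B S ∧
        Algebra.FinitePresentation B S ∧ g ≫ f = Spec.map (CommRingCat.ofHom (algebraMap B S)) ≫ iB := by
  obtain ⟨V₀, hV₀, hxV, -⟩ := Opens.isBasis_iff_nbhd.mp X.isBasis_affineOpens (Opens.mem_top (f x))
  let V : X.Opens := V₀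
  change IsAffineOpen V at hV₀
  obtain ⟨W', hW', hxW, hle'⟩ := Opens.isBasis_iff_nbhd.mp X'.isBasis_affineOpens (show x ∈ f ⁻¹ᵁ V from hxV)
  let W : X'.Opens := W'
  change IsAffineOpen W at hW'
  have hle : W ≤ f ⁻¹ᵁ V := hle'
  let O : X.Opens := ⟨f '' W, (Scheme.Hom.isOpenMap f) _ W.2⟩
  obtain ⟨r, hxr, hr⟩ := hV₀.exists_basicOpen_le (V := O) (⟨f x, x, hxW, rfl⟩ : O) hxV
  let D := X.basicOpen r
  let W₁ := X'.basicOpen (f.appLE V W hle r)
  have hD : IsAffineOpen D := hV₀.basicOpen r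
  have hW₁ : IsAffineOpen W₁ := hW'.basicOpen _
  have hW₁eq : W₁ = W ⊓ f ⁻¹ᵁ D := Scheme.basicOpen_appLE f W V hle r
  have hle₁ : W₁ ≤ f ⁻¹ᵁ D := hW₁eq.le.trans inf_le_right
  let φA := f.appLE D W₁ hle₁
  letI : Algebra Γ(X, D) Γ(X', W₁) := φA.hom.toAlgebra
  haveI : Module.Flat Γ(X, D) Γ(X', W₁) :=
    HasRingHomProperty.appLE (P := @AlgebraicGeometry.Flat) f ‹_› ⟨D, hD⟩ ⟨W₁, hW₁⟩ hle₁
  haveI : Algebra.FinitePresentation Γ(X, D) Γ(X', W₁) :=
    HasRingHomProperty.appLE (P := @LocallyOfFinitePresentation) f ‹_› ⟨D, hD⟩ ⟨W₁, hW₁⟩ hle₁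
  have hsq := hD.SpecMap_appLE_fromSpec f hW₁ hle₁
  haveI : Module.FaithfullyFlat Γ(X, D) Γ(X', W₁) := Module.FaithfullyFlat.of_comap_surjective fun p => by
    obtain ⟨z, hzW, hz⟩ : hD.fromSpec p ∈ O := hxr (hD.range_fromSpec.le ⟨p, rfl⟩)
    have hz₁ : z ∈ W₁ := by
      rw [hW₁eq]
      exact ⟨hzW, show f z ∈ D from hz ▸ hD.range_fromSpec.le ⟨p, rfl⟩⟩
    obtain ⟨q, hq⟩ := hW₁.range_fromSpec.ge hz₁
    refine ⟨q, hD.fromSpec.isOpenEmbedding.injective ?_⟩
    show hD.fromSpec (Spec.map φA q) = _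
    rw [← Scheme.Hom.comp_apply, hsq, Scheme.Hom.comp_apply, hq, hz]
  obtain ⟨S, _, _, hqf, -, hff, hfp, ⟨χ⟩⟩ := Groth.Agent.S9432.result Γ(X, D) Γ(X', W₁)
  refine ⟨Γ(X, D), S, inferInstance, inferInstance, inferInstance, hD.fromSpec,
    Spec.map (CommRingCat.ofHom χ.toRingHom) ≫ hW₁.fromSpec, inferInstance, ?_, hqf, hff, hfp, ?_⟩
  · exact hD.range_fromSpec.ge hr
  · rw [Category.assoc, ← hsq, ← Category.assoc, ← Spec.map_comp]
    congr 2
    exact CommRingCat.hom_ext χ.comp_algebraMap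

variable {f} {F' : EtDesc.Sh X'}
  {φ : (EtDesc.pullSh (pullback.fst f f)).obj F' ≅ (EtDesc.pullSh (pullback.snd f f)).obj F'}

/-- flat morphisms locally of finite presentation have stages -/
theorem hasStages_of_flat [Flat f] [LocallyOfFinitePresentation f] (hφ : EtDesc.IsCocycle F' φ) : HasStages f φ := by
  intro Ω _ _ W₀ t₀ w₀
  let η := (w₀ ≫ W₀.hom) ≫ f
  obtain ⟨B, S, _, _, _, iB, g, _, hyB, _, _, _, hgf⟩ := exists_qf_slice f ((w₀ ≫ W₀.hom) default)
  obtain ⟨τB, hτB⟩ := Spec.map_surjective (IsOpenImmersion.lift iB η (by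
    rintro _ ⟨q, rfl⟩
    rw [Subsingleton.elim q default, Scheme.Hom.comp_apply]
    exact hyB))
  have hτ : Spec.map τB ≫ iB = η := by rw [hτB, IsOpenImmersion.lift_fac]
  letI : Algebra B Ω := τB.hom.toAlgebra
  obtain ⟨σ⟩ := QfPairs.exists_point B S Ω
  letI : Algebra S Ω := σ.toRingHom.toAlgebra
  haveI : IsScalarTower B S Ω := .of_algebraMap_eq fun x => (σ.commutes x).symm
  let ξ₁ := Spec.map (CommRingCat.ofHom σ.toRingHom) ≫ g
  have hξ₁ : (w₀ ≫ W₀.hom) ≫ f = ξ₁ ≫ f := by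
    rw [Category.assoc _ g, hgf, ← Category.assoc _ _ iB, ← Spec.map_comp,
      show CommRingCat.ofHom (algebraMap B S) ≫ CommRingCat.ofHom σ.toRingHom = τB from
        CommRingCat.hom_ext (RingHom.ext σ.commutes)]
    exact hτ.symm
  obtain ⟨U₁, t, a₁, ha₁, hA₁⟩ := exists_agree (φ := φ) t₀ w₀ ξ₁ hξ₁
  let P := (EtCoh.bc g).obj U₁
  let c : Spec (CommRingCat.of Ω) ⟶ P.left := pullback.lift a₁ (Spec.map (CommRingCat.ofHom σ.toRingHom)) ha₁
  obtain ⟨M₀, k₀, hk₀⟩ := exists_stage_nbhd (𝟙 (Spec (CommRingCat.of S))) P c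
    ((pullback.lift_snd _ _ _).trans (Category.comp_id _).symm)
  obtain ⟨k₁, hk₁a, hk₁⟩ : ∃ k₁ : Spec (CommRingCat.of M₀.B) ⟶ U₁.left,
      nbhdPt M₀ ≫ k₁ = a₁ ∧ k₁ ≫ U₁.hom = Spec.map (CommRingCat.ofHom (algebraMap S M₀.B)) ≫ g := by
    refine ⟨k₀.left ≫ pullback.fst U₁.hom g, ?_, ?_⟩
    · rw [← Category.assoc, hk₀]
      exact pullback.lift_fst _ _ _
    · refine (Category.assoc _ _ _).trans ((congrArg (k₀.left ≫ ·) pullback.condition).trans
        ((Category.assoc _ _ _).symm.trans ?_))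
      exact congrArg (· ≫ g) ((MorphismProperty.Over.w k₀).trans (Category.comp_id _))
  letI : ∀ M : Nbhd S Ω, Algebra B M.B := fun M => ((algebraMap S M.B).comp (algebraMap B S)).toAlgebra
  haveI : ∀ M : Nbhd S Ω, IsScalarTower B S M.B := fun M => .of_algebraMap_eq fun _ => rfl
  letI : Algebra B (Henz S Ω) := ((algebraMap S (Henz S Ω)).comp (algebraMap B S)).toAlgebra
  haveI : IsScalarTower B S (Henz S Ω) := .of_algebraMap_eq fun _ => rfl
  obtain ⟨ψ, hψ₁, hψ₂⟩ := exists_henzMap B S Ω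
  let ψ' : Henz B Ω →ₐ[B] Henz S Ω := { ψ with commutes' := fun x => congr($hψ₁ x) }
  let incL : M₀.B →+* M₀.B ⊗[B] M₀.B := Algebra.TensorProduct.includeLeftRingHom
  let incR : M₀.B →+* M₀.B ⊗[B] M₀.B :=
    (Algebra.TensorProduct.includeRight : M₀.B →ₐ[B] M₀.B ⊗[B] M₀.B).toRingHom
  have hk₁f : k₁ ≫ U₁.hom ≫ f = Spec.map (CommRingCat.ofHom (algebraMap B M₀.B)) ≫ iB := by
    rw [← Category.assoc, hk₁, Category.assoc, hgf, ← Category.assoc, ← Spec.map_comp]
    rfl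
  let m₀ : Spec (CommRingCat.of (M₀.B ⊗[B] M₀.B)) ⟶ dObj f U₁ U₁ :=
    pullback.lift (Spec.map (CommRingCat.ofHom incL) ≫ k₁) (Spec.map (CommRingCat.ofHom incR) ≫ k₁) (by
      rw [Category.assoc, Category.assoc, hk₁f, ← Category.assoc, ← Category.assoc, ← Spec.map_comp, ← Spec.map_comp,
        ← CommRingCat.ofHom_comp, ← CommRingCat.ofHom_comp]
      congr 3
      exact RingHom.ext fun x => (Algebra.TensorProduct.algebraMap_apply x).symm.trans
        (Algebra.TensorProduct.algebraMap_apply' x))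
  let C : Set (PrimeSpectrum (M₀.B ⊗[B] M₀.B)) := (m₀ ⁻¹' agreeSet f φ t t)ᶜ
  have hC : IsClosed C := ((isOpen_agreeSet f φ t t).preimage m₀.continuous).isClosed_compl
  let I := PrimeSpectrum.vanishingIdeal C
  have hI : PrimeSpectrum.zeroLocus (I : Set (M₀.B ⊗[B] M₀.B)) = C := by
    rw [PrimeSpectrum.zeroLocus_vanishingIdeal_eq_closure, hC.closure_eq]
  have hlift : ∀ (K : Type u) [Field K] (θ : M₀.B ⊗[B] M₀.B →+* K) (a b : M₀.B →+* K),
      (∀ x, θ (x ⊗ₜ 1) = a x) → (∀ x, θ (1 ⊗ₜ x) = b x) →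
      (Agree f φ t t (Spec.map (CommRingCat.ofHom a) ≫ k₁) (Spec.map (CommRingCat.ofHom b) ≫ k₁) ↔
        ∃ x ∈ I, θ x ≠ 0) := by
    intro K _ θ a b ha hb
    have e := agree_iff_mem (σ := t) (τ := t) (f := f) (φ := φ) (Spec.map (CommRingCat.ofHom θ) ≫ m₀)
    rw [Category.assoc, pullback.lift_fst, Category.assoc, pullback.lift_snd, ← Category.assoc, ← Category.assoc,
      ← Spec.map_comp, ← Spec.map_comp, ← CommRingCat.ofHom_comp, ← CommRingCat.ofHom_comp,
      show θ.comp incL = a from RingHom.ext ha, show θ.comp incR = b from RingHom.ext hb,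
      Scheme.Hom.comp_apply] at e
    refine e.trans ?_
    let o : PrimeSpectrum K := (⟨⊥, Ideal.isPrime_bot⟩ : PrimeSpectrum K)
    let q : PrimeSpectrum (M₀.B ⊗[B] M₀.B) := PrimeSpectrum.comap θ o
    have hqθ : Spec.map (CommRingCat.ofHom θ) default = q := by
      rw [Subsingleton.elim (default : ↥(Spec (CommRingCat.of K))) o]
      rfl
    have hq : ∀ x, x ∈ q.asIdeal ↔ θ x = 0 := fun x => Ideal.mem_bot
    rw [hqθ]
    show q ∈ (m₀ ⁻¹' agreeSet f φ t t) ↔ _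
    rw [← Set.notMem_compl_iff, show (m₀ ⁻¹' agreeSet f φ t t)ᶜ = C from rfl, ← hI, PrimeSpectrum.mem_zeroLocus,
      Set.not_subset]
    exact exists_congr fun x => and_congr Iff.rfl (not_congr (hq x))
  have hstage : ∀ (K : Type u) [Field K] (h₁ h₂ : Henz S Ω →+* K),
      h₁.comp ψ'.toRingHom = h₂.comp ψ'.toRingHom →
      ∀ θ : M₀.B ⊗[B] M₀.B →+* K, (∀ a, θ (a ⊗ₜ 1) = h₁ (Henz.ofB M₀ a)) →
        (∀ a, θ (1 ⊗ₜ a) = h₂ (Henz.ofB M₀ a)) → ∃ x ∈ I, θ x ≠ 0 := by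
    intro K _ h₁ h₂ h12 θ hθ₁ hθ₂
    obtain ⟨T, L, _, _, i₁, i₂, Θ, π, rfl, rfl, hi, hπ, hker⟩ := QfPairs.exists_spec_pair hψ₁ hψ₂ h₁ h₂ h12
    let ν : M₀.B ⊗[B] M₀.B →+* T := OverField.tlift (R := B) (A := M₀.B) (B := M₀.B) (C := T)
      (i₁.comp (Henz.ofB M₀).toRingHom) (i₂.comp (Henz.ofB M₀).toRingHom) (RingHom.ext fun x => by
        show i₁ (Henz.ofB M₀ (algebraMap S M₀.B (algebraMap B S x))) = i₂ (Henz.ofB M₀ (algebraMap S M₀.B (algebraMap B S x)))
        rw [(Henz.ofB M₀).commutes, show algebraMap S (Henz S Ω) (algebraMap B S x) = ψ (algebraMap B (Henz B Ω) x) from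
          (congr($hψ₁ x)).symm]
        exact congr($hi _))
    have hν₁ : ∀ x, ν (x ⊗ₜ 1) = i₁ (Henz.ofB M₀ x) := fun x =>
      (OverField.tlift_tmul _ _ _ x 1).trans (by rw [map_one, mul_one]; rfl)
    have hν₂ : ∀ x, ν (1 ⊗ₜ x) = i₂ (Henz.ofB M₀ x) := fun x =>
      (OverField.tlift_tmul _ _ _ 1 x).trans (by rw [map_one, one_mul]; rfl)
    let ι : L →+* AlgebraicClosure L := algebraMap L (AlgebraicClosure L)
    obtain ⟨x, hx, hx0⟩ := (hlift (AlgebraicClosure L) ((ι.comp π).comp ν)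
      ((ι.comp (π.comp i₁)).comp (Henz.ofB M₀).toRingHom) ((ι.comp (π.comp i₂)).comp (Henz.ofB M₀).toRingHom)
      (fun a => congrArg (ι.comp π) (hν₁ a)) (fun a => congrArg (ι.comp π) (hν₂ a))).1
      (by rw [hπ]; exact Agree.refl hφ t _)
    have hθ : θ = Θ.comp ν := Algebra.TensorProduct.ringHom_ext (R := B) (A := M₀.B) (B := M₀.B)
      (RingHom.ext fun a => (hθ₁ a).trans (congrArg Θ (hν₁ a)).symm)
      (RingHom.ext fun a => (hθ₂ a).trans (congrArg Θ (hν₂ a)).symm)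
    refine ⟨x, hx, fun h0 => hx0 ?_⟩
    rw [hθ] at h0
    exact (congrArg ι (hker _ h0)).trans (map_zero ι)
  obtain ⟨M, χ, N, α, hα, hcompat⟩ := Square.exists_stage_pairs (gX := fun M : Nbhd S Ω => Henz.ofB M)
    (EtFound.isColim_henz B Ω) (EtFound.isColim_henz S Ω) ψ' M₀ I hstage
  let j : Spec (CommRingCat.of M.B) ⟶ U₁.left := Spec.map (CommRingCat.ofHom χ.1.toRingHom) ≫ k₁
  let β : Spec (CommRingCat.of M.B) ⟶ (stageEt iB N.B).left := Spec.map (CommRingCat.ofHom α.toRingHom)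
  have hj : j ≫ U₁.hom ≫ f = Spec.map (CommRingCat.ofHom (algebraMap B M.B)) ≫ iB := by
    rw [Category.assoc, hk₁f, ← Category.assoc, ← Spec.map_comp, ← CommRingCat.ofHom_comp]
    congr 3
    exact RingHom.ext fun x => χ.1.commutes _
  have hβ : β ≫ (stageEt iB N.B).hom = Spec.map (CommRingCat.ofHom (algebraMap B M.B)) ≫ iB := by
    show Spec.map _ ≫ Spec.map _ ≫ iB = _
    rw [← Category.assoc, ← Spec.map_comp, ← CommRingCat.ofHom_comp]
    congr 3
    exact α.comp_algebraMap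
  haveI : Flat (g ≫ f) := by
    rw [hgf]
    haveI : Flat (Spec.map (CommRingCat.ofHom (algebraMap B S))) :=
      (HasRingHomProperty.Spec_iff (P := @Flat)).2 (RingHom.flat_algebraMap_iff.2 inferInstance)
    infer_instance
  haveI : LocallyOfFinitePresentation (g ≫ f) := by
    rw [hgf]
    haveI : LocallyOfFinitePresentation (Spec.map (CommRingCat.ofHom (algebraMap B S))) :=
      (HasRingHomProperty.Spec_iff (P := @LocallyOfFinitePresentation)).2
        (RingHom.finitePresentation_algebraMap.2 inferInstance)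
    infer_instance
  let e : stageEt (𝟙 (Spec (CommRingCat.of S))) M.B ⟶ (EtCoh.bc (g ≫ f)).obj (stageEt iB N.B) :=
    MorphismProperty.Over.homMk (pullback.lift β (stageEt (𝟙 (Spec (CommRingCat.of S))) M.B).hom (by
      rw [hβ]
      show _ = (Spec.map (CommRingCat.ofHom (algebraMap S M.B)) ≫ 𝟙 _) ≫ g ≫ f
      rw [Category.comp_id, hgf, ← Category.assoc, ← Spec.map_comp]
      rfl)) (pullback.lift_snd _ _ _) trivial
  haveI : AlgebraicGeometry.Etale e.left := EtFound.etale_left e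
  haveI hopen : UniversallyOpen (e.left ≫ pullback.fst (stageEt iB N.B).hom (g ≫ f)) := inferInstance
  refine ⟨U₁, t, Spec (CommRingCat.of M.B), j, stageEt iB N.B, β, nbhdPt M, hβ.trans hj.symm, ?_, ?_,
    fun Ω' _ _ a b hab => ?_⟩
  · rw [show nbhdPt M ≫ j = a₁ from by
      rw [← hk₁a, ← Category.assoc]
      exact congrArg (· ≫ k₁) (nbhdPt_comp (𝟙 (Spec (CommRingCat.of S))) χ.1 (trans_toK χ))]
    exact hA₁
  · rwa [show e.left ≫ pullback.fst (stageEt iB N.B).hom (g ≫ f) = β from pullback.lift_fst _ _ _] at hopen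
  · obtain ⟨a₁, rfl⟩ := Spec.map_surjective a
    obtain ⟨b₁, rfl⟩ := Spec.map_surjective b
    have e : a₁.hom.comp α.toRingHom = b₁.hom.comp α.toRingHom := by
      have : Spec.map (CommRingCat.ofHom α.toRingHom ≫ a₁) = Spec.map (CommRingCat.ofHom α.toRingHom ≫ b₁) := by
        rw [Spec.map_comp, Spec.map_comp]
        exact hab
      exact congrArg CommRingCat.Hom.hom (Spec.map_injective this)
    have eB : (a₁.hom.comp χ.1.toRingHom).comp (algebraMap B M₀.B) =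
        (b₁.hom.comp χ.1.toRingHom).comp (algebraMap B M₀.B) := RingHom.ext fun x => by
      show a₁.hom (χ.1 (algebraMap B M₀.B x)) = b₁.hom (χ.1 (algebraMap B M₀.B x))
      rw [show χ.1 (algebraMap B M₀.B x) = α (algebraMap B N.B x) from
        (χ.1.commutes (algebraMap B S x)).trans (α.commutes x).symm]
      exact congr($e (algebraMap B N.B x))
    let θ : M₀.B ⊗[B] M₀.B →+* Ω' :=
      OverField.tlift (R := B) (A := M₀.B) (B := M₀.B) (C := Ω') (a₁.hom.comp χ.1.toRingHom)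
        (b₁.hom.comp χ.1.toRingHom) eB
    have hθ₁ : ∀ x, θ (x ⊗ₜ 1) = a₁.hom (χ.1 x) := fun x =>
      (OverField.tlift_tmul _ _ eB x 1).trans (by rw [map_one, mul_one]; rfl)
    have hθ₂ : ∀ x, θ (1 ⊗ₜ x) = b₁.hom (χ.1 x) := fun x =>
      (OverField.tlift_tmul _ _ eB 1 x).trans (by rw [map_one, one_mul]; rfl)
    have hA := (hlift Ω' θ (a₁.hom.comp χ.1.toRingHom) (b₁.hom.comp χ.1.toRingHom) hθ₁ hθ₂).2
      (hcompat Ω' a₁.hom b₁.hom e θ hθ₁ hθ₂)
    rw [← Category.assoc, ← Category.assoc, ← Spec.map_comp, ← Spec.map_comp]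
    exact hA

end Groth.Agent.H0FBC
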