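import Groth.Agent.H0FBC.GeomRed
import Groth.Agent.GrpSchLib.IsogenyFibre

/-!
# The covering hypothesis of flat base change for geometrically reduced fibres
-/

set_option autoImplicit false
set_option linter.style.haveILetI false
set_option linter.unusedSectionVars false
set_option backward.isDefEq.respectTransparency false
set_option backward.isDefEq.respectTransparency.types false
universe u

open CategoryTheory CategoryTheory.Limits AlgebraicGeometry TopologicalSpace

namespace Groth.Agent.H0FBC

theorem isPullback_cancel_mono {P Q S : Scheme.{u}} (g : P ⟶ Q) (i : Q ⟶ S) [Mono i] :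
    IsPullback (𝟙 P) g (g ≫ i) i := by
  have h := ((IsPullback.of_vert_isIso (fst := g) (snd := 𝟙 P) (f := 𝟙 Q) (g := g)
    ⟨(Category.comp_id g).trans (Category.id_comp g).symm⟩).paste_horiz (IsKernelPair.id_of_mono i)).flip
  simpa only [Category.comp_id] using h

/-- geometric reducedness from the reducedness of all fibres over fields -/
theorem geometricallyReduced_of_forall {X S : Scheme.{u}} (f : X ⟶ S)
    (hred : ∀ (s : S) (K : Type u) [Field K] (k : Spec (CommRingCat.of K) ⟶ S),
      Set.range k = {s} → IsReduced (pullback f k)) : GeometricallyReduced f := by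
  refine ⟨fun K _ y Z f₁ f₂ hZ => ?_⟩
  haveI : IsReduced (pullback f y) := hred (y default) K y (by
    ext t
    exact ⟨fun ⟨u, hu⟩ => by
      rw [← hu, @Subsingleton.elim _ (inferInstanceAs (Subsingleton (PrimeSpectrum K))) u default]; rfl,
      fun ht => ⟨default, ht.symm⟩⟩)
  exact isReduced_of_isOpenImmersion hZ.isoPullback.hom

/-- the covering condition for base change along flat morphisms with geometrically reduced fibres -/
theorem exists_factorization {X S : Scheme.{u}} (f : X ⟶ S) [Flat f] [LocallyOfFinitePresentation f]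
    [GeometricallyReduced f] (U : X.Etale) (x : U.left) :
    ∃ (U' : X.Etale) (m : U' ⟶ U) (y : U'.left) (V : S.Etale)
      (a : U'.left ⟶ V.left), m.left y = x ∧ a ≫ V.hom = U'.hom ≫ f ∧
        (QuasiCompact a ∨ UniversallyOpen a) ∧ GeometricallyConnected a := by
  haveI : AlgebraicGeometry.Etale U.hom := U.prop
  let h : U.left ⟶ S := U.hom ≫ f
  obtain ⟨Q, hQ, hxQ, -⟩ := exists_isAffineOpen_mem_and_subset (x := h x) (U := (⊤ : S.Opens)) trivial
  obtain ⟨P, hP, hxP, hPQ⟩ := exists_isAffineOpen_mem_and_subset (x := x) (U := h ⁻¹ᵁ Q) hxQ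
  haveI : IsAffine (Q : Scheme.{u}) := hQ
  haveI : IsAffine (P : Scheme.{u}) := hP
  let g : (P : Scheme.{u}) ⟶ Q := h.resLE Q P hPQ
  have hg : g ≫ Q.ι = (P.ι ≫ U.hom) ≫ f := (h.resLE_comp_ι hPQ).trans (Category.assoc _ _ _).symm
  have sq := isPullback_cancel_mono g Q.ι
  rw [hg] at sq
  haveI : GeometricallyReduced ((P.ι ≫ U.hom) ≫ f) := geometricallyReduced_etale_comp (P.ι ≫ U.hom) f
  haveI : GeometricallyReduced g := MorphismProperty.of_isPullback sq inferInstance
  haveI : Flat g := MorphismProperty.of_isPullback sq inferInstance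
  haveI : LocallyOfFinitePresentation g := MorphismProperty.of_isPullback sq inferInstance
  obtain ⟨V, U', v, m, a, y, hv, hm, hy, hav, hao, hac⟩ := exists_geomConnected_nhd g ⟨x, hxP⟩
  haveI := hv
  haveI := hm
  let U'' : X.Etale := Scheme.Etale.mk (m ≫ P.ι ≫ U.hom)
  let V'' : S.Etale := Scheme.Etale.mk (v ≫ Q.ι)
  refine ⟨U'', MorphismProperty.Over.homMk (m ≫ P.ι) (Category.assoc _ _ _), y, V'', a, ?_, ?_, .inr hao, hac⟩
  · show (m ≫ P.ι) y = x
    rw [Scheme.Hom.comp_apply, hy]
    rfl
  · show a ≫ v ≫ Q.ι = (m ≫ P.ι ≫ U.hom) ≫ f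
    rw [← Category.assoc a, hav, Category.assoc, hg, Category.assoc, Category.assoc]
    simp only [Category.assoc]

end Groth.Agent.H0FBC
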