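import Groth.Agent.H0PBC.Tensor
import Mathlib.AlgebraicGeometry.Morphisms.QuasiCompact

/-!
# Inclusions of opens descend along directed colimits of affine schemes
-/

set_option autoImplicit false
set_option linter.style.haveILetI false
set_option linter.unusedSectionVars false
set_option backward.isDefEq.respectTransparency false
set_option backward.isDefEq.respectTransparency.types false
universe u

open CategoryTheory CategoryTheory.Limits AlgebraicGeometry TopologicalSpace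
open scoped TensorProduct

namespace Groth.Agent.H0FBC

open H0PBC

variable {B : Type u} [CommRing B] {J : Type*} {G : J → Type u} [∀ i, CommRing (G i)] [∀ i, Algebra B (G i)]
  {R : Type u} [CommRing R] [Algebra B R] {gR : ∀ i, G i →ₐ[B] R}

/-- identity transition -/
def transId (i : J) : DirColim.Trans gR i i := ⟨AlgHom.id B (G i), AlgHom.comp_id _⟩

variable (C : Type u) [CommRing C] [Algebra B C]

/-- the base change of a homomorphism to `C` -/
noncomputable abbrev cmap {M M' : Type u} [CommRing M] [Algebra B M] [CommRing M'] [Algebra B M'] (g : M →ₐ[B] M') :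
    C ⊗[B] M →+* C ⊗[B] M' :=
  (Algebra.TensorProduct.map (AlgHom.id C C) g).toRingHom

theorem cmap_comp {M M' M'' : Type u} [CommRing M] [Algebra B M] [CommRing M'] [Algebra B M'] [CommRing M'']
    [Algebra B M''] (g : M →ₐ[B] M') (g' : M' →ₐ[B] M'') (x : C ⊗[B] M) :
    cmap C g' (cmap C g x) = cmap C (g'.comp g) x := by
  induction x using TensorProduct.induction_on with
  | zero => simp
  | tmul a b => simp
  | add a b ha hb => simp only [map_add, ha, hb]

theorem cmap_apply {M M' : Type u} [CommRing M] [Algebra B M] [CommRing M'] [Algebra B M'] (g : M →ₐ[B] M')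
    (x : C ⊗[B] M) : cmap C g x = g.toLinearMap.lTensor C x := by
  induction x using TensorProduct.induction_on with
  | zero => simp
  | tmul a b => simp
  | add a b ha hb => simp only [map_add, ha, hb]

theorem cmap_trans {i j : J} (φ : DirColim.Trans gR i j) (y : C ⊗[B] G i) :
    cmap C (gR j) (cmap C φ.1 y) = cmap C (gR i) y := by
  rw [cmap_comp, φ.2]

/-- an inclusion of opens in an affine piece descends to a stage -/
theorem exists_stage_ring (hG : DirColim.IsColim gR) (i : J) (x : C ⊗[B] G i) (O : Set (PrimeSpectrum (C ⊗[B] G i)))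
    (hO : IsOpen O)
    (h : ∀ q : PrimeSpectrum (C ⊗[B] R), cmap C (gR i) x ∉ q.asIdeal → PrimeSpectrum.comap (cmap C (gR i)) q ∈ O) :
    ∃ j, ∃ φ : DirColim.Trans gR i j, ∀ q : PrimeSpectrum (C ⊗[B] G j),
      cmap C φ.1 x ∉ q.asIdeal → PrimeSpectrum.comap (cmap C φ.1) q ∈ O := by
  obtain ⟨I, hI⟩ := (PrimeSpectrum.isClosed_iff_zeroLocus_ideal Oᶜ).1 hO.isClosed_compl
  have hmem : ∀ p : PrimeSpectrum (C ⊗[B] G i), p ∉ O ↔ I ≤ p.asIdeal := fun p =>
    (Set.ext_iff.1 hI p).trans (PrimeSpectrum.mem_zeroLocus p I)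
  have hrad : cmap C (gR i) x ∈ (I.map (cmap C (gR i))).radical := by
    rw [Ideal.radical_eq_sInf]
    refine Submodule.mem_sInf.2 fun P hP => by_contra fun hx => ?_
    exact (hmem _).2 (Ideal.map_le_iff_le_comap.1 hP.1) (h ⟨P, hP.2⟩ hx)
  obtain ⟨n, hn⟩ := hrad
  rw [Ideal.map] at hn
  obtain ⟨m, c, a, hca⟩ := Submodule.mem_span_set'.1 hn
  choose a₀ ha₀ hae using fun k => (a k).2
  obtain ⟨k, c', hc'⟩ := (hG.baseChange C).surj_fintype c
  obtain ⟨l, ⟨φ⟩, ⟨ψ⟩⟩ := hG.directed i k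
  let z : C ⊗[B] G l := cmap C φ.1 x ^ n - ∑ t, cmap C ψ.1 (c' t) * cmap C φ.1 (a₀ t)
  have hz : cmap C (gR l) z = 0 := by
    simp only [z, map_sub, map_pow, map_sum, map_mul, cmap_trans C φ]
    rw [← hca, sub_eq_zero]
    refine Finset.sum_congr rfl fun t _ => ?_
    rw [smul_eq_mul, ← hae t, ← hc' t, cmap_comp, ψ.2]
    rfl
  obtain ⟨j, χ, hχ⟩ := hG.exists_tensor_eq_zero C l z ((cmap_apply C _ z).symm.trans hz)
  refine ⟨j, χ.comp φ, fun q hq => by_contra fun hqO => hq ?_⟩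
  have hle := (hmem _).1 hqO
  refine q.2.mem_of_pow_mem n ?_
  have e : cmap C (χ.comp φ).1 x ^ n = ∑ t, cmap C χ.1 (cmap C ψ.1 (c' t)) * cmap C (χ.comp φ).1 (a₀ t) := by
    have h0 : cmap C χ.1 z = 0 := (cmap_apply C _ z).trans hχ
    simp only [z, map_sub, map_pow, map_sum, map_mul, sub_eq_zero, cmap_comp] at h0
    simp only [cmap_comp]
    exact h0
  rw [e]
  exact q.asIdeal.sum_mem fun t _ => q.asIdeal.mul_mem_left _ (hle (ha₀ t))

variable {C} {P S : Scheme.{u}} (f : P ⟶ S) (ι : Spec (CommRingCat.of B) ⟶ S) [IsOpenImmersion ι]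

theorem pmap_comp {M M' M'' : Type u} [CommRing M] [Algebra B M] [CommRing M'] [Algebra B M'] [CommRing M'']
    [Algebra B M''] (g : M →ₐ[B] M') (g' : M' →ₐ[B] M'') : pmap f ι g' ≫ pmap f ι g = pmap f ι (g'.comp g) := by
  refine pullback.hom_ext ?_ ?_
  · rw [Category.assoc, pmap_fst, pmap_fst_assoc, pmap_fst, ← Spec.map_comp, ← CommRingCat.ofHom_comp]
    rfl
  · rw [Category.assoc, pmap_snd, pmap_snd, pmap_snd]

theorem pmap_comp_apply {M M' M'' : Type u} [CommRing M] [Algebra B M] [CommRing M'] [Algebra B M'] [CommRing M'']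
    [Algebra B M''] (g : M →ₐ[B] M') (g' : M' →ₐ[B] M'') (z : PB f ι M'') :
    pmap f ι g (pmap f ι g' z) = pmap f ι (g'.comp g) z := by
  rw [← Scheme.Hom.comp_apply, pmap_comp]

/-- every point of a base change lies in an affine piece -/
theorem exists_piece {M : Type u} [CommRing M] [Algebra B M] (z : PB f ι M) :
    ∃ (C : Type u) (_ : CommRing C) (_ : Algebra B C) (mC : Spec (CommRingCat.of C) ⟶ P) (_ : IsOpenImmersion mC)
      (hC : mC ≫ f = Spec.map (CommRingCat.ofHom (algebraMap B C)) ≫ ι), z ∈ Set.range (tU f ι M mC hC) := by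
  have hz : pullback.snd (ym ι M) f z ∈ f ⁻¹ᵁ ι.opensRange := by
    refine ⟨Spec.map (CommRingCat.ofHom (algebraMap B M)) (pullback.fst (ym ι M) f z), ?_⟩
    rw [← Scheme.Hom.comp_apply, ← Scheme.Hom.comp_apply, ← Scheme.Hom.comp_apply]
    exact congrArg (fun k : PB f ι M ⟶ S => k z) pullback.condition
  obtain ⟨U, hU, hzU, hUle⟩ := exists_isAffineOpen_mem_and_subset hz
  obtain ⟨φ, hφ⟩ := Spec.map_surjective (IsOpenImmersion.lift ι (hU.fromSpec ≫ f) (by
    rintro _ ⟨t, rfl⟩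
    rw [Scheme.Hom.comp_apply]
    exact hUle (hU.range_fromSpec.le ⟨t, rfl⟩)))
  letI : Algebra B Γ(P, U) := φ.hom.toAlgebra
  have hC : hU.fromSpec ≫ f = Spec.map (CommRingCat.ofHom (algebraMap B Γ(P, U))) ≫ ι := by
    show _ = Spec.map φ ≫ ι
    rw [hφ, IsOpenImmersion.lift_fac]
  refine ⟨Γ(P, U), inferInstance, inferInstance, hU.fromSpec, inferInstance, hC, ?_⟩
  obtain ⟨w, hw, -⟩ := Scheme.exists_preimage_of_isPullback (isPullback_tU f ι M hU.fromSpec hC) z
    (hU.primeIdealOf ⟨_, hzU⟩) (hU.fromSpec_primeIdealOf ⟨_, hzU⟩).symm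
  exact ⟨w, hw⟩

/-- an inclusion in an open set of a quasi-compact open set descends to a stage -/
theorem exists_stage_subset (hG : DirColim.IsColim gR) (i : J) (W O : Set (PB f ι (G i))) (hW : IsCompact W)
    (hWo : IsOpen W) (hO : IsOpen O)
    (h : ∀ z : PB f ι R, pmap f ι (gR i) z ∈ W → pmap f ι (gR i) z ∈ O) :
    ∃ j, ∃ φ : DirColim.Trans gR i j, ∀ z : PB f ι (G j), pmap f ι φ.1 z ∈ W → pmap f ι φ.1 z ∈ O := by
  classical
  have hloc : ∀ z : W, ∃ (C : Type u) (_ : CommRing C) (_ : Algebra B C) (mC : Spec (CommRingCat.of C) ⟶ P)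
      (_ : IsOpenImmersion mC) (hC : mC ≫ f = Spec.map (CommRingCat.ofHom (algebraMap B C)) ≫ ι)
      (x : C ⊗[B] G i), z.1 ∈ tU f ι (G i) mC hC '' {q | x ∉ q.asIdeal} ∧
        tU f ι (G i) mC hC '' {q | x ∉ q.asIdeal} ⊆ W := by
    intro z
    obtain ⟨C, _, _, mC, _, hC, q, hq⟩ := exists_piece f ι z.1
    obtain ⟨_, ⟨x, rfl⟩, hqx, hxW⟩ := PrimeSpectrum.isTopologicalBasis_basic_opens.exists_subset_of_mem_open
      (show q ∈ tU f ι (G i) mC hC ⁻¹' W from by rw [Set.mem_preimage, hq]; exact z.2)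
      (hWo.preimage (tU f ι (G i) mC hC).continuous)
    exact ⟨C, inferInstance, inferInstance, mC, inferInstance, hC, x, ⟨q, hqx, hq⟩, Set.image_subset_iff.2 hxW⟩
  choose C iC iA mC iM hC x hzx hxW using hloc
  letI := iC
  letI := iA
  have hopen : ∀ z : W, IsOpen (tU f ι (G i) (mC z) (hC z) '' {q | x z ∉ q.asIdeal}) := fun z => by
    haveI := iM z
    haveI : IsOpenImmersion (tU f ι (G i) (mC z) (hC z)) :=
      MorphismProperty.of_isPullback (isPullback_tU f ι (G i) (mC z) (hC z)).flip inferInstance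
    exact (tU f ι (G i) (mC z) (hC z)).isOpenEmbedding.isOpenMap _ (PrimeSpectrum.basicOpen (x z)).2
  obtain ⟨t, ht⟩ := hW.elim_finite_subcover _ hopen fun z hz => Set.mem_iUnion.2 ⟨⟨z, hz⟩, hzx ⟨z, hz⟩⟩
  obtain ⟨j, φ, hφ⟩ : ∃ j, ∃ φ : DirColim.Trans gR i j, ∀ z ∈ t, ∀ q : PrimeSpectrum (C z ⊗[B] G j),
      cmap (C z) φ.1 (x z) ∉ q.asIdeal →
        tU f ι (G i) (mC z) (hC z) (PrimeSpectrum.comap (cmap (C z) φ.1) q) ∈ O := by
    clear ht
    induction t using Finset.induction_on with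
    | empty => exact ⟨i, transId i, by simp⟩
    | insert z t _ ih =>
      obtain ⟨j, φ, hφ⟩ := ih
      obtain ⟨k, ψ, hψ⟩ := exists_stage_ring (C z) hG j (cmap (C z) φ.1 (x z))
        (PrimeSpectrum.comap (cmap (C z) φ.1) ⁻¹' (tU f ι (G i) (mC z) (hC z) ⁻¹' O))
        ((hO.preimage (tU f ι (G i) (mC z) (hC z)).continuous).preimage (PrimeSpectrum.continuous_comap _))
        (fun q hq => by
          rw [cmap_comp, φ.2] at hq
          show tU f ι (G i) (mC z) (hC z) (PrimeSpectrum.comap (cmap (C z) φ.1)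
            (PrimeSpectrum.comap (cmap (C z) (gR j)) q)) ∈ O
          rw [← PrimeSpectrum.comap_comp_apply,
            show (cmap (C z) (gR j)).comp (cmap (C z) φ.1) = cmap (C z) (gR i) from RingHom.ext (cmap_trans (C z) φ)]
          have e : tU f ι (G i) (mC z) (hC z) (PrimeSpectrum.comap (cmap (C z) (gR i)) q) =
              pmap f ι (gR i) (tU f ι R (mC z) (hC z) q) := by
            rw [← Scheme.Hom.comp_apply, ← tmap_tU, Scheme.Hom.comp_apply]
            rfl
          rw [e]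
          refine h _ ?_
          rw [← e]
          exact hxW z ⟨_, hq, rfl⟩)
      refine ⟨k, ψ.comp φ, fun z' hz' q hq => ?_⟩
      have ec : ∀ z'' : W, (cmap (C z'') ψ.1).comp (cmap (C z'') φ.1) = cmap (C z'') (ψ.comp φ).1 := fun z'' =>
        RingHom.ext fun y => cmap_comp (C z'') φ.1 ψ.1 y
      rw [← ec] at hq ⊢
      rcases Finset.mem_insert.1 hz' with rfl | hz'
      · exact hψ q hq
      · exact hφ z' hz' (PrimeSpectrum.comap (cmap (C z') ψ.1) q) hq
  refine ⟨j, φ, fun w hw => ?_⟩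
  obtain ⟨z, hz, q, hq, hqw⟩ := Set.mem_iUnion₂.1 (ht hw)
  obtain ⟨q', -, hq'⟩ := Scheme.exists_preimage_of_isPullback (isPullback_tmap f ι (mC z) (hC z) φ.1) w q hqw.symm
  rw [← hqw, ← hq']
  refine hφ z hz q' fun hm => hq ?_
  rw [← hq']
  exact hm

end Groth.Agent.H0FBC
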