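import Groth.Agent.H0FBC.FieldBasic
import Groth.Agent.UnibConn.Main
import Groth.Agent.VarGeom.OpenMap
import Mathlib.RingTheory.Flat.Basic

/-!
# Connected geometric fibres over strictly henselian Noetherian local rings
-/

set_option autoImplicit false
set_option linter.style.haveILetI false
set_option linter.unusedSectionVars false
set_option backward.isDefEq.respectTransparency false
set_option backward.isDefEq.respectTransparency.types false
universe u

open CategoryTheory CategoryTheory.Limits AlgebraicGeometry TopologicalSpace Opposite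
open scoped TensorProduct

attribute [-instance] CategoryTheory.catToReflQuiver

namespace Groth.Agent.H0FBC.OverField

open Groth.Agent IsLocalRing

/-- strictly henselian local domains are geometrically unibranch -/
theorem isGeomUnibranch_of_strictlyHenselian (R : Type u) [CommRing R] [IsDomain R] [HenselianLocalRing R]
    [IsSepClosed (ResidueField R)] : CAlg2.IsGeomUnibranch R := by
  have hn : nilradical R = ⊥ := nilradical_eq_zero R
  haveI hdom : IsDomain (CAlg2.red R) :=
    (Ideal.Quotient.isDomain_iff_prime _).2 (by rw [hn]; exact Ideal.isPrime_bot)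
  let f : R →+* CAlg2.normRed R :=
    (algebraMap (CAlg2.red R) (CAlg2.normRed R)).comp (Ideal.Quotient.mk (nilradical R))
  have hf : f.IsIntegral :=
    (RingHom.isIntegral_of_surjective _ Ideal.Quotient.mk_surjective).trans _ _
      (Algebra.IsIntegral.isIntegral (R := CAlg2.red R))
  letI : Algebra R (CAlg2.normRed R) := f.toAlgebra
  haveI : Algebra.IsIntegral R (CAlg2.normRed R) := ⟨hf⟩
  haveI : IsLocalRing (CAlg2.normRed R) := Hensel.isLocalRing_of_isIntegral_domain R _
  haveI : IsLocalHom (algebraMap R (CAlg2.normRed R)) := Hensel.isLocalHom_of_isIntegral_local R _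
  refine ⟨⟨hdom, inferInstance⟩, fun m hm x => ?_⟩
  obtain rfl : m = maximalIdeal (CAlg2.normRed R) := IsLocalRing.eq_maximalIdeal hm
  obtain ⟨-, hpi⟩ := Hensel.residueField_of_isIntegral R (CAlg2.normRed R)
  letI := (ResidueField.map (algebraMap R (CAlg2.normRed R))).toAlgebra
  haveI : IsPurelyInseparable (ResidueField R) (ResidueField (CAlg2.normRed R)) := hpi
  obtain ⟨n, c, hc⟩ := IsPurelyInseparable.pow_mem (ResidueField R) (ringExpChar (ResidueField R))
    (show ResidueField (CAlg2.normRed R) from x)
  obtain ⟨r, rfl⟩ := residue_surjective c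
  have hq : ringExpChar (ResidueField R) = ringExpChar (CAlg2.normRed R ⧸ maximalIdeal (CAlg2.normRed R)) := by
    haveI : ExpChar (ResidueField (CAlg2.normRed R)) (ringExpChar (ResidueField R)) :=
      expChar_of_injective_ringHom (algebraMap (ResidueField R) (ResidueField (CAlg2.normRed R))).injective _
    exact (ringExpChar.eq (ResidueField (CAlg2.normRed R)) _).symm
  exact ⟨n, r, hq ▸ hc⟩

/-- geometric fibres of flat local maps with reduced geometric fibres of strictly henselian Noetherian
rings are connected -/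
theorem idem_of_noetherian (R T L : Type u) [CommRing R] [IsNoetherianRing R] [HenselianLocalRing R]
    [IsSepClosed (ResidueField R)] [CommRing T] [HenselianLocalRing T] [IsSepClosed (ResidueField T)]
    [Algebra R T] [IsLocalHom (algebraMap R T)] [Module.Flat R T]
    (hgeo : ∀ (K : Type u) [Field K] [Algebra R K], _root_.IsReduced (K ⊗[R] T))
    [Field L] [IsAlgClosed L] [Algebra R L] {e : L ⊗[R] T} (he : IsIdempotentElem e) : e = 0 ∨ e = 1 := by
  classical
  let q : Ideal R := RingHom.ker (algebraMap R L)
  haveI : q.IsPrime := RingHom.ker_isPrime _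
  let k := q.ResidueField
  letI : Algebra k L :=
    (Ideal.ResidueField.lift q (algebraMap R L) le_rfl fun x hx => isUnit_iff_ne_zero.2 hx).toAlgebra
  haveI : IsScalarTower R k L :=
    .of_algebraMap_eq fun x => (Ideal.ResidueField.lift_algebraMap q _ _ _ x).symm
  let Ω := AlgebraicClosure k
  let ι : Ω →ₐ[k] L := IsAlgClosed.lift
  letI : Algebra Ω L := ι.toRingHom.toAlgebra
  haveI : IsScalarTower R Ω L := .of_algebraMap_eq fun x => by
    rw [IsScalarTower.algebraMap_apply R k L, IsScalarTower.algebraMap_apply R k Ω]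
    exact (ι.commutes _).symm
  -- idempotents over an algebraic closure
  suffices hΩ : ∀ d : Ω ⊗[R] T, IsIdempotentElem d → d = 0 ∨ d = 1 by
    haveI : Nontrivial (Ω ⊗[R] T) :=
      haveI : Module.FaithfullyFlat R T := Module.FaithfullyFlat.of_flat_of_isLocalHom
      inferInstance
    haveI : ConnectedSpace ↥(Spec (CommRingCat.of (Ω ⊗[R] T))) := connectedSpace_of_idempotent hΩ
    let pΩ : Spec (CommRingCat.of L) ⟶ Spec (CommRingCat.of Ω) := Spec.map (CommRingCat.ofHom (algebraMap Ω L))
    haveI : IsSepClosed Ω := inferInstance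
    haveI : GeometricallyConnected pΩ := geometricallyConnected_of_sepClosed L
    haveI : UniversallyOpen pΩ := VarGeom.universallyOpen_of_field _
    let pT : Spec (CommRingCat.of (Ω ⊗[R] T)) ⟶ Spec (CommRingCat.of Ω) :=
      Spec.map (CommRingCat.ofHom (algebraMap Ω (Ω ⊗[R] T)))
    haveI : UniversallyOpen (pullback.snd pΩ pT) := MorphismProperty.pullback_snd _ _ inferInstance
    haveI : GeometricallyConnected (pullback.snd pΩ pT) := inferInstance
    haveI : ConnectedSpace ↥(pullback pΩ pT) := inferInstance
    haveI : ConnectedSpace (PrimeSpectrum (L ⊗[Ω] (Ω ⊗[R] T))) :=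
      (pullbackSpecIso Ω L (Ω ⊗[R] T)).hom.homeomorph.surjective.connectedSpace
        (pullbackSpecIso Ω L (Ω ⊗[R] T)).hom.homeomorph.continuous
    let E := Algebra.TensorProduct.cancelBaseChange R Ω Ω L T
    rcases eq_zero_or_one_of_connectedSpace (he.map E.symm) with h | h
    · exact .inl (E.symm.injective (h.trans (map_zero E.symm).symm))
    · exact .inr (E.symm.injective (h.trans (map_one E.symm).symm))
  clear he e
  intro d hd
  -- a finite stage
  obtain ⟨n, c, t, rfl⟩ : ∃ (n : ℕ) (c : Fin n → Ω) (t : Fin n → T), d = ∑ i, c i ⊗ₜ t i := by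
    clear hd
    induction d using TensorProduct.induction_on with
    | zero => exact ⟨0, Fin.elim0, Fin.elim0, by simp⟩
    | tmul c t => exact ⟨1, fun _ => c, fun _ => t, by simp⟩
    | add a b ha hb =>
      obtain ⟨n₁, c₁, t₁, rfl⟩ := ha
      obtain ⟨n₂, c₂, t₂, rfl⟩ := hb
      exact ⟨n₁ + n₂, Fin.append c₁ c₂, Fin.append t₁ t₂, by simp [Fin.sum_univ_add]⟩
  let Rq := R ⧸ q
  haveI : IsScalarTower Rq k Ω := inferInstance
  haveI : IsScalarTower R Rq Ω := inferInstance
  haveI : Algebra.IsAlgebraic k Ω := inferInstance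
  have hclear : ∀ i, ∃ a : R, algebraMap R Ω a ≠ 0 ∧ IsIntegral R (algebraMap R Ω a * c i) := fun i => by
    haveI : IsFractionRing Rq k := inferInstance
    haveI : Algebra.IsAlgebraic Rq Ω :=
      (IsFractionRing.comap_isAlgebraic_iff (A := Rq) (K := k) (C := Ω)).2 inferInstance
    obtain ⟨y, hy0, hy⟩ := (Algebra.IsAlgebraic.isAlgebraic (R := Rq) (c i)).exists_integral_multiple
    obtain ⟨a, rfl⟩ := Ideal.Quotient.mk_surjective y
    refine ⟨a, fun h => hy0 (Ideal.Quotient.eq_zero_iff_mem.2 ?_), ?_⟩
    · show algebraMap R L a = 0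
      rw [IsScalarTower.algebraMap_apply R Ω L, h, map_zero]
    · haveI : Algebra.IsIntegral R Rq :=
        ⟨RingHom.isIntegral_of_surjective _ Ideal.Quotient.mk_surjective⟩
      rw [show algebraMap R Ω a * c i = (algebraMap R Rq a) • c i by rw [Algebra.smul_def, ← IsScalarTower.algebraMap_apply R Rq Ω]]
      exact isIntegral_trans (R := R) (A := Rq) _ hy
  choose a ha hint using hclear
  let R' := Algebra.adjoin R (Set.range fun i => algebraMap R Ω (a i) * c i)
  haveI : Module.Finite R R' := ⟨(Submodule.fg_top _).2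
    (fg_adjoin_of_finite (Set.finite_range _) (by rintro _ ⟨i, rfl⟩; exact hint i))⟩
  haveI : Algebra.IsIntegral R R' := inferInstance
  haveI : IsNoetherianRing R' := Algebra.FiniteType.isNoetherianRing R R'
  haveI : IsLocalRing R' := Hensel.isLocalRing_of_isIntegral_domain R _
  haveI : IsLocalHom (algebraMap R R') := Hensel.isLocalHom_of_isIntegral_local R _
  haveI hens' : HenselianLocalRing R' := Hensel.henselianLocalRing_of_isIntegral_local R _
  obtain ⟨hs', hpi⟩ := Hensel.residueField_of_isIntegral R R'
  -- the base change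
  let T' := R' ⊗[R] T
  haveI : Nontrivial T' :=
    haveI : Module.FaithfullyFlat R T := Module.FaithfullyFlat.of_flat_of_isLocalHom
    inferInstance
  let κT := ResidueField T
  let K := AlgebraicClosure κT
  letI : Algebra T T' := Algebra.TensorProduct.rightAlgebra
  haveI : Algebra.IsIntegral T T' := ⟨fun z => by
    induction z using TensorProduct.induction_on with
    | zero => exact isIntegral_zero
    | tmul x y =>
      have hx : IsIntegral T ((x ⊗ₜ (1 : T)) : T') := by
        obtain ⟨P, hP, hPx⟩ := Algebra.IsIntegral.isIntegral (R := R) x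
        refine ⟨P.map (algebraMap R T), hP.map _, ?_⟩
        rw [Polynomial.eval₂_map, show (algebraMap T T').comp (algebraMap R T) =
          (Algebra.TensorProduct.includeLeftRingHom : R' →+* T').comp (algebraMap R R') from RingHom.ext fun r =>
            ((Algebra.TensorProduct.includeRight : T →ₐ[R] T').commutes r)]
        rw [show (x ⊗ₜ (1 : T) : T') = (Algebra.TensorProduct.includeLeftRingHom : R' →+* T') x from rfl,
          ← Polynomial.hom_eval₂, hPx, map_zero]
      have hmul : (x ⊗ₜ y : T') = (x ⊗ₜ (1 : T)) * algebraMap T T' y := by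
        show _ = (x ⊗ₜ (1 : T)) * ((1 : R') ⊗ₜ y)
        simp
      rw [hmul]
      exact hx.mul isIntegral_algebraMap
    | add u v hu hv => exact hu.add hv⟩
  have hover : ∀ (M : Ideal T') (_ : M.IsMaximal), M.comap (algebraMap T T') = maximalIdeal T ∧
      M.comap (algebraMap R' T') = maximalIdeal R' := fun M hM => by
    haveI := hM
    have h1 := IsLocalRing.eq_maximalIdeal (Ideal.isMaximal_comap_of_isIntegral_of_isMaximal (R := T) M)
    refine ⟨h1, IsLocalRing.eq_maximalIdeal (Ideal.isMaximal_of_isIntegral_of_isMaximal_comap (R := R) _ ?_)⟩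
    have h2 : (M.comap (algebraMap R' T')).comap (algebraMap R R') =
        (M.comap (algebraMap T T')).comap (algebraMap R T) := by
      rw [Ideal.comap_comap, Ideal.comap_comap]
      congr 1
      exact RingHom.ext fun r => ((Algebra.TensorProduct.includeRight : T →ₐ[R] T').commutes r).symm
    have hlh : (maximalIdeal T).comap (algebraMap R T) = maximalIdeal R :=
      ((local_hom_TFAE (algebraMap R T)).out 0 4).1 ‹_›
    rw [h2, h1, hlh]
    exact maximalIdeal.isMaximal R
  have huniq : ∀ M₁ M₂ : Ideal T', M₁.IsMaximal → M₂.IsMaximal → M₁ = M₂ := by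
    have hom : ∀ (M : Ideal T') (_ : M.IsMaximal), ∃ σ : T' →+* K, RingHom.ker σ = M ∧
        σ.comp (algebraMap T T') = (algebraMap κT K).comp (residue T) := fun M hM => by
      letI := Ideal.Quotient.field M
      letI : Algebra κT (T' ⧸ M) := (Ideal.Quotient.lift (maximalIdeal T)
        ((Ideal.Quotient.mk M).comp (algebraMap T T')) fun r hr =>
          Ideal.Quotient.eq_zero_iff_mem.2 ((hover M hM).1.ge hr)).toAlgebra
      haveI : IsScalarTower T κT (T' ⧸ M) := .of_algebraMap_eq fun _ => rfl
      haveI : Algebra.IsIntegral κT (T' ⧸ M) := ⟨fun z => by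
        obtain ⟨z, rfl⟩ := Ideal.Quotient.mk_surjective z
        exact IsIntegral.tower_top (R := T) ((Algebra.IsIntegral.isIntegral (R := T) z).map
          (Ideal.Quotient.mkₐ T M))⟩
      haveI : Algebra.IsAlgebraic κT (T' ⧸ M) := inferInstance
      let σ₀ : T' ⧸ M →ₐ[κT] K := IsAlgClosed.lift
      refine ⟨σ₀.toRingHom.comp (Ideal.Quotient.mk M), ?_, RingHom.ext fun r => ?_⟩
      · rw [RingHom.ker_comp_of_injective _ σ₀.toRingHom.injective, Ideal.mk_ker]
      · exact σ₀.commutes (residue T r)
    intro M₁ M₂ h₁ h₂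
    obtain ⟨σ₁, hσ₁, hT₁⟩ := hom M₁ h₁
    obtain ⟨σ₂, hσ₂, hT₂⟩ := hom M₂ h₂
    suffices hσ : σ₁ = σ₂ by rw [← hσ₁, ← hσ₂, hσ]
    refine Algebra.TensorProduct.ringHom_ext ?_ (hT₁.trans hT₂.symm)
    letI := (ResidueField.map (algebraMap R R')).toAlgebra
    haveI : IsPurelyInseparable (ResidueField R) (ResidueField R') := hpi
    have hk : ∀ (σ : T' →+* K) (M : Ideal T'), M.IsMaximal → RingHom.ker σ = M →
        maximalIdeal R' ≤ RingHom.ker (σ.comp Algebra.TensorProduct.includeLeftRingHom) := fun σ M hM hσ x hx => by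
      have := (hover M hM).2.ge hx
      rw [Ideal.mem_comap, ← hσ, RingHom.mem_ker] at this
      exact this
    let θ : ∀ (σ : T' →+* K) (M : Ideal T'), M.IsMaximal → RingHom.ker σ = M → ResidueField R' →+* K :=
      fun σ M hM hσ => Ideal.Quotient.lift (maximalIdeal R') (σ.comp Algebra.TensorProduct.includeLeftRingHom)
        fun x hx => hk σ M hM hσ hx
    have hT : ∀ r, σ₁ (algebraMap R R' r ⊗ₜ 1) = σ₂ (algebraMap R R' r ⊗ₜ 1) := fun r => by
      have h1 : (algebraMap R R' r ⊗ₜ (1 : T) : T') = algebraMap T T' (algebraMap R T r) :=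
        ((Algebra.TensorProduct.includeRight : T →ₐ[R] T').commutes r).symm
      rw [h1]
      exact congr($(hT₁.trans hT₂.symm) (algebraMap R T r))
    have h12 : θ σ₁ M₁ h₁ hσ₁ = θ σ₂ M₂ h₂ hσ₂ := RingHom.ext fun z => by
      obtain ⟨m, y, hy⟩ := IsPurelyInseparable.pow_mem (ResidueField R) (ringExpChar (ResidueField R)) z
      obtain ⟨r, rfl⟩ := residue_surjective y
      haveI : ExpChar K (ringExpChar (ResidueField R)) :=
        expChar_of_injective_ringHom ((θ σ₁ M₁ h₁ hσ₁).comp (algebraMap (ResidueField R) (ResidueField R'))).injective _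
      apply iterateFrobenius_inj K (ringExpChar (ResidueField R)) m
      rw [iterateFrobenius_def, iterateFrobenius_def, ← map_pow, ← map_pow, ← hy]
      exact hT r
    exact RingHom.ext fun x => congr($h12 (residue R' x))
  haveI : IsLocalRing T' := by
    obtain ⟨M, hM⟩ := Ideal.exists_maximal T'
    exact .of_unique_max_ideal ⟨M, hM, fun N hN => huniq N M hN hM⟩
  haveI : IsLocalHom (algebraMap R' T') := ⟨fun x hx => by
    by_contra h
    exact (maximalIdeal.isMaximal T').ne_top (Ideal.eq_top_of_isUnit_mem _
      ((hover _ (maximalIdeal.isMaximal T')).2.ge h) hx)⟩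
  have hgeo' : ∀ (K' : Type u) [Field K'] [Algebra R' K'], _root_.IsReduced (K' ⊗[R'] T') := fun K' _ _ => by
    letI : Algebra R K' := ((algebraMap R' K').comp (algebraMap R R')).toAlgebra
    haveI : IsScalarTower R R' K' := .of_algebraMap_eq' rfl
    haveI := hgeo K'
    exact isReduced_of_injective (Algebra.TensorProduct.cancelBaseChange R R' R' K' T).toRingEquiv.toRingHom
      (Algebra.TensorProduct.cancelBaseChange R R' R' K' T).injective
  haveI : (nilradical R').IsPrime := by rw [nilradical_eq_zero]; exact Ideal.isPrime_bot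
  let F := (nilradical R').ResidueField
  let j : F →+* Ω := Ideal.ResidueField.lift (nilradical R') (algebraMap R' Ω)
    (fun x hx => by
      rw [RingHom.mem_ker, show x = 0 from (mem_nilradical.1 hx).eq_zero, map_zero])
    fun x hx => isUnit_iff_ne_zero.2 fun h => hx (by
      rw [show x = 0 from Subtype.ext h]
      exact zero_mem (nilradical R'))
  haveI : IsScalarTower R R' F := inferInstance
  let jA : F →ₐ[R] Ω := { j with
    commutes' := fun r => by
      show j (algebraMap R F r) = algebraMap R Ω r
      rw [IsScalarTower.algebraMap_apply R R' F, Ideal.ResidueField.lift_algebraMap]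
      rfl }
  let z : Fin n → F := fun i =>
    algebraMap R' F ⟨_, Algebra.subset_adjoin ⟨i, rfl⟩⟩ / algebraMap R F (a i)
  have hz : ∀ i, jA (z i) = c i := fun i => by
    show j (algebraMap R' F _ / algebraMap R F (a i)) = c i
    rw [map_div₀, Ideal.ResidueField.lift_algebraMap, show j (algebraMap R F (a i)) = algebraMap R Ω (a i) from
      jA.commutes (a i)]
    show algebraMap R Ω (a i) * c i / _ = _
    rw [mul_div_assoc, mul_div_cancel₀ _ (ha i)]
  let μ : F ⊗[R] T →ₐ[R] Ω ⊗[R] T := Algebra.TensorProduct.map jA (AlgHom.id R T)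
  have hμ : Function.Injective μ :=
    Module.Flat.rTensor_preserves_injective_linearMap (M := T) jA.toLinearMap jA.toRingHom.injective
  let d₀ : F ⊗[R] T := ∑ i, z i ⊗ₜ t i
  have hd₀ : μ d₀ = ∑ i, c i ⊗ₜ t i := by simp [μ, d₀, hz]
  have hd₀' : IsIdempotentElem d₀ := hμ (by rw [map_mul, hd₀]; exact hd.eq)
  let E : (nilradical R').Fiber T' ≃ₐ[F] F ⊗[R] T := Algebra.TensorProduct.cancelBaseChange R R' F F T
  rw [← hd₀]
  rcases UnibConn.idempotent_trivial_fiber hgeo' (isGeomUnibranch_of_strictlyHenselian R')
      (hd₀'.map E.symm) with h | h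
  · exact .inl (by rw [show d₀ = 0 from E.symm.injective (h.trans (map_zero E.symm).symm), map_zero])
  · exact .inr (by rw [show d₀ = 1 from E.symm.injective (h.trans (map_one E.symm).symm), map_one])

end Groth.Agent.H0FBC.OverField
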