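import Groth.Agent.H0FBC.FieldMain
import Groth.Agent.H0FBC.FieldChart
import Groth.Agent.H0FBC.NoethCore
import Groth.Agent.Hensel.HenselizationDescent
import Groth.Agent.AlgSpDec.OneFlat

/-!
# Flat morphisms with separable fibres are universally locally 0-acyclic
-/

set_option autoImplicit false
set_option linter.style.haveILetI false
set_option linter.unusedSectionVars false
set_option backward.isDefEq.respectTransparency false
set_option backward.isDefEq.respectTransparency.types false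
universe u

open CategoryTheory CategoryTheory.Limits AlgebraicGeometry TopologicalSpace Opposite
open scoped TensorProduct

attribute [-instance] CategoryTheory.catToReflQuiver

namespace Groth.Agent.H0FBC.OverField

open Groth.Agent IsLocalRing
open Groth.Agent.Hensel (Henz Nbhd)

/-- etale algebras over base changes of algebras with geometrically reduced fibres -/
theorem geometricallyReduced_base {A₀ : Type u} [CommRing A₀] (R A : Type u) [CommRing R] [Algebra A₀ R]
    [CommRing A] [Algebra A₀ A] [GeometricallyReduced (Spec.map (CommRingCat.ofHom (algebraMap A₀ A)))]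
    (M : Type u) [CommRing M] [Algebra (R ⊗[A₀] A) M] [Algebra.Etale (R ⊗[A₀] A) M] [Algebra R M]
    [IsScalarTower R (R ⊗[A₀] A) M] :
    GeometricallyReduced (Spec.map (CommRingCat.ofHom (algebraMap R M))) := by
  haveI : GeometricallyReduced (Spec.map (CommRingCat.ofHom (algebraMap R (R ⊗[A₀] A)))) := by
    have e : Spec.map (CommRingCat.ofHom (algebraMap R (R ⊗[A₀] A))) =
        (pullbackSpecIso A₀ R A).inv ≫ pullback.fst (Spec.map (CommRingCat.ofHom (algebraMap A₀ R)))
          (Spec.map (CommRingCat.ofHom (algebraMap A₀ A))) := by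
      rw [pullbackSpecIso_inv_fst]
      rfl
    rw [e]
    exact geometricallyReduced_etale_comp _ _
  haveI : AlgebraicGeometry.Etale (Spec.map (CommRingCat.ofHom (algebraMap (R ⊗[A₀] A) M))) :=
    (HasRingHomProperty.Spec_iff (P := @AlgebraicGeometry.Etale)).2 (RingHom.etale_algebraMap.2 inferInstance)
  rw [IsScalarTower.algebraMap_eq R (R ⊗[A₀] A) M, CommRingCat.ofHom_comp, Spec.map_comp]
  exact geometricallyReduced_etale_comp _ _

/-- maps of localizations at primes to fields killing the prime are local -/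
theorem isLocalHom_localization {B D K : Type u} [CommRing B] [CommRing D] [Algebra B D] (p : Ideal B) [p.IsPrime]
    [IsLocalization.AtPrime D p] [Field K] (f : D →+* K) (hf : ∀ b ∈ p, f (algebraMap B D b) = 0) : IsLocalHom f := by
  haveI := IsLocalization.AtPrime.isLocalRing D p
  refine ⟨fun d hd => ?_⟩
  by_contra hn
  have hm : d ∈ p.map (algebraMap B D) := by
    rw [IsLocalization.AtPrime.map_eq_maximalIdeal p D]; exact hn
  have hle : p.map (algebraMap B D) ≤ RingHom.ker f := Ideal.map_le_iff_le_comap.2 fun b hb => hf b hb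
  exact hd.ne_zero (RingHom.mem_ker.1 (hle hm))

/-- strict henselizations at geometric points are strictly henselian -/
theorem isSepClosed_henz (B K : Type u) [CommRing B] [Field K] [IsAlgClosed K] [Algebra B K] :
    IsSepClosed (ResidueField (Henz B K)) := by
  let p : Ideal B := RingHom.ker (algebraMap B K)
  haveI : p.IsPrime := RingHom.ker_isPrime _
  let D := Localization.AtPrime p
  have hu : ∀ s : p.primeCompl, IsUnit (algebraMap B K s) := fun s => isUnit_iff_ne_zero.2 s.2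
  letI : Algebra D K := (IsLocalization.lift (M := p.primeCompl) hu).toAlgebra
  haveI : IsScalarTower B D K := .of_algebraMap_eq fun b => (IsLocalization.lift_eq hu b).symm
  haveI : IsLocalHom (algebraMap D K) := isLocalHom_localization p _ fun b hb => by
    rw [← IsScalarTower.algebraMap_apply]; exact hb
  let a := AlgSpDec.EtHenz.fromLocal B D K p.primeCompl
  letI : Algebra D (Henz B K) := a.toRingHom.toAlgebra
  obtain ⟨hl, hs⟩ := AlgSpDec.EtHenz.isStrictHenselization B D K p.primeCompl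
  haveI : IsSepClosure (ResidueField D) (ResidueField (Henz B K)) :=
    _root_.Hensel.IsStrictHenselization.isSepClosure
  exact IsSepClosure.sep_closed (ResidueField D)

/-- maps from strict henselizations to strictly henselian rings -/
theorem exists_henz_to {B Ω T : Type u} [CommRing B] [Field Ω] [Algebra B Ω] [CommRing T] [HenselianLocalRing T]
    [IsSepClosed (ResidueField T)] (f : B →+* T) (j : ResidueField T →+* Ω)
    (hj : ∀ b, j (residue T (f b)) = algebraMap B Ω b) :
    ∃ g : Henz B Ω →+* T, g.comp (algebraMap B (Henz B Ω)) = f ∧ ∀ z, j (residue T (g z)) = Henz.proj B Ω z := by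
  letI : Algebra B T := f.toAlgebra
  letI : Algebra (ResidueField T) Ω := j.toAlgebra
  letI : Algebra B (ResidueField T) := ((residue T).comp f).toAlgebra
  haveI : IsScalarTower B (ResidueField T) Ω := .of_algebraMap_eq fun b => (hj b).symm
  have hran : ∀ x : (Henz.proj B Ω).range, ∃ c : ResidueField T, j c = x := fun x => by
    obtain ⟨z, hz⟩ := x.2
    obtain ⟨N, b, rfl⟩ := Henz.exists_ofB z
    have hsep : IsSeparable (ResidueField T) (N.toK b) :=
      AlgSpDec.EtHenz.isSeparable_of_etale (ResidueField T) N.toK b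
    have hdeg := IsSepClosed.degree_eq_one_of_irreducible (ResidueField T)
      (minpoly.irreducible hsep.isIntegral) hsep
    obtain ⟨c, hc⟩ := minpoly.mem_range_of_degree_eq_one (ResidueField T) (N.toK b) hdeg
    exact ⟨c, hc.trans ((Henz.proj_ofB N b).symm.trans hz)⟩
  choose θf hθf using hran
  let θ : (Henz.proj B Ω).range →ₐ[B] T ⧸ maximalIdeal T :=
    { toFun := θf
      map_one' := j.injective (by rw [hθf]; exact (map_one j).symm)
      map_mul' := fun x y => j.injective (by rw [hθf]; exact ((map_mul j _ _).trans (by rw [hθf, hθf]; rfl)).symm)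
      map_zero' := j.injective (by rw [hθf]; exact (map_zero j).symm)
      map_add' := fun x y => j.injective (by rw [hθf]; exact ((map_add j _ _).trans (by rw [hθf, hθf]; rfl)).symm)
      commutes' := fun b => j.injective (by rw [hθf]; exact (hj b).symm) }
  obtain ⟨g, hg, -⟩ := Henz.existsUnique_lift (R := B) (K := Ω) (maximalIdeal T) θ
  refine ⟨g.toRingHom, g.comp_algebraMap, fun z => ?_⟩
  show j (Ideal.Quotient.mk (maximalIdeal T) (g z)) = _
  rw [hg]
  exact hθf _

/-- idempotents of geometric fibres, stages over Noetherian rings -/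
theorem idem_noeth_stage {A₀ : Type u} [CommRing A₀] (R₁ R A M₁ T L : Type u) [CommRing R₁] [IsNoetherianRing R₁]
    [Algebra A₀ R₁] [CommRing A] [Algebra A₀ A] [Module.Flat A₀ A]
    [GeometricallyReduced (Spec.map (CommRingCat.ofHom (algebraMap A₀ A)))]
    [CommRing M₁] [Algebra (R₁ ⊗[A₀] A) M₁] [Algebra.Etale (R₁ ⊗[A₀] A) M₁] [Algebra R₁ M₁]
    [IsScalarTower R₁ (R₁ ⊗[A₀] A) M₁]
    [CommRing R] [HenselianLocalRing R] [IsSepClosed (ResidueField R)] [Algebra R₁ R]
    [CommRing T] [HenselianLocalRing T] [IsSepClosed (ResidueField T)] [Algebra R T] [IsLocalHom (algebraMap R T)]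
    [Algebra R₁ T] [IsScalarTower R₁ R T] (ψ : M₁ →ₐ[R₁] T)
    [Field L] [IsAlgClosed L] [Algebra R L] [Algebra R₁ L] [IsScalarTower R₁ R L]
    {e : L ⊗[R₁] M₁} (he : IsIdempotentElem e) :
    ∀ (π : L ⊗[R₁] M₁ →+* L ⊗[R] T), (∀ l m, π (l ⊗ₜ m) = l ⊗ₜ ψ m) → π e = 0 ∨ π e = 1 := by
  intro π hπ
  let K := AlgebraicClosure (ResidueField T)
  let jT : ResidueField T →+* K := algebraMap (ResidueField T) K
  let jR : ResidueField R →+* K := jT.comp (ResidueField.map (algebraMap R T))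
  let p : Ideal R₁ := RingHom.ker ((residue R).comp (algebraMap R₁ R))
  haveI : p.IsPrime := RingHom.ker_isPrime _
  let D := Localization.AtPrime p
  have huR : ∀ s : p.primeCompl, IsUnit (algebraMap R₁ R s) := fun s =>
    IsUnit.of_map (residue R) _ (isUnit_iff_ne_zero.2 s.2)
  let fD : D →+* R := IsLocalization.lift (M := p.primeCompl) huR
  letI : Algebra D K := (jR.comp ((residue R).comp fD)).toAlgebra
  haveI hres : IsLocalHom ((residue R).comp fD) := isLocalHom_localization p _ fun b hb => by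
    show residue R (fD (algebraMap R₁ D b)) = 0
    rw [IsLocalization.lift_eq]
    exact hb
  haveI : IsLocalHom fD := ⟨fun d hd => IsUnit.of_map ((residue R).comp fD) d (hd.map (residue R))⟩
  have hfD : ∀ r, fD (algebraMap R₁ D r) = algebraMap R₁ R r := fun r => IsLocalization.lift_eq _ r
  letI : Algebra (ResidueField D) K := (jR.comp (ResidueField.map fD)).toAlgebra
  haveI : IsScalarTower D (ResidueField D) K := .of_algebraMap_eq fun _ => rfl
  -- the strict henselization of the base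
  let R₀ := Henz D K
  haveI : IsNoetherianRing D := IsLocalization.isNoetherianRing p.primeCompl D inferInstance
  haveI : IsNoetherianRing R₀ := Hensel.isNoetherianRing_henz (R := D) (L := K)
  haveI : IsSepClosed (ResidueField R₀) := isSepClosed_henz D K
  obtain ⟨gR, hgR, hgR'⟩ := exists_henz_to (B := D) (Ω := K) fD jR fun _ => rfl
  let a₁ : R₁ →+* R₀ := (algebraMap D R₀).comp (algebraMap R₁ D)
  have hga : ∀ r, gR (a₁ r) = algebraMap R₁ R r := fun r => by
    show gR (algebraMap D R₀ (algebraMap R₁ D r)) = _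
    rw [← RingHom.comp_apply gR, hgR, hfD]
  letI : Algebra R₁ R₀ := a₁.toAlgebra
  -- the algebra
  let M' := R₀ ⊗[R₁] M₁
  have hψ' : ((algebraMap R T).comp gR).comp (algebraMap R₁ R₀) = ψ.toRingHom.comp (algebraMap R₁ M₁) :=
    RingHom.ext fun r => by
      show algebraMap R T (gR (a₁ r)) = ψ (algebraMap R₁ M₁ r)
      rw [hga, ψ.commutes, ← IsScalarTower.algebraMap_apply]
  let ψ' : M' →+* T := tlift ((algebraMap R T).comp gR) ψ.toRingHom hψ'
  letI : Algebra M' K := (jT.comp ((residue T).comp ψ')).toAlgebra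
  let T₀ := Henz M' K
  haveI : IsSepClosed (ResidueField T₀) := isSepClosed_henz M' K
  obtain ⟨gT, hgT, hgT'⟩ := exists_henz_to (B := M') (Ω := K) ψ' jT fun _ => rfl
  letI : Algebra R₀ T₀ := ((algebraMap M' T₀).comp (algebraMap R₀ M')).toAlgebra
  haveI : IsScalarTower R₀ M' T₀ := .of_algebraMap_eq fun _ => rfl
  have hgRT : ∀ x, gT (algebraMap R₀ T₀ x) = algebraMap R T (gR x) := fun x => by
    show gT (algebraMap M' T₀ (x ⊗ₜ (1 : M₁))) = _
    rw [← RingHom.comp_apply gT, hgT]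
    exact (tlift_tmul ((algebraMap R T).comp gR) ψ.toRingHom hψ' x 1).trans (by rw [map_one, mul_one]; rfl)
  haveI : IsLocalHom (algebraMap R₀ T₀) := ⟨fun x hx => by
    rw [AlgSpDec.EtHenz.isUnit_iff] at hx ⊢
    rw [← hgT', hgRT] at hx
    rw [← hgR']
    intro h0
    refine hx ?_
    show jT (residue T (algebraMap R T (gR x))) = 0
    exact h0⟩
  -- stages
  let C₁ := R₁ ⊗[A₀] A
  haveI : Module.Flat R₁ C₁ := inferInstance
  haveI : Module.Flat R₁ M₁ := Module.Flat.trans R₁ C₁ M₁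
  haveI : Module.Flat R₀ M' := inferInstance
  haveI hGR₁ : GeometricallyReduced (Spec.map (CommRingCat.ofHom (algebraMap R₁ M₁))) :=
    geometricallyReduced_base (A₀ := A₀) R₁ A M₁
  have hGR' : GeometricallyReduced (Spec.map (CommRingCat.ofHom (algebraMap R₀ M'))) := by
    have e : Spec.map (CommRingCat.ofHom (algebraMap R₀ M')) =
        (pullbackSpecIso R₁ R₀ M₁).inv ≫ pullback.fst (Spec.map (CommRingCat.ofHom (algebraMap R₁ R₀)))
          (Spec.map (CommRingCat.ofHom (algebraMap R₁ M₁))) := by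
      rw [pullbackSpecIso_inv_fst]
      rfl
    rw [e]
    exact geometricallyReduced_etale_comp _ _
  letI : ∀ N : Nbhd M' K, Algebra R₀ N.B := fun N => ((algebraMap M' N.B).comp (algebraMap R₀ M')).toAlgebra
  haveI : ∀ N : Nbhd M' K, IsScalarTower R₀ M' N.B := fun N => .of_algebraMap_eq fun _ => rfl
  haveI : ∀ N : Nbhd M' K, Module.Flat R₀ N.B := fun N => Module.Flat.trans R₀ M' N.B
  have hcol := isColim_restrictScalars (A := R₀) (EtFound.isColim_henz M' K)
  haveI : Module.Flat R₀ T₀ := flat_of_isColim hcol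
  have hgeo : ∀ (F : Type u) [Field F] [Algebra R₀ F], _root_.IsReduced (F ⊗[R₀] T₀) := fun F _ _ => by
    have hN : ∀ N : Nbhd M' K, _root_.IsReduced (F ⊗[R₀] N.B) := fun N => by
      haveI : AlgebraicGeometry.Etale (Spec.map (CommRingCat.ofHom (algebraMap M' N.B))) :=
        (HasRingHomProperty.Spec_iff (P := @AlgebraicGeometry.Etale)).2 (RingHom.etale_algebraMap.2 inferInstance)
      haveI := hGR'
      haveI : GeometricallyReduced (Spec.map (CommRingCat.ofHom (algebraMap R₀ N.B))) := by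
        rw [IsScalarTower.algebraMap_eq R₀ M' N.B, CommRingCat.ofHom_comp, Spec.map_comp]
        exact geometricallyReduced_etale_comp _ _
      exact UnibConn.isReduced_tensor_field F
    refine ⟨fun z hz => ?_⟩
    obtain ⟨N, w, rfl⟩ := (hcol.baseChange F).surj z
    obtain ⟨m, hm⟩ := hz
    rw [← map_pow] at hm
    obtain ⟨P, φ, hφ⟩ := (hcol.baseChange F).ker N _ hm
    haveI := hN P
    rw [map_pow] at hφ
    rw [← φ.apply, IsReduced.eq_zero _ ⟨m, hφ⟩, map_zero]
  -- the idempotent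
  letI : Algebra R₀ L := ((algebraMap R L).comp gR).toAlgebra
  let iT₀ : T₀ →+* L ⊗[R₀] T₀ := (Algebra.TensorProduct.includeRight : T₀ →ₐ[R₀] L ⊗[R₀] T₀).toRingHom
  let iT : T →+* L ⊗[R] T := (Algebra.TensorProduct.includeRight : T →ₐ[R] L ⊗[R] T).toRingHom
  let ιM : M₁ →+* T₀ := (algebraMap M' T₀).comp
    (Algebra.TensorProduct.includeRight : M₁ →ₐ[R₁] M').toRingHom
  have hν : (Algebra.TensorProduct.includeLeftRingHom : L →+* L ⊗[R₀] T₀).comp (algebraMap R₁ L) =
      (iT₀.comp ιM).comp (algebraMap R₁ M₁) := RingHom.ext fun r => by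
    show (algebraMap R₁ L r) ⊗ₜ[R₀] (1 : T₀) = iT₀ (algebraMap M' T₀
      ((Algebra.TensorProduct.includeRight : M₁ →ₐ[R₁] M') (algebraMap R₁ M₁ r)))
    rw [AlgHom.commutes, IsScalarTower.algebraMap_apply R₁ R L, ← hga]
    exact ((Algebra.TensorProduct.includeRight : T₀ →ₐ[R₀] L ⊗[R₀] T₀).commutes (a₁ r)).symm
  let ν : L ⊗[R₁] M₁ →+* L ⊗[R₀] T₀ := tlift Algebra.TensorProduct.includeLeftRingHom (iT₀.comp ιM) hν
  have hμ : (Algebra.TensorProduct.includeLeftRingHom : L →+* L ⊗[R] T).comp (algebraMap R₀ L) =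
      (iT.comp gT).comp (algebraMap R₀ T₀) := RingHom.ext fun x => by
    show algebraMap R L (gR x) ⊗ₜ[R] (1 : T) = iT (gT (algebraMap R₀ T₀ x))
    rw [hgRT]
    exact ((Algebra.TensorProduct.includeRight : T →ₐ[R] L ⊗[R] T).commutes (gR x)).symm
  let μ : L ⊗[R₀] T₀ →+* L ⊗[R] T := tlift Algebra.TensorProduct.includeLeftRingHom (iT.comp gT) hμ
  have hνμ : μ.comp ν = π := Algebra.TensorProduct.ringHom_ext
    (RingHom.ext fun l => by
      show μ (ν (l ⊗ₜ (1 : M₁))) = π (l ⊗ₜ (1 : M₁))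
      rw [hπ, show ν (l ⊗ₜ (1 : M₁)) = l ⊗ₜ[R₀] (1 : T₀) from
        (tlift_tmul _ (iT₀.comp ιM) hν l 1).trans (by rw [map_one, mul_one]; rfl), map_one]
      exact (tlift_tmul _ (iT.comp gT) hμ l 1).trans (by rw [map_one, mul_one]; rfl))
    (RingHom.ext fun m => by
      show μ (ν ((1 : L) ⊗ₜ m)) = π ((1 : L) ⊗ₜ m)
      rw [hπ, show ν ((1 : L) ⊗ₜ m) = (1 : L) ⊗ₜ[R₀] ιM m from
        (tlift_tmul _ (iT₀.comp ιM) hν 1 m).trans (by rw [map_one, one_mul]; rfl)]
      refine (tlift_tmul _ (iT.comp gT) hμ 1 (ιM m)).trans ?_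
      rw [map_one, one_mul]
      show iT (gT (algebraMap M' T₀ ((1 : R₀) ⊗ₜ m))) = iT (ψ m)
      congr 1
      rw [← RingHom.comp_apply gT, hgT]
      exact (tlift_tmul ((algebraMap R T).comp gR) ψ.toRingHom hψ' 1 m).trans (by rw [map_one, one_mul]; rfl))
  have key := idem_of_noetherian R₀ T₀ L hgeo (he.map ν)
  rw [← hνμ]
  rcases key with h | h
  · exact .inl ((congrArg μ h).trans (map_zero μ))
  · exact .inr ((congrArg μ h).trans (map_one μ))

/-- finitely many elements of a base change come from a finitely generated subalgebra of the base -/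
theorem exists_fg_base {A₀ : Type u} [CommRing A₀] (R A : Type u) [CommRing R] [Algebra A₀ R] [CommRing A]
    [Algebra A₀ A] (s : Finset (R ⊗[A₀] A)) : ∃ R₁ : Subalgebra A₀ R, R₁.FG ∧
      ∀ x ∈ s, x ∈ (Algebra.TensorProduct.map R₁.val (AlgHom.id A₀ A)).range := by
  classical
  have mono : ∀ {B₁ B₂ : Subalgebra A₀ R}, B₁ ≤ B₂ → (Algebra.TensorProduct.map B₁.val (AlgHom.id A₀ A)).range ≤
      (Algebra.TensorProduct.map B₂.val (AlgHom.id A₀ A)).range := fun {B₁ B₂} h => by
    rintro _ ⟨y, rfl⟩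
    refine ⟨Algebra.TensorProduct.map (Subalgebra.inclusion h) (AlgHom.id A₀ A) y, ?_⟩
    show Algebra.TensorProduct.map _ _ (Algebra.TensorProduct.map _ _ y) = _
    rw [← AlgHom.comp_apply, ← Algebra.TensorProduct.map_comp]
    rfl
  have one : ∀ x : R ⊗[A₀] A, ∃ R₁ : Subalgebra A₀ R, R₁.FG ∧
      x ∈ (Algebra.TensorProduct.map R₁.val (AlgHom.id A₀ A)).range := fun x => by
    induction x using TensorProduct.induction_on with
    | zero => exact ⟨⊥, Subalgebra.fg_bot, zero_mem _⟩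
    | tmul r a =>
      exact ⟨Algebra.adjoin A₀ {r}, ⟨{r}, by simp⟩, (⟨r, Algebra.subset_adjoin rfl⟩ : Algebra.adjoin A₀ {r}) ⊗ₜ a,
        by simp⟩
    | add x y hx hy =>
      obtain ⟨B₁, h₁, h₁'⟩ := hx
      obtain ⟨B₂, h₂, h₂'⟩ := hy
      exact ⟨B₁ ⊔ B₂, h₁.sup h₂, add_mem (mono le_sup_left h₁') (mono le_sup_right h₂')⟩
  induction s using Finset.induction_on with
  | empty => exact ⟨⊥, Subalgebra.fg_bot, by simp⟩
  | insert x s hx ih =>
    obtain ⟨B₁, h₁, h₁'⟩ := ih
    obtain ⟨B₂, h₂, h₂'⟩ := one x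
    refine ⟨B₁ ⊔ B₂, h₁.sup h₂, fun y hy => ?_⟩
    rcases Finset.mem_insert.1 hy with rfl | hy
    · exact mono le_sup_right h₂'
    · exact mono le_sup_left (h₁' y hy)

/-- maps out of base changes, given on a model and on the base -/
theorem exists_lift_cross {A₀ R R₁ A X : Type u} [CommRing A₀] [CommRing R] [CommRing R₁] [CommRing A] [CommRing X]
    [Algebra A₀ R] [Algebra A₀ R₁] [Algebra A₀ A] (v : R₁ →ₐ[A₀] R) (iR : R →+* X) (f₁ : R₁ ⊗[A₀] A →+* X)
    (h : ∀ r, f₁ (r ⊗ₜ 1) = iR (v r)) :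
    ∃ σ : R ⊗[A₀] A →+* X, (∀ z, σ (Algebra.TensorProduct.map v (AlgHom.id A₀ A) z) = f₁ z) ∧
      ∀ r, σ (r ⊗ₜ 1) = iR r := by
  let iA : A →+* X := f₁.comp (Algebra.TensorProduct.includeRight : A →ₐ[A₀] R₁ ⊗[A₀] A).toRingHom
  have hc : iR.comp (algebraMap A₀ R) = iA.comp (algebraMap A₀ A) := RingHom.ext fun c => by
    show iR (algebraMap A₀ R c) = f₁ ((Algebra.TensorProduct.includeRight : A →ₐ[A₀] R₁ ⊗[A₀] A) (algebraMap A₀ A c))
    rw [AlgHom.commutes, ← v.commutes c, ← h]
    rfl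
  refine ⟨tlift iR iA hc, fun z => ?_, fun r => (tlift_tmul iR iA hc r 1).trans (by rw [map_one, mul_one])⟩
  induction z using TensorProduct.induction_on with
  | zero => simp only [map_zero]
  | tmul r a =>
    rw [Algebra.TensorProduct.map_tmul]
    refine (tlift_tmul iR iA hc (v r) a).trans ?_
    show iR (v r) * f₁ ((1 : R₁) ⊗ₜ a) = _
    rw [← h, ← map_mul, Algebra.TensorProduct.tmul_mul_tmul, mul_one, one_mul]
  | add a b ha hb => simp only [map_add, ha, hb]

/-- maps out of models -/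
theorem exists_lift_model {C C₀ M M₀ X : Type u} [CommRing C] [CommRing C₀] [CommRing M] [CommRing M₀] [CommRing X]
    [Algebra C M] [Algebra C₀ C] [Algebra C₀ M₀] (Φ : M ≃ₐ[C] C ⊗[C₀] M₀) (f : C →+* X) (g : M₀ →+* X)
    (h : f.comp (algebraMap C₀ C) = g.comp (algebraMap C₀ M₀)) :
    ∃ σ : M →+* X, (∀ c, σ (algebraMap C M c) = f c) ∧ ∀ z, σ (Φ.symm (1 ⊗ₜ z)) = g z := by
  refine ⟨(tlift f g h).comp Φ.toRingEquiv.toRingHom, fun c => ?_, fun z => ?_⟩
  · show tlift f g h (Φ (algebraMap C M c)) = f c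
    rw [Φ.commutes]
    exact (tlift_tmul f g h c 1).trans (by rw [map_one, mul_one])
  · show tlift f g h (Φ (Φ.symm (1 ⊗ₜ z))) = g z
    rw [Φ.apply_symm_apply]
    exact (tlift_tmul f g h 1 z).trans (by rw [map_one, one_mul])

/-- maps out of models agree if they do on the base and on the model -/
theorem ext_model {C C₀ M M₀ X : Type u} [CommRing C] [CommRing C₀] [CommRing M] [CommRing M₀] [CommRing X]
    [Algebra C M] [Algebra C₀ C] [Algebra C₀ M₀] (Φ : M ≃ₐ[C] C ⊗[C₀] M₀) {f g : M →+* X}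
    (h₁ : ∀ c, f (algebraMap C M c) = g (algebraMap C M c))
    (h₂ : ∀ z, f (Φ.symm (1 ⊗ₜ z)) = g (Φ.symm (1 ⊗ₜ z))) : f = g := by
  refine RingHom.ext fun x => ?_
  obtain ⟨y, rfl⟩ := Φ.symm.surjective x
  induction y using TensorProduct.induction_on with
  | zero => simp only [map_zero]
  | tmul c z =>
    rw [show c ⊗ₜ[C₀] z = algebraMap C (C ⊗[C₀] M₀) c * (1 ⊗ₜ z) by
      rw [Algebra.TensorProduct.algebraMap_apply, Algebra.TensorProduct.tmul_mul_tmul, mul_one, one_mul]; rfl,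
      map_mul, Φ.symm.commutes, map_mul, map_mul, h₁, h₂]
  | add a b ha hb => simp only [map_add, ha, hb]

/-- idempotents, models over finitely generated subalgebras of the base -/
theorem idem_model {A₀ : Type u} [CommRing A₀] (R A M T L : Type u) [CommRing R] [Algebra A₀ R] [CommRing A]
    [Algebra A₀ A] [Module.Flat A₀ A] [GeometricallyReduced (Spec.map (CommRingCat.ofHom (algebraMap A₀ A)))]
    [CommRing M] [Algebra (R ⊗[A₀] A) M] [Algebra R M] [IsScalarTower R (R ⊗[A₀] A) M]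
    [HenselianLocalRing R] [IsSepClosed (ResidueField R)]
    [CommRing T] [HenselianLocalRing T] [IsSepClosed (ResidueField T)] [Algebra R T] [IsLocalHom (algebraMap R T)]
    (ψ : M →ₐ[R] T) [Field L] [IsAlgClosed L] [Algebra R L]
    (R₁ C₀ M₀ : Type u) [CommRing R₁] [IsNoetherianRing R₁] [Algebra A₀ R₁] [CommRing C₀] [CommRing M₀]
    [Algebra C₀ M₀] [Algebra.Etale C₀ M₀] (v : R₁ →ₐ[A₀] R) (κ : C₀ →+* R ⊗[A₀] A) (j : C₀ →+* R₁ ⊗[A₀] A)
    (hj : ∀ c, Algebra.TensorProduct.map v (AlgHom.id A₀ A) (j c) = κ c)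
    (Ψ : M →+* L ⊗[R] M) (hΨ : Ψ = (Algebra.TensorProduct.includeRight : M →ₐ[R] L ⊗[R] M).toRingHom)
    (Φ : letI := κ.toAlgebra; M ≃ₐ[R ⊗[A₀] A] (R ⊗[A₀] A) ⊗[C₀] M₀)
    {e : L ⊗[R] M} (he : IsIdempotentElem e) :
    Algebra.TensorProduct.map (AlgHom.id L L) ψ e = 0 ∨ Algebra.TensorProduct.map (AlgHom.id L L) ψ e = 1 := by
  letI : Algebra C₀ (R ⊗[A₀] A) := κ.toAlgebra
  letI : Algebra C₀ (R₁ ⊗[A₀] A) := j.toAlgebra
  let C₁ := R₁ ⊗[A₀] A
  let M₁ := C₁ ⊗[C₀] M₀
  haveI : Algebra.Etale C₁ M₁ := Algebra.Etale.baseChange _ _ _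
  letI : Algebra R₁ R := v.toRingHom.toAlgebra
  letI : Algebra R₁ T := ((algebraMap R T).comp v.toRingHom).toAlgebra
  haveI : IsScalarTower R₁ R T := .of_algebraMap_eq fun _ => rfl
  letI : Algebra R₁ L := ((algebraMap R L).comp v.toRingHom).toAlgebra
  haveI : IsScalarTower R₁ R L := .of_algebraMap_eq fun _ => rfl
  -- the map to `M`
  let m : C₁ →+* M := (algebraMap (R ⊗[A₀] A) M).comp (Algebra.TensorProduct.map v (AlgHom.id A₀ A)).toRingHom
  let i₀ : M₀ →+* M := Φ.symm.toRingEquiv.toRingHom.comp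
    (Algebra.TensorProduct.includeRight : M₀ →ₐ[C₀] (R ⊗[A₀] A) ⊗[C₀] M₀).toRingHom
  have hm : m.comp (algebraMap C₀ C₁) = i₀.comp (algebraMap C₀ M₀) := RingHom.ext fun c => by
    show algebraMap (R ⊗[A₀] A) M (Algebra.TensorProduct.map v (AlgHom.id A₀ A) (j c)) =
      Φ.symm ((Algebra.TensorProduct.includeRight : M₀ →ₐ[C₀] (R ⊗[A₀] A) ⊗[C₀] M₀) (algebraMap C₀ M₀ c))
    rw [hj, AlgHom.commutes]
    exact (Φ.symm.commutes (κ c)).symm
  let χ : M₁ →+* M := tlift m i₀ hm
  have hχR : ∀ r, χ (algebraMap R₁ M₁ r) = algebraMap R M (v r) := fun r => by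
    rw [IsScalarTower.algebraMap_apply R₁ C₁ M₁]
    refine (tlift_tmul m i₀ hm _ 1).trans ?_
    rw [map_one, mul_one]
    show algebraMap (R ⊗[A₀] A) M (Algebra.TensorProduct.map v (AlgHom.id A₀ A) (r ⊗ₜ 1)) = _
    rw [Algebra.TensorProduct.map_tmul, map_one]
    exact (IsScalarTower.algebraMap_apply R (R ⊗[A₀] A) M (v r)).symm
  let ψ₁ : M₁ →ₐ[R₁] T := { ψ.toRingHom.comp χ with
    commutes' := fun r => by
      show ψ (χ (algebraMap R₁ M₁ r)) = _
      rw [hχR, ψ.commutes]
      rfl }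
  -- the two maps
  let iM₁ : M₁ →+* L ⊗[R₁] M₁ := (Algebra.TensorProduct.includeRight : M₁ →ₐ[R₁] L ⊗[R₁] M₁).toRingHom
  let iR : R →+* L ⊗[R₁] M₁ := (Algebra.TensorProduct.includeLeftRingHom).comp (algebraMap R L)
  obtain ⟨σC, hσC, hσCR⟩ := exists_lift_cross (A₀ := A₀) (R := R) (R₁ := R₁) (A := A) (X := L ⊗[R₁] M₁) v iR
      (iM₁.comp (algebraMap C₁ M₁)) fun r => by
    show iM₁ (algebraMap C₁ M₁ (algebraMap R₁ C₁ r)) = algebraMap R L (v r) ⊗ₜ[R₁] (1 : M₁)
    rw [← IsScalarTower.algebraMap_apply R₁ C₁ M₁]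
    exact (Algebra.TensorProduct.includeRight : M₁ →ₐ[R₁] L ⊗[R₁] M₁).commutes r
  let iM₀ : M₀ →+* L ⊗[R₁] M₁ := iM₁.comp (Algebra.TensorProduct.includeRight : M₀ →ₐ[C₀] M₁).toRingHom
  have hσ₁ : σC.comp (algebraMap C₀ (R ⊗[A₀] A)) = iM₀.comp (algebraMap C₀ M₀) := RingHom.ext fun c => by
    show σC (κ c) = iM₁ ((Algebra.TensorProduct.includeRight : M₀ →ₐ[C₀] M₁) (algebraMap C₀ M₀ c))
    rw [AlgHom.commutes, ← hj, hσC]
    rfl
  obtain ⟨σM, hσM, hσM'⟩ := exists_lift_model (C := R ⊗[A₀] A) (C₀ := C₀) (M := M) (M₀ := M₀) (X := L ⊗[R₁] M₁) Φ σC iM₀ hσ₁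
  have hσ₂ : (Algebra.TensorProduct.includeLeftRingHom : L →+* L ⊗[R₁] M₁).comp (algebraMap R L) =
      σM.comp (algebraMap R M) := RingHom.ext fun r => by
    show iR r = σM (algebraMap R M r)
    rw [IsScalarTower.algebraMap_apply R (R ⊗[A₀] A) M, hσM]
    exact (hσCR r).symm
  let σ : L ⊗[R] M →+* L ⊗[R₁] M₁ :=
    tlift (R := R) (A := L) (B := M) (C := L ⊗[R₁] M₁) Algebra.TensorProduct.includeLeftRingHom σM hσ₂
  have hπ₀ : (Algebra.TensorProduct.includeLeftRingHom : L →+* L ⊗[R] M).comp (algebraMap R₁ L) =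
      (Ψ.comp χ).comp (algebraMap R₁ M₁) := RingHom.ext fun r => by
    show algebraMap R L (v r) ⊗ₜ[R] (1 : M) = Ψ (χ (algebraMap R₁ M₁ r))
    rw [hχR, hΨ]
    exact ((Algebra.TensorProduct.includeRight : M →ₐ[R] L ⊗[R] M).commutes (v r)).symm
  let π₀ : L ⊗[R₁] M₁ →+* L ⊗[R] M :=
    tlift (R := R₁) (A := L) (B := M₁) (C := L ⊗[R] M) Algebra.TensorProduct.includeLeftRingHom (Ψ.comp χ) hπ₀
  have hπ₁ : ∀ z, π₀ (iM₁ z) = Ψ (χ z) := fun z =>
    (tlift_tmul _ (Ψ.comp χ) hπ₀ (1 : L) z).trans (by rw [map_one, one_mul]; rfl)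
  have hχC : ∀ w, χ (algebraMap C₁ M₁ w) =
      algebraMap (R ⊗[A₀] A) M (Algebra.TensorProduct.map v (AlgHom.id A₀ A) w) := fun w =>
    (tlift_tmul m i₀ hm w 1).trans (by rw [map_one, mul_one]; rfl)
  have hπσC : π₀.comp σC = Ψ.comp (algebraMap (R ⊗[A₀] A) M) := by
    refine Algebra.TensorProduct.ringHom_ext (R := A₀) (A := R) (B := A) (C := L ⊗[R] M) (RingHom.ext fun r => ?_)
      (RingHom.ext fun a => ?_)
    · show π₀ (σC (r ⊗ₜ 1)) = Ψ (algebraMap (R ⊗[A₀] A) M (algebraMap R (R ⊗[A₀] A) r))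
      rw [hσCR, ← IsScalarTower.algebraMap_apply R (R ⊗[A₀] A) M, hΨ]
      refine (tlift_tmul _ (Ψ.comp χ) hπ₀ (algebraMap R L r) 1).trans ?_
      rw [map_one, mul_one]
      exact ((Algebra.TensorProduct.includeRight : M →ₐ[R] L ⊗[R] M).commutes r).symm
    · show π₀ (σC ((1 : R) ⊗ₜ a)) = Ψ (algebraMap (R ⊗[A₀] A) M ((1 : R) ⊗ₜ a))
      have hw : ((1 : R) ⊗ₜ[A₀] a) = Algebra.TensorProduct.map v (AlgHom.id A₀ A) ((1 : R₁) ⊗ₜ a) := by
        rw [Algebra.TensorProduct.map_tmul, map_one]; rfl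
      rw [hw, hσC, ← hχC]
      exact hπ₁ _
  have hπσM : π₀.comp σM = Ψ := ext_model Φ
    (fun c => by
      rw [RingHom.comp_apply, hσM]
      exact congr($hπσC c))
    (fun z => by
      rw [RingHom.comp_apply, hσM']
      refine (hπ₁ _).trans ?_
      congr 1
      exact (tlift_tmul m i₀ hm 1 z).trans (by rw [map_one, one_mul]; rfl))
  have hπσ : π₀.comp σ = RingHom.id _ := by
    refine Algebra.TensorProduct.ringHom_ext (R := R) (A := L) (B := M) (C := L ⊗[R] M) (RingHom.ext fun l => ?_)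
      (RingHom.ext fun x => ?_)
    · show π₀ (σ (l ⊗ₜ (1 : M))) = l ⊗ₜ (1 : M)
      have h1 : σ (l ⊗ₜ (1 : M)) = l ⊗ₜ[R₁] (1 : M₁) := by
        refine (tlift_tmul _ σM hσ₂ l 1).trans ?_
        rw [map_one σM]
        exact mul_one _
      rw [h1]
      refine (tlift_tmul _ (Ψ.comp χ) hπ₀ l 1).trans ?_
      rw [map_one (Ψ.comp χ)]
      exact mul_one _
    · show π₀ (σ ((1 : L) ⊗ₜ x)) = (1 : L) ⊗ₜ x
      have h1 : σ ((1 : L) ⊗ₜ x) = σM x := by
        refine (tlift_tmul _ σM hσ₂ 1 x).trans ?_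
        rw [map_one]
        exact one_mul (M := L ⊗[R₁] M₁) _
      rw [h1, show π₀ (σM x) = Ψ x from congr($hπσM x), hΨ]
      rfl
  let ψL := Algebra.TensorProduct.map (AlgHom.id L L) ψ
  have key := idem_noeth_stage (A₀ := A₀) R₁ R A M₁ T L ψ₁ (he.map σ) (ψL.toRingHom.comp π₀) fun l z => by
    show ψL (π₀ (l ⊗ₜ z)) = _
    rw [show π₀ (l ⊗ₜ z) = (l ⊗ₜ[R] (1 : M)) * Ψ (χ z) from tlift_tmul _ (Ψ.comp χ) hπ₀ l z, hΨ]
    show ψL ((l ⊗ₜ[R] (1 : M)) * ((1 : L) ⊗ₜ[R] χ z)) = _
    rw [Algebra.TensorProduct.tmul_mul_tmul, mul_one, one_mul]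
    rfl
  rwa [RingHom.comp_apply, show π₀ (σ e) = e from congr($hπσ e)] at key

/-- idempotents over finitely presented or Noetherian bases -/
theorem idem_base {A₀ : Type u} [CommRing A₀] (R A M T L : Type u) [CommRing R] [Algebra A₀ R] [CommRing A]
    [Algebra A₀ A] [Module.Flat A₀ A] [GeometricallyReduced (Spec.map (CommRingCat.ofHom (algebraMap A₀ A)))]
    (h : IsNoetherianRing A₀ ∨ Algebra.FinitePresentation A₀ A)
    [CommRing M] [Algebra (R ⊗[A₀] A) M] [Algebra.Etale (R ⊗[A₀] A) M] [Algebra R M]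
    [IsScalarTower R (R ⊗[A₀] A) M] [HenselianLocalRing R] [IsSepClosed (ResidueField R)]
    [CommRing T] [HenselianLocalRing T] [IsSepClosed (ResidueField T)] [Algebra R T] [IsLocalHom (algebraMap R T)]
    (ψ : M →ₐ[R] T) [Field L] [IsAlgClosed L] [Algebra R L] {e : L ⊗[R] M} (he : IsIdempotentElem e) :
    Algebra.TensorProduct.map (AlgHom.id L L) ψ e = 0 ∨ Algebra.TensorProduct.map (AlgHom.id L L) ψ e = 1 := by
  classical
  rcases h with h | h
  · obtain ⟨C₀, M₀, _, _, ⟨s, hs⟩, hM₀, ⟨Φ⟩⟩ := Algebra.Etale.exists_subalgebra_fg A₀ (R ⊗[A₀] A) M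
    haveI := hM₀
    obtain ⟨R₁, hR₁, hsR⟩ := exists_fg_base R A s
    haveI : Algebra.FiniteType A₀ R₁ := (Subalgebra.fg_iff_finiteType R₁).1 hR₁
    haveI : IsNoetherianRing R₁ := Algebra.FiniteType.isNoetherianRing A₀ R₁
    let φ : R₁ ⊗[A₀] A →ₐ[A₀] R ⊗[A₀] A := Algebra.TensorProduct.map R₁.val (AlgHom.id A₀ A)
    have hinj : Function.Injective φ :=
      Module.Flat.rTensor_preserves_injective_linearMap (M := A) R₁.val.toLinearMap Subtype.val_injective
    have hle : C₀ ≤ φ.range := by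
      rw [← hs, Algebra.adjoin_le_iff]
      exact fun x hx => hsR x hx
    let j : ↥C₀ →+* R₁ ⊗[A₀] A :=
      (AlgEquiv.ofInjective φ hinj).symm.toRingEquiv.toRingHom.comp (Subalgebra.inclusion hle).toRingHom
    exact idem_model R A M T L ψ ↥R₁ ↥C₀ M₀ R₁.val C₀.val.toRingHom j
      (fun c => congrArg Subtype.val ((AlgEquiv.ofInjective φ hinj).apply_symm_apply (Subalgebra.inclusion hle c)))
      _ rfl Φ he
  · haveI := h
    haveI : Module.Flat R M := Module.Flat.trans R (R ⊗[A₀] A) M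
    haveI : Algebra.FinitePresentation R M := Algebra.FinitePresentation.trans R (R ⊗[A₀] A) M
    haveI := geometricallyReduced_base (A₀ := A₀) R A M
    exact idem_of_geometricallyReduced R M T L ψ he

/-- strict localizations of flat algebras with separable fibres are 0-acyclic -/
theorem isZeroAcyclic_sep {A₀ B A : Type u} [CommRing A₀] [CommRing B] [CommRing A] [Algebra A₀ B]
    [Algebra A₀ A] [Module.Flat A₀ A] [GeometricallyReduced (Spec.map (CommRingCat.ofHom (algebraMap A₀ A)))]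
    (h : IsNoetherianRing A₀ ∨ Algebra.FinitePresentation A₀ A) {RY RX : Type u} [CommRing RY] [CommRing RX]
    [HenselianLocalRing RY] [IsSepClosed (ResidueField RY)] [HenselianLocalRing RX] [IsSepClosed (ResidueField RX)]
    [Algebra B RY] [Algebra (B ⊗[A₀] A) RX] [Algebra RY RX] [IsLocalHom (algebraMap RY RX)]
    (hcompat : (algebraMap RY RX).comp (algebraMap B RY) =
      (algebraMap (B ⊗[A₀] A) RX).comp Algebra.TensorProduct.includeLeftRingHom)
    {ι κ : Type u} {G : ι → Type u} [∀ i, CommRing (G i)] [∀ i, Algebra B (G i)]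
    [∀ i, Algebra.Etale B (G i)] {g : ∀ i, G i →ₐ[B] RY} (hG : DirColim.IsColim g)
    {H : κ → Type u} [∀ i, CommRing (H i)] [∀ i, Algebra (B ⊗[A₀] A) (H i)]
    [∀ i, Algebra.Etale (B ⊗[A₀] A) (H i)] {g' : ∀ i, H i →ₐ[B ⊗[A₀] A] RX} (hH : DirColim.IsColim g') :
    EtAcyc.IsZeroAcyclic (Spec.map (CommRingCat.ofHom (algebraMap RY RX))) := by
  classical
  letI : Algebra A₀ RY := ((algebraMap B RY).comp (algebraMap A₀ B)).toAlgebra
  let C := RY ⊗[A₀] A
  let iA : A →+* C := (Algebra.TensorProduct.includeRight : A →ₐ[A₀] C).toRingHom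
  let βR : B →+* C := (algebraMap RY C).comp (algebraMap B RY)
  have hφ : βR.comp (algebraMap A₀ B) = iA.comp (algebraMap A₀ A) := RingHom.ext fun c =>
    ((Algebra.TensorProduct.includeRight : A →ₐ[A₀] C).commutes c).symm
  let φW : B ⊗[A₀] A →+* C := tlift βR iA hφ
  let aA : A →+* RX := (algebraMap (B ⊗[A₀] A) RX).comp
    (Algebra.TensorProduct.includeRight : A →ₐ[A₀] B ⊗[A₀] A).toRingHom
  letI : Algebra A₀ RX := ((algebraMap RY RX).comp (algebraMap A₀ RY)).toAlgebra
  haveI : IsScalarTower A₀ RY RX := .of_algebraMap_eq fun _ => rfl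
  let aA' : A →ₐ[A₀] RX := { aA with
    commutes' := fun c => by
      show algebraMap (B ⊗[A₀] A) RX ((Algebra.TensorProduct.includeRight : A →ₐ[A₀] B ⊗[A₀] A) (algebraMap A₀ A c)) = _
      rw [AlgHom.commutes]
      exact (congr($hcompat (algebraMap A₀ B c))).symm }
  let α : C →ₐ[RY] RX := Algebra.TensorProduct.lift (Algebra.ofId RY RX) aA' fun _ _ => .all _ _
  have hφB : ∀ b, φW (Algebra.TensorProduct.includeLeftRingHom b) =
      algebraMap RY C (RingHom.id RY (algebraMap B RY b)) := fun b =>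
    (tlift_tmul βR iA hφ b 1).trans (by rw [map_one, mul_one]; rfl)
  have hαW : ∀ w, α (φW w) = RingHom.id RX (algebraMap (B ⊗[A₀] A) RX w) := fun w => by
    have : α.toRingHom.comp φW = algebraMap (B ⊗[A₀] A) RX := Algebra.TensorProduct.ringHom_ext
      (RingHom.ext fun b => by
        show α (φW (Algebra.TensorProduct.includeLeftRingHom b)) = algebraMap _ RX _
        rw [hφB, α.commutes]
        exact congr($hcompat b))
      (RingHom.ext fun a => by
        show α (φW ((1 : B) ⊗ₜ a)) = aA a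
        rw [show φW ((1 : B) ⊗ₜ a) = (1 : RY) ⊗ₜ[A₀] a from
          (tlift_tmul βR iA hφ 1 a).trans (by rw [map_one, one_mul]; rfl)]
        exact (Algebra.TensorProduct.lift_tmul (Algebra.ofId RY RX) aA' (fun _ _ => .all _ _) 1 a).trans
          (by rw [map_one, one_mul]; rfl))
    exact congr($this w)
  have hsq : (RingHom.id RX).comp (algebraMap RY RX) = (algebraMap RY RX).comp (RingHom.id RY) := rfl
  have hsurjY : Function.Surjective (RingHom.id RY) := Function.surjective_id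
  have hsurjX : Function.Surjective (RingHom.id RX) := Function.surjective_id
  have hker : RingHom.ker (RingHom.id RX) ≤ (RingHom.ker (RingHom.id RY)).map (algebraMap RY RX) := fun x hx => by
    rw [show x = 0 from hx]
    exact zero_mem _
  have hflat : Module.Flat RY RX := flat_strict Algebra.TensorProduct.includeLeftRingHom (RingHom.id RY)
    (RingHom.id RX) φW α hcompat hsq hφB hαW hG hH hsurjY hsurjX hker
  haveI := hflat
  haveI : Module.FaithfullyFlat RY RX := Module.FaithfullyFlat.of_flat_of_isLocalHom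
  let e := Spec.map (CommRingCat.ofHom (algebraMap RY RX))
  haveI hGC : GeometricallyConnected e := by
    refine ⟨fun L _ y Z f₁ f₂ hZ => ?_⟩
    obtain ⟨φy, rfl⟩ := Spec.map_surjective y
    letI : Algebra RY L := φy.hom.toAlgebra
    suffices hc : ConnectedSpace (PrimeSpectrum (L ⊗[RY] RX)) by
      haveI : ConnectedSpace ↥(Spec (CommRingCat.of (L ⊗[RY] RX))) := hc
      let E : Z ≅ Spec (CommRingCat.of (L ⊗[RY] RX)) := hZ.flip.isoPullback ≪≫ pullbackSpecIso RY L RX
      exact E.inv.homeomorph.surjective.connectedSpace E.inv.homeomorph.continuous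
    let L' := AlgebraicClosure L
    haveI : IsScalarTower RY L L' := inferInstance
    refine connectedSpace_of_idempotent fun x hx => ?_
    let π : L ⊗[RY] RX →ₐ[RY] L' ⊗[RY] RX :=
      Algebra.TensorProduct.map (IsScalarTower.toAlgHom RY L L') (AlgHom.id RY RX)
    have hπ : Function.Injective π :=
      Module.Flat.rTensor_preserves_injective_linearMap (M := RX) (IsScalarTower.toAlgHom RY L L').toLinearMap
        (algebraMap L L').injective
    rcases idem_strict Algebra.TensorProduct.includeLeftRingHom (RingHom.id RY) (RingHom.id RX) φW α hcompat hsq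
        hφB hαW hG hH hsurjY hsurjX hker L'
        (fun M _ _ _ _ _ ψ _ hd => idem_base (A₀ := A₀) RY A M RX L' h ψ hd) (hx.map π) with h0 | h0
    · exact .inl (hπ (h0.trans (map_zero π).symm))
    · exact .inr (hπ (h0.trans (map_one π).symm))
  refine isZeroAcyclic_of_quot e fun {U} p _ => ?_
  haveI : Flat e := (HasRingHomProperty.Spec_iff (P := @Flat)).2 (RingHom.flat_algebraMap_iff.2 hflat)
  haveI : Surjective e := ⟨PrimeSpectrum.comap_surjective_of_faithfullyFlat⟩
  exact isQuotientMap_fst p e (.inl inferInstance)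

/-- flat morphisms with separable fibres are universally locally 0-acyclic -/
theorem isULocZeroAcyclic_of_sep {X Y : Scheme.{u}} (g : X ⟶ Y) [Flat g]
    (hsep : ∀ (K : Type u) [Field K] (k : Spec (CommRingCat.of K) ⟶ Y), AlgebraicGeometry.IsReduced (pullback g k))
    (h : (IsLocallyNoetherian X ∧ IsLocallyNoetherian Y) ∨ LocallyOfFinitePresentation g) :
    EtAcyc.IsULocZeroAcyclic g := by
  intro X₁ Y₁ g₁ b' b hpb x RY RX _ _ _ _ _ _ _ _ _ _ _ _ hcomp
  let y : Y := g (b' x)
  have hy₁ : b (g₁ x) = y := by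
    rw [← Scheme.Hom.comp_apply, ← hpb.w, Scheme.Hom.comp_apply]
  obtain ⟨A₀, i₀, hi₀, hy₀, -⟩ := Scheme.exists_affine_mem_range_and_range_subset (x := y)
    (U := (⊤ : Y.Opens)) trivial
  obtain ⟨A, iA, hiA, hxA, hiA'⟩ := Scheme.exists_affine_mem_range_and_range_subset (x := b' x)
    (U := g ⁻¹ᵁ i₀.opensRange) hy₀
  obtain ⟨B, iB, hiB, hyB, hiB'⟩ := Scheme.exists_affine_mem_range_and_range_subset (x := g₁ x)
    (U := b ⁻¹ᵁ i₀.opensRange) (by
      show b (g₁ x) ∈ Set.range i₀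
      rw [hy₁]; exact hy₀)
  obtain ⟨φA, hφA⟩ := Spec.map_surjective (IsOpenImmersion.lift i₀ (iA ≫ g) (by
    rintro _ ⟨t, rfl⟩
    rw [Scheme.Hom.comp_apply]
    exact hiA' ⟨t, rfl⟩))
  obtain ⟨φB, hφB⟩ := Spec.map_surjective (IsOpenImmersion.lift i₀ (iB ≫ b) (by
    rintro _ ⟨t, rfl⟩
    rw [Scheme.Hom.comp_apply]
    exact hiB' ⟨t, rfl⟩))
  have hA : Spec.map φA ≫ i₀ = iA ≫ g := by rw [hφA, IsOpenImmersion.lift_fac]
  have hB : Spec.map φB ≫ i₀ = iB ≫ b := by rw [hφB, IsOpenImmersion.lift_fac]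
  letI : Algebra A₀ A := φA.hom.toAlgebra
  letI : Algebra A₀ B := φB.hom.toAlgebra
  -- properties of the chart
  haveI : Flat (Spec.map φA ≫ i₀) := by rw [hA]; infer_instance
  haveI hfA : Flat (Spec.map φA) := flat_of_comp_etale (Spec.map φA) i₀
  haveI : Module.Flat A₀ A := RingHom.flat_algebraMap_iff.1 ((HasRingHomProperty.Spec_iff (P := @Flat)).1 hfA)
  haveI : GeometricallyReduced (Spec.map (CommRingCat.ofHom (algebraMap A₀ A))) := by
    refine ⟨fun L _ z Z f₁ f₂ hZ => ?_⟩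
    haveI := hsep L (z ≫ i₀)
    haveI : AlgebraicGeometry.IsReduced (pullback (Spec.map φA) z) :=
      isReduced_of_isOpenImmersion (pullback.map (Spec.map φA) z g (z ≫ i₀) iA (𝟙 _) i₀ hA (Category.id_comp _).symm)
    exact isReduced_of_isOpenImmersion hZ.isoPullback.hom
  have hcase : IsNoetherianRing A₀ ∨ Algebra.FinitePresentation A₀ A := by
    rcases h with ⟨-, hY⟩ | hfp
    · haveI := hY
      haveI : IsLocallyNoetherian (Spec A₀) := isLocallyNoetherian_of_isOpenImmersion i₀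
      exact .inl (isLocallyNoetherian_Spec.1 inferInstance)
    · haveI := hfp
      haveI : LocallyOfFinitePresentation (Spec.map φA ≫ i₀) := by rw [hA]; infer_instance
      haveI : LocallyOfFinitePresentation (Spec.map φA) :=
        MorphismProperty.of_postcomp @LocallyOfFinitePresentation (W' := @IsOpenImmersion) (Spec.map φA) i₀
          inferInstance inferInstance
      exact .inr (RingHom.finitePresentation_algebraMap.1
        ((HasRingHomProperty.Spec_iff (P := @LocallyOfFinitePresentation)).1 inferInstance))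
  let P := pullback (Spec.map φB) (Spec.map φA)
  let m : P ⟶ pullback b g := pullback.map (Spec.map φB) (Spec.map φA) b g iB iA i₀ hB hA
  haveI : IsOpenImmersion m := inferInstance
  let sA : Spec (CommRingCat.of (B ⊗[A₀] A)) ⟶ P := (pullbackSpecIso A₀ B A).inv
  let j : Spec (CommRingCat.of (B ⊗[A₀] A)) ⟶ X₁ := sA ≫ m ≫ hpb.flip.isoPullback.inv
  haveI : IsOpenImmersion j := inferInstance
  have hxj : x ∈ Set.range j := by
    have h1 : hpb.flip.isoPullback.hom x ∈ Set.range m := by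
      rw [Scheme.Pullback.range_map]
      refine ⟨?_, ?_⟩
      · show (hpb.flip.isoPullback.hom ≫ pullback.fst b g) x ∈ Set.range iB
        rw [hpb.flip.isoPullback_hom_fst]; exact hyB
      · show (hpb.flip.isoPullback.hom ≫ pullback.snd b g) x ∈ Set.range iA
        rw [hpb.flip.isoPullback_hom_snd]; exact hxA
    obtain ⟨t, ht⟩ := h1
    obtain ⟨t', rfl⟩ := (pullbackSpecIso A₀ B A).inv.surjective t
    refine ⟨t', ?_⟩
    show (sA ≫ m ≫ hpb.flip.isoPullback.inv) t' = x
    rw [Scheme.Hom.comp_apply, Scheme.Hom.comp_apply,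
      show m (sA t') = hpb.flip.isoPullback.hom x from ht, ← Scheme.Hom.comp_apply, Iso.hom_inv_id]
    rfl
  have hjg : j ≫ g₁ = Spec.map (CommRingCat.ofHom (Algebra.TensorProduct.includeLeftRingHom :
      B →+* B ⊗[A₀] A)) ≫ iB := by
    show (sA ≫ m ≫ hpb.flip.isoPullback.inv) ≫ g₁ = _
    rw [Category.assoc, Category.assoc, hpb.flip.isoPullback_inv_fst]
    show (pullbackSpecIso A₀ B A).inv ≫ pullback.lift _ _ _ ≫ pullback.fst b g = _
    rw [pullback.lift_fst, ← Category.assoc]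
    congr 1
    exact pullbackSpecIso_inv_fst A₀ B A
  obtain ⟨βY, hβY, ιY, G, _, _, _, gY, hG⟩ := exists_strict_colim iB (g₁ x) hyB RY
  obtain ⟨βX, hβX, ιX, H, _, _, _, gX, hH⟩ := exists_strict_colim j x hxj RX
  letI : Algebra B RY := βY.toAlgebra
  letI : Algebra (B ⊗[A₀] A) RX := βX.toAlgebra
  have hcompat : (algebraMap RY RX).comp (algebraMap B RY) =
      (algebraMap (B ⊗[A₀] A) RX).comp Algebra.TensorProduct.includeLeftRingHom := by
    have e : Spec.map (CommRingCat.ofHom ((algebraMap RY RX).comp βY)) ≫ iB =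
        Spec.map (CommRingCat.ofHom (βX.comp Algebra.TensorProduct.includeLeftRingHom)) ≫ iB := by
      rw [CommRingCat.ofHom_comp, CommRingCat.ofHom_comp, Spec.map_comp, Spec.map_comp, Category.assoc,
        Category.assoc, hβY, ← hjg, ← Category.assoc (Spec.map (CommRingCat.ofHom βX)), hβX, Category.assoc,
        ← Scheme.SpecMap_stalkMap_fromSpecStalk g₁]
      simp only [← Category.assoc]
      congr 1
      rw [← Spec.map_comp, ← Spec.map_comp]
      congr 1
      exact CommRingCat.hom_ext hcomp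
    rw [cancel_mono] at e
    exact congrArg CommRingCat.Hom.hom (Spec.map_injective e)
  haveI : HenselianLocalRing RY := _root_.Hensel.IsStrictHenselization.henselian (Y₁.presheaf.stalk (g₁ x))
  haveI : HenselianLocalRing RX := _root_.Hensel.IsStrictHenselization.henselian (X₁.presheaf.stalk x)
  haveI : IsSepClosed (ResidueField RY) :=
    haveI := (_root_.Hensel.IsStrictHenselization.isSepClosure :
      IsSepClosure (ResidueField (Y₁.presheaf.stalk (g₁ x))) (ResidueField RY))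
    IsSepClosure.sep_closed (ResidueField (Y₁.presheaf.stalk (g₁ x)))
  haveI : IsSepClosed (ResidueField RX) :=
    haveI := (_root_.Hensel.IsStrictHenselization.isSepClosure :
      IsSepClosure (ResidueField (X₁.presheaf.stalk x)) (ResidueField RX))
    IsSepClosure.sep_closed (ResidueField (X₁.presheaf.stalk x))
  exact isZeroAcyclic_sep hcase hcompat hG hH

end Groth.Agent.H0FBC.OverField
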