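import Groth.Agent.H0FBC.StageConn
import Groth.Agent.H0FBC.SepFibres
import Groth.Agent.H0FBC.FieldChart
import Groth.Agent.FDescent.UnivOpen

/-!
# Universal effective descent along universally open locally 0-acyclic surjections
-/

set_option autoImplicit false
universe u

open CategoryTheory CategoryTheory.Limits AlgebraicGeometry Opposite

attribute [-instance] CategoryTheory.catToReflQuiver

namespace Groth.Agent.H0FBC

set_option backward.isDefEq.respectTransparency.types false

/-- effective descent along universally open locally 0-acyclic morphisms -/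
theorem isEffective_of_univOpen {X' X : Scheme.{u}} (f : X' ⟶ X) [UniversallyOpen f]
    (hf : EtAcyc.IsLocZeroAcyclic f) {F' : EtDesc.Sh X'}
    (φ : (EtDesc.pullSh (pullback.fst f f)).obj F' ≅ (EtDesc.pullSh (pullback.snd f f)).obj F')
    (hφ : EtDesc.IsCocycle F' φ) : EtDesc.IsEffective f F' φ :=
  BigSiteLib.DescSec.isEffective_of_stages hφ (hasStages_of_isLocZeroAcyclic hφ hf)

/-- universal effective descent along universally open universally locally 0-acyclic morphisms -/
theorem isEffective_univ {X Y : Scheme.{u}} (g : X ⟶ Y) [UniversallyOpen g] (hg : EtAcyc.IsULocZeroAcyclic g)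
    {X₁ Y₁ : Scheme.{u}} (g₁ : X₁ ⟶ Y₁) (b' : X₁ ⟶ X) (b : Y₁ ⟶ Y) (h : IsPullback b' g₁ g b)
    (F' : EtDesc.Sh X₁) (φ : (EtDesc.pullSh (pullback.fst g₁ g₁)).obj F' ≅ (EtDesc.pullSh (pullback.snd g₁ g₁)).obj F')
    (hφ : EtDesc.IsCocycle F' φ) : EtDesc.IsEffective g₁ F' φ :=
  haveI : UniversallyOpen g₁ := MorphismProperty.of_isPullback h ‹UniversallyOpen g›
  isEffective_of_univOpen g₁ (hg g₁ b' b h) φ hφ

end Groth.Agent.H0FBC
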