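import Groth.Agent.H0FBC.GeomRedCov
import Groth.Agent.EtFound.FiniteBaseChange

/-!
# Inverse images along flat morphisms with geometrically reduced fibres preserve products
-/

set_option autoImplicit false
set_option linter.style.haveILetI false
set_option linter.unusedSectionVars false
set_option backward.isDefEq.respectTransparency false
set_option backward.isDefEq.respectTransparency.types false
universe u

open CategoryTheory CategoryTheory.Limits AlgebraicGeometry TopologicalSpace Opposite

namespace Groth.Agent.H0FBC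

open H0PBC EtFound

variable {A : Type (u + 2)} [Category.{u + 1} A] [HasColimitsOfSize.{u, u} A] [HasProducts.{u} A]
  [∀ {P Q : Scheme.{u}} (h : P ⟶ Q),
    ((EtCoh.bc h).sheafPushforwardContinuous A Q.smallEtaleTopology P.smallEtaleTopology).IsRightAdjoint]
  {FA : A → A → Type*} {CA : A → Type (u + 1)}
  [∀ M N, FunLike (FA M N) (CA M) (CA N)] [ConcreteCategory.{u + 1} A FA]
  [PreservesFilteredColimitsOfSize.{u, u} (forget A)]
  [∀ Z : Scheme.{u}, Z.smallEtaleTopology.HasSheafCompose (forget A)] [(forget A).ReflectsIsomorphisms]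
  [PreservesLimitsOfSize.{u, u} (forget A)]

include FA CA in
/-- a morphism of sheaves that is bijective on the members of enough coverings is an isomorphism -/
theorem isIso_of_bijective_cofinal {X : Scheme.{u}} {F G : Sheaf X.smallEtaleTopology A} (φ : F ⟶ G)
    (P : X.Etale → Prop) (hP : ∀ (U : X.Etale) (x : U.left), ∃ (U' : X.Etale) (m : U' ⟶ U) (y : U'.left),
      m.left y = x ∧ P U')
    (h : ∀ U, P U → Function.Bijective (φ.hom.app (op U))) : IsIso φ := by
  refine isIso_of_stalks φ fun Ω _ _ η => ⟨fun p₁ p₂ e => ?_, fun q => ?_⟩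
  · obtain ⟨U₁, z₁, s₁, rfl⟩ := (Scheme.pointSmallEtale η).toPresheafFiber_jointly_surjective p₁
    obtain ⟨U₂, z₂, s₂, rfl⟩ := (Scheme.pointSmallEtale η).toPresheafFiber_jointly_surjective p₂
    obtain ⟨⟨T, t⟩, ⟨a₀, ha₀⟩, ⟨b₀, hb₀⟩, -⟩ := IsCofilteredOrEmpty.cone_objs
      ((Scheme.pointSmallEtale η).fiber.elementsMk U₁ z₁) ((Scheme.pointSmallEtale η).fiber.elementsMk U₂ z₂)
    obtain ⟨a, rfl⟩ : ∃ a : T ⟶ U₁, (Scheme.pointSmallEtale η).fiber.map a t = z₁ := ⟨a₀, ha₀⟩
    obtain ⟨b, rfl⟩ : ∃ b : T ⟶ U₂, (Scheme.pointSmallEtale η).fiber.map b t = z₂ := ⟨b₀, hb₀⟩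
    rw [← (Scheme.pointSmallEtale η).toPresheafFiber_w_apply a t F.obj s₁,
      ← (Scheme.pointSmallEtale η).toPresheafFiber_w_apply b t F.obj s₂] at e ⊢
    generalize F.obj.map a.op s₁ = r₁ at e ⊢
    generalize F.obj.map b.op s₂ = r₂ at e ⊢
    have e' := (((Scheme.pointSmallEtale η).toPresheafFiber_naturality_apply φ.hom T t r₁).symm.trans e).trans
      ((Scheme.pointSmallEtale η).toPresheafFiber_naturality_apply φ.hom T t r₂)
    obtain ⟨U, k, z, hz, hk⟩ := ((Scheme.pointSmallEtale η).toPresheafFiber_eq_iff' T t _ _).1 e'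
    obtain ⟨U', m, y, hy, hU'⟩ := hP U ((z.left : Spec (CommRingCat.of Ω) ⟶ U.left) (default : Spec (CommRingCat.of Ω)))
    obtain ⟨z', hz', -⟩ := EtFound.exists_lift_point m z y hy
    rw [← hz, ← hz', ← (Scheme.pointSmallEtale η).toPresheafFiber_w_apply k _ F.obj r₁,
      ← (Scheme.pointSmallEtale η).toPresheafFiber_w_apply k _ F.obj r₂,
      ← (Scheme.pointSmallEtale η).toPresheafFiber_w_apply m z' F.obj (F.obj.map k.op r₁),
      ← (Scheme.pointSmallEtale η).toPresheafFiber_w_apply m z' F.obj (F.obj.map k.op r₂)]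
    refine congrArg _ ((h U' hU').1 ?_)
    rw [NatTrans.naturality_apply φ.hom, NatTrans.naturality_apply φ.hom, NatTrans.naturality_apply φ.hom,
      NatTrans.naturality_apply φ.hom, hk]
  · obtain ⟨U, z, s, rfl⟩ := (Scheme.pointSmallEtale η).toPresheafFiber_jointly_surjective q
    obtain ⟨U', m, y, hy, hU'⟩ := hP U ((z.left : Spec (CommRingCat.of Ω) ⟶ U.left) (default : Spec (CommRingCat.of Ω)))
    obtain ⟨z', hz', -⟩ := EtFound.exists_lift_point m z y hy
    obtain ⟨r, hr⟩ := (h U' hU').2 (G.obj.map m.op s)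
    refine ⟨(Scheme.pointSmallEtale η).toPresheafFiber U' z' F.obj r, ?_⟩
    refine ((Scheme.pointSmallEtale η).toPresheafFiber_naturality_apply φ.hom U' z' r).trans ?_
    rw [hr, ← hz']
    exact (Scheme.pointSmallEtale η).toPresheafFiber_w_apply m z' G.obj s

variable {X S : Scheme.{u}} (f : X ⟶ S)

include FA CA in
/-- inverse image preserves products -/
theorem preservesProduct [Flat f] [LocallyOfFinitePresentation f] [GeometricallyReduced f] {ι : Type u}
    (G : ι → Sheaf S.smallEtaleTopology A) : PreservesLimit (Discrete.functor G) (pullA A f) := by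
  have hev : ∀ {Z : Scheme.{u}} (W : Z.Etale) (H : ι → Sheaf Z.smallEtaleTopology A),
      Function.Bijective fun (x : ToType ((∏ᶜ H).obj.obj (op W))) i => (Pi.π H i).hom.app (op W) x := by
    intro Z W H
    let E : Sheaf Z.smallEtaleTopology A ⥤ Type (u + 1) :=
      sheafToPresheaf _ _ ⋙ (evaluation _ _).obj (op W) ⋙ forget A
    let t := isLimitFanMkObjOfIsLimit E H (fun i => Pi.π H i) (productIsProduct H)
    have hu := (Types.isLimit_iff _).1 ⟨t⟩
    refine ⟨fun x₁ x₂ hx => ?_, fun y => ?_⟩
    · have hsec : (fun j : Discrete ι => E.map (Pi.π H j.as) x₁) ∈ Functor.sections (Discrete.functor fun i => E.obj (H i)) := by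
        rintro ⟨i⟩ ⟨j⟩ k
        obtain rfl := Discrete.eq_of_hom k
        obtain rfl : k = 𝟙 _ := Subsingleton.elim _ _
        rw [CategoryTheory.Functor.map_id]
        rfl
      exact (hu _ hsec).unique (fun j => rfl) (fun j => (congrFun hx j.as).symm)
    · have hsec : (fun j : Discrete ι => y j.as) ∈ Functor.sections (Discrete.functor fun i => E.obj (H i)) := by
        rintro ⟨i⟩ ⟨j⟩ k
        obtain rfl := Discrete.eq_of_hom k
        obtain rfl : k = 𝟙 _ := Subsingleton.elim _ _
        rw [CategoryTheory.Functor.map_id]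
        rfl
      obtain ⟨x, hx, -⟩ := hu _ hsec
      exact ⟨x, funext fun i => hx ⟨i⟩⟩
  let φ := piComparison (pullA A f) G
  have hφ : IsIso φ := by
    refine isIso_of_bijective_cofinal φ
      (fun U => ∃ (V : S.Etale) (a : U.left ⟶ V.left), a ≫ V.hom = U.hom ≫ f ∧
        (QuasiCompact a ∨ UniversallyOpen a) ∧ GeometricallyConnected a)
      (fun U x => ?_) fun U hU => ?_
    · obtain ⟨U', m, y, V, a, hy, ha, hq, hc⟩ := exists_factorization f U x
      exact ⟨U', m, y, hy, V, a, ha, hq, hc⟩
    obtain ⟨V, a, ha, hq, hc⟩ := hU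
    haveI : AlgebraicGeometry.Etale U.hom := U.prop
    haveI : AlgebraicGeometry.Etale V.hom := V.prop
    haveI : Flat (a ≫ V.hom) := by rw [ha]; infer_instance
    haveI := flat_of_comp_etale a V.hom
    haveI := hc
    let pb := fun (H : Sheaf S.smallEtaleTopology A) (τ : ToType (H.obj.obj (op V))) =>
      ((pullA A f).obj H).obj.map (toBC f a ha).op (pullSect f H τ)
    have hpb : ∀ H, Function.Bijective (pb H) := fun H =>
      ⟨fun τ₁ τ₂ e => eq_of_pullSect_eq f H a ha τ₁ τ₂ e, fun σ => exists_pullSect_eq f H a ha σ hq⟩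
    have hnat : ∀ {H H' : Sheaf S.smallEtaleTopology A} (k : H ⟶ H') τ,
        ((pullA A f).map k).hom.app (op U) (pb H τ) = pb H' (k.hom.app (op V) τ) := by
      intro H H' k τ
      refine (NatTrans.naturality_apply ((pullA A f).map k).hom (toBC f a ha).op (pullSect f H τ)).trans
        (congrArg (((pullA A f).obj H').obj.map (toBC f a ha).op) ?_)
      exact ((ConcreteCategory.comp_apply _ _ τ).symm.trans (ConcreteCategory.congr_hom
        (congrArg (fun n => n.hom.app (op V))
          (((EtCoh.bc f).sheafAdjunctionContinuous A S.smallEtaleTopology X.smallEtaleTopology).unit.naturality k).symm)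
        τ)).trans (ConcreteCategory.comp_apply _ _ τ)
    have key : ∀ τ i, (Pi.π (fun i => (pullA A f).obj (G i)) i).hom.app (op U) (φ.hom.app (op U) (pb _ τ)) =
        pb (G i) ((Pi.π G i).hom.app (op V) τ) := by
      intro τ i
      rw [← hnat, ← ConcreteCategory.comp_apply]
      exact ConcreteCategory.congr_hom (congrArg (fun n => n.hom.app (op U)) (piComparison_comp_π (pullA A f) G i)) _
    constructor
    · intro x₁ x₂ e
      obtain ⟨τ₁, rfl⟩ := (hpb _).2 x₁
      obtain ⟨τ₂, rfl⟩ := (hpb _).2 x₂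
      refine congrArg _ ((hev V G).1 (funext fun i => (hpb (G i)).1 ?_))
      rw [← key, ← key, e]
    · intro y
      choose τ' hτ' using fun i => (hpb (G i)).2 ((Pi.π (fun i => (pullA A f).obj (G i)) i).hom.app (op U) y)
      obtain ⟨τ, hτ⟩ := (hev V G).2 τ'
      refine ⟨pb _ τ, (hev U _).1 (funext fun i => ?_)⟩
      show _ = (Pi.π (fun i => (pullA A f).obj (G i)) i).hom.app (op U) y
      refine (key τ i).trans ((congrArg (pb (G i)) ?_).trans (hτ' i))
      exact congrFun hτ i
  exact PreservesProduct.of_iso_comparison (pullA A f) G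

end Groth.Agent.H0FBC
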