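import Groth.Agent.EtFound.IntegralCore
import Groth.Agent.H0FBC.FlatBC
import Mathlib.RingTheory.Flat.EquationalCriterion
import Mathlib.RingTheory.RingHom.Flat

/-!
# The map between the universal etale neighbourhoods of a geometric point
-/

set_option autoImplicit false
set_option linter.style.haveILetI false
set_option linter.unusedSectionVars false
universe u

open TensorProduct

namespace Groth.Agent.H0FBC

open Groth.Agent.Hensel (Henz Nbhd existsUnique_etale_lift_of_algebra)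
open Groth.Agent

variable {B A Ω : Type u} [CommRing B] [CommRing A] [Field Ω] [Algebra B A] [Algebra A Ω] [Algebra B Ω]
  [IsScalarTower B A Ω]

/-- maps to `Henz A Ω` from etale algebras agreeing in `Ω` are equal -/
theorem henz_hom_ext {C : Type u} [CommRing C] [Algebra B C] [Algebra.Etale B C] (g₁ g₂ : C →+* Henz A Ω)
    (h₁ : g₁.comp (algebraMap B C) = (algebraMap A (Henz A Ω)).comp (algebraMap B A))
    (h₂ : g₂.comp (algebraMap B C) = (algebraMap A (Henz A Ω)).comp (algebraMap B A))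
    (h : ∀ c, Henz.proj A Ω (g₁ c) = Henz.proj A Ω (g₂ c)) : g₁ = g₂ := by
  letI : Algebra B (Henz A Ω) := ((algebraMap A (Henz A Ω)).comp (algebraMap B A)).toAlgebra
  let G₁ : C →ₐ[B] Henz A Ω := { g₁ with commutes' := fun b => congr($h₁ b) }
  let G₂ : C →ₐ[B] Henz A Ω := { g₂ with commutes' := fun b => congr($h₂ b) }
  have e : G₁ = G₂ := Hensel.algHom_ext_of_le_jacobson (HenselianRing.jac (I := RingHom.ker (Henz.proj A Ω))) G₁ G₂
    fun c => by
      show Henz.proj A Ω (g₁ c - g₂ c) = 0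
      rw [map_sub, h, sub_self]
  exact congrArg AlgHom.toRingHom e

/-- a stage over `A` above a stage over `B` -/
theorem exists_stage_above (N : Nbhd B Ω) : ∃ (M : Nbhd A Ω) (α : N.B →+* M.B),
    α.comp (algebraMap B N.B) = (algebraMap A M.B).comp (algebraMap B A) ∧ ∀ b, M.toK (α b) = N.toK b := by
  let τ : A ⊗[B] N.B →ₐ[A] Ω := Algebra.TensorProduct.lift (Algebra.ofId A Ω) N.toK fun _ _ => .all _ _
  obtain ⟨M, e, he⟩ := Hensel.Nbhd.exists_equiv (A ⊗[B] N.B) τ
  let α : N.B →+* M.B :=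
    e.symm.toRingEquiv.toRingHom.comp (Algebra.TensorProduct.includeRight (R := B) (A := A) (B := N.B)).toRingHom
  refine ⟨M, α, RingHom.ext fun b => ?_, fun b => ?_⟩
  · show e.symm ((1 : A) ⊗ₜ[B] algebraMap B N.B b) = algebraMap A M.B (algebraMap B A b)
    rw [show (1 : A) ⊗ₜ[B] algebraMap B N.B b = algebraMap A (A ⊗[B] N.B) (algebraMap B A b) from
      ((Algebra.TensorProduct.includeRight (R := B) (A := A) (B := N.B)).commutes b).trans
        (IsScalarTower.algebraMap_apply B A (A ⊗[B] N.B) b), AlgEquiv.commutes]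
  · rw [he]
    show τ (e (e.symm ((1 : A) ⊗ₜ[B] b))) = N.toK b
    rw [AlgEquiv.apply_symm_apply]
    simp [τ]

variable (B A Ω)

/-- the map of universal etale neighbourhoods exists -/
theorem exists_henzMap : ∃ ψ : Henz B Ω →+* Henz A Ω,
    ψ.comp (algebraMap B (Henz B Ω)) = (algebraMap A (Henz A Ω)).comp (algebraMap B A) ∧
    ∀ z, Henz.proj A Ω (ψ z) = Henz.proj B Ω z := by
  letI : Algebra B (Henz A Ω) := ((algebraMap A (Henz A Ω)).comp (algebraMap B A)).toAlgebra
  let pX : Henz A Ω →ₐ[B] Ω :=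
    { (Henz.proj A Ω).toRingHom with
      commutes' := fun b => ((Henz.proj A Ω).commutes (algebraMap B A b)).trans
        (IsScalarTower.algebraMap_apply B A Ω b).symm }
  have hle : (Henz.proj B Ω).range ≤ pX.range := by
    rintro _ ⟨z, rfl⟩
    obtain ⟨N, b, rfl⟩ := Henz.exists_ofB z
    obtain ⟨M, α, -, hα⟩ := exists_stage_above (A := A) N
    exact ⟨Henz.ofB M (α b), by
      show Henz.proj A Ω (Henz.ofB M (α b)) = Henz.proj B Ω (Henz.ofB N b)
      rw [Henz.proj_ofB, Henz.proj_ofB, hα]⟩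
  let J : Ideal (Henz A Ω) := RingHom.ker (Henz.proj A Ω)
  let k : Henz A Ω ⧸ J →ₐ[B] pX.range :=
    Ideal.Quotient.liftₐ J pX.rangeRestrict fun a ha => Subtype.ext ha
  have hk : Function.Bijective k := by
    refine ⟨?_, fun ⟨_, z, rfl⟩ => ⟨Ideal.Quotient.mk J z, rfl⟩⟩
    rw [injective_iff_map_eq_zero]
    intro a ha
    obtain ⟨a, rfl⟩ := Ideal.Quotient.mk_surjective a
    exact Ideal.Quotient.eq_zero_iff_mem.2 (congrArg Subtype.val ha :)
  let θ : (Henz.proj B Ω).range →ₐ[B] Henz A Ω ⧸ J :=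
    ((AlgEquiv.ofBijective k hk).symm.toAlgHom).comp (Subalgebra.inclusion hle)
  obtain ⟨g, hg, -⟩ := Henz.existsUnique_lift (R := B) (K := Ω) J θ
  refine ⟨g.toRingHom, g.comp_algebraMap, fun z => ?_⟩
  have h1 : k (Ideal.Quotient.mk J (g z)) = Subalgebra.inclusion hle ((Henz.proj B Ω).rangeRestrict z) := by
    rw [hg z]
    exact (AlgEquiv.ofBijective k hk).apply_symm_apply _
  exact (congrArg Subtype.val h1 :)

variable {B A Ω}
variable {ψ : Henz B Ω →+* Henz A Ω}
  (hψ₁ : ψ.comp (algebraMap B (Henz B Ω)) = (algebraMap A (Henz A Ω)).comp (algebraMap B A))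
  (hψ₂ : ∀ z, Henz.proj A Ω (ψ z) = Henz.proj B Ω z)

include hψ₁ hψ₂

/-- the map of universal etale neighbourhoods on stages -/
theorem henzMap_stage (N : Nbhd B Ω) : ∃ (M : Nbhd A Ω) (α : N.B →+* M.B),
    α.comp (algebraMap B N.B) = (algebraMap A M.B).comp (algebraMap B A) ∧ (∀ b, M.toK (α b) = N.toK b) ∧
      (Henz.ofB M).toRingHom.comp α = ψ.comp (Henz.ofB N).toRingHom := by
  obtain ⟨M, α, hα, hα'⟩ := exists_stage_above (A := A) N
  refine ⟨M, α, hα, hα', henz_hom_ext (B := B) _ _ ?_ ?_ fun b => ?_⟩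
  · rw [RingHom.comp_assoc, hα, ← RingHom.comp_assoc]
    exact congrArg (·.comp (algebraMap B A)) (Henz.ofB M).comp_algebraMap
  · rw [RingHom.comp_assoc, show (Henz.ofB N).toRingHom.comp (algebraMap B N.B) = algebraMap B (Henz B Ω) from
      (Henz.ofB N).comp_algebraMap]
    exact hψ₁
  · show Henz.proj A Ω (Henz.ofB M (α b)) = Henz.proj A Ω (ψ (Henz.ofB N b))
    rw [hψ₂, Henz.proj_ofB, Henz.proj_ofB, hα']

theorem isLocalHom_henzMap : IsLocalHom ψ := ⟨fun z hz => by
  rw [Henz.isUnit_iff, ← hψ₂]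
  exact Henz.isUnit_iff.1 hz⟩

open CategoryTheory AlgebraicGeometry in
/-- the map of universal etale neighbourhoods is flat -/
theorem flat_henzMap [Module.Flat B A] : ψ.Flat := by
  letI : Algebra (Henz B Ω) (Henz A Ω) := ψ.toAlgebra
  letI : Algebra B (Henz A Ω) := ((algebraMap A (Henz A Ω)).comp (algebraMap B A)).toAlgebra
  haveI : IsScalarTower B A (Henz A Ω) := .of_algebraMap_eq' rfl
  haveI : Module.Flat B (Henz A Ω) := Module.Flat.trans B A (Henz A Ω)
  show Module.Flat (Henz B Ω) (Henz A Ω)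
  refine Module.Flat.iff_forall_isTrivialRelation.2 fun {l f x} hfx => ?_
  obtain ⟨N, f', hf'⟩ := (EtFound.isColim_henz B Ω).surj_fintype f
  let φ : N.B →+* Henz A Ω := ψ.comp (Henz.ofB N).toRingHom
  haveI : AlgebraicGeometry.Etale (Spec.map (CommRingCat.ofHom (algebraMap B N.B))) :=
    (HasRingHomProperty.Spec_iff (P := @AlgebraicGeometry.Etale)).2 (RingHom.etale_algebraMap.2 inferInstance)
  haveI : AlgebraicGeometry.Flat (Spec.map (CommRingCat.ofHom φ) ≫ Spec.map (CommRingCat.ofHom (algebraMap B N.B))) := by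
    rw [← Spec.map_comp, ← CommRingCat.ofHom_comp, show φ.comp (algebraMap B N.B) = algebraMap B (Henz A Ω) from by
      rw [RingHom.comp_assoc]
      exact (congrArg ψ.comp (Henz.ofB N).comp_algebraMap).trans hψ₁]
    exact (HasRingHomProperty.Spec_iff (P := @AlgebraicGeometry.Flat)).2 (RingHom.flat_algebraMap_iff.2 inferInstance)
  have hφ : φ.Flat := (HasRingHomProperty.Spec_iff (P := @AlgebraicGeometry.Flat)).1
    (flat_of_comp_etale (Spec.map (CommRingCat.ofHom φ)) (Spec.map (CommRingCat.ofHom (algebraMap B N.B))))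
  letI : Algebra N.B (Henz A Ω) := φ.toAlgebra
  haveI : Module.Flat N.B (Henz A Ω) := hφ
  have h0 : ∑ i, f' i • x i = 0 := by
    rw [← hfx]
    exact Finset.sum_congr rfl fun i _ => congrArg (fun t => ψ t * x i) (hf' i)
  obtain ⟨k, a, y, hxy, ha⟩ := Module.Flat.isTrivialRelation_of_sum_smul_eq_zero (R := N.B) (M := Henz A Ω) (f := f') (x := x) h0
  refine ⟨k, fun i j => Henz.ofB N (a i j), y, hxy, fun j => ?_⟩
  simp only [← hf', ← map_mul, ← map_sum, ha, map_zero]

end Groth.Agent.H0FBC
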