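import Groth.Agent.H0FBC.Descent

/-!
# Transporting sections of inverse images along a commutative square
-/

set_option autoImplicit false
set_option linter.style.haveILetI false
set_option linter.unusedSectionVars false
set_option backward.isDefEq.respectTransparency false
set_option backward.isDefEq.respectTransparency.types false
universe u

open CategoryTheory CategoryTheory.Limits AlgebraicGeometry TopologicalSpace Opposite

namespace Groth.Agent.H0FBC

open H0PBC EtFound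

variable {T T' Y Z : Scheme.{u}} {A : Type (u + 2)} [Category.{u + 1} A] [HasColimitsOfSize.{u, u} A]
  [HasProducts.{u} A]
  [∀ {P Q : Scheme.{u}} (h : P ⟶ Q),
    ((EtCoh.bc h).sheafPushforwardContinuous A Q.smallEtaleTopology P.smallEtaleTopology).IsRightAdjoint]
  {FA : A → A → Type*} {CA : A → Type (u + 1)}
  [∀ M N, FunLike (FA M N) (CA M) (CA N)] [ConcreteCategory.{u + 1} A FA]
  [PreservesFilteredColimitsOfSize.{u, u} (forget A)]
  [∀ Z : Scheme.{u}, Z.smallEtaleTopology.HasSheafCompose (forget A)]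

/-- a section of `e^* F` on an etale scheme over `Y` gives a section of `p^* q^* F` on `Z`, with the same
germs -/
theorem exists_transfer_section (r : Z ⟶ Y) (e : Y ⟶ T) (p : Z ⟶ T') (q : T' ⟶ T) (w : r ≫ e = p ≫ q)
    (F : Sheaf T.smallEtaleTopology A) (W : Y.Etale) (c : Z ⟶ W.left) (hc : c ≫ W.hom = r)
    (σ : ToType (((pullA A e).obj F).obj.obj (op W))) :
    ∃ σ' : ToType (((pullA A p).obj ((pullA A q).obj F)).obj.obj (op (EtCoh.top Z))),
      ∀ (Ω : Type u) [Field Ω] [IsSepClosed Ω] (ζ : Spec (CommRingCat.of Ω) ⟶ Z),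
        ∃ x : ToType ((Scheme.pointSmallEtale ((ζ ≫ r) ≫ e)).sheafFiber.obj F),
          germ ((pullA A e).obj F) σ (ζ ≫ r) (ζ ≫ c) (by rw [Category.assoc, hc]) =
            toPullStalk e F (ζ ≫ r) ((ζ ≫ r) ≫ e) rfl x ∧
          germ ((pullA A p).obj ((pullA A q).obj F)) σ' ζ ζ (Category.comp_id _) =
            toPullStalk p ((pullA A q).obj F) ζ (ζ ≫ p) rfl
              (toPullStalk q F (ζ ≫ p) ((ζ ≫ r) ≫ e) (by rw [Category.assoc, Category.assoc, w]) x) := by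
  classical
  let G₁ := (pullA A e).obj F
  let G₂ := (pullA A q).obj F
  let G' := (pullA A p).obj G₂
  -- local representatives
  have hrep : ∀ z : Z, ∃ (U : T.Etale) (s : ToType (F.obj.obj (op U)))
      (O : ((EtCoh.bc p).obj ((EtCoh.bc q).obj U)).left.Opens),
      (∃ v ∈ O, ((EtCoh.bc p).obj ((EtCoh.bc q).obj U)).hom v = z) ∧
      ∀ (Ω : Type u) [Field Ω] [IsSepClosed Ω] (ζ : Spec (CommRingCat.of Ω) ⟶ Z)
        (a : Spec (CommRingCat.of Ω) ⟶ ((EtCoh.bc p).obj ((EtCoh.bc q).obj U)).left)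
        (ha : a ≫ ((EtCoh.bc p).obj ((EtCoh.bc q).obj U)).hom = ζ), a default ∈ O →
        ∃ hb : (a ≫ pullback.fst (pullback.snd U.hom q) p ≫ pullback.fst U.hom q) ≫ U.hom = (ζ ≫ r) ≫ e,
          germ G₁ σ (ζ ≫ r) (ζ ≫ c) (by rw [Category.assoc, hc]) =
            toPullStalk e F (ζ ≫ r) ((ζ ≫ r) ≫ e) rfl
              (germ F s ((ζ ≫ r) ≫ e) (a ≫ pullback.fst (pullback.snd U.hom q) p ≫ pullback.fst U.hom q) hb) := by
    intro z
    obtain ⟨Ω, _, _, ζ, rfl⟩ := H0PBC.exists_geom_point z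
    obtain ⟨U, s, b, hb, hgerm⟩ := exists_germ_eq e F (ζ ≫ r) ((ζ ≫ r) ≫ e) rfl
      (germ G₁ σ (ζ ≫ r) (ζ ≫ c) (by rw [Category.assoc, hc]))
    let V := (EtCoh.bc p).obj ((EtCoh.bc q).obj U)
    let m₁ : V.left ⟶ U.left := pullback.fst (pullback.snd U.hom q) p ≫ pullback.fst U.hom q
    have hm₁ : m₁ ≫ U.hom = (V.hom ≫ r) ≫ e := by
      show (pullback.fst (pullback.snd U.hom q) p ≫ pullback.fst U.hom q) ≫ U.hom =
        (pullback.snd (pullback.snd U.hom q) p ≫ r) ≫ e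
      rw [Category.assoc, Category.assoc, w, pullback.condition, pullback.condition_assoc]
    let bU : V.left ⟶ ((EtCoh.bc e).obj U).left := pullback.lift m₁ (V.hom ≫ r) hm₁
    let χ : V.left ⟶ (prodEt W ((EtCoh.bc e).obj U)).left := pullback.lift (V.hom ≫ c) bU (by
      rw [Category.assoc, hc]; exact (pullback.lift_snd _ _ _).symm)
    have hO : ∀ (Ω : Type u) [Field Ω] [IsSepClosed Ω] (ζ : Spec (CommRingCat.of Ω) ⟶ Z)
        (a : Spec (CommRingCat.of Ω) ⟶ V.left) (ha : a ≫ V.hom = ζ) (hb : (a ≫ m₁) ≫ U.hom = (ζ ≫ r) ≫ e),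
        a default ∈ χ ⁻¹ᵁ agree G₁ σ (pullSect e F s) ↔
          germ G₁ σ (ζ ≫ r) (ζ ≫ c) (by rw [Category.assoc, hc]) =
            toPullStalk e F (ζ ≫ r) ((ζ ≫ r) ≫ e) rfl (germ F s ((ζ ≫ r) ≫ e) (a ≫ m₁) hb) := by
      intro Ω _ _ ζ a ha hb
      have h1 : (ζ ≫ c) ≫ W.hom = ζ ≫ r := by rw [Category.assoc, hc]
      have h2 : (a ≫ bU) ≫ ((EtCoh.bc e).obj U).hom = ζ ≫ r := by
        rw [← ha, Category.assoc a, Category.assoc a]
        exact congrArg (a ≫ ·) (pullback.lift_snd _ _ _)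
      have he : a ≫ χ = pullback.lift (ζ ≫ c) (a ≫ bU) (h1.trans h2.symm) := by
        refine pullback.hom_ext ?_ ?_
        · rw [Category.assoc, pullback.lift_fst, pullback.lift_fst, ← ha, Category.assoc]
        · rw [Category.assoc, pullback.lift_snd, pullback.lift_snd]
      show χ (a default) ∈ agree G₁ σ (pullSect e F s) ↔ _
      rw [← Scheme.Hom.comp_apply, he]
      refine (mem_agree_iff G₁ σ (pullSect e F s) (ζ ≫ r) _ h1 _ h2).trans ?_
      rw [germ_pullSect e F (ζ ≫ r) ((ζ ≫ r) ≫ e) rfl s (a ≫ bU) h2 (a ≫ m₁) hb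
        ((Category.assoc _ _ _).trans (congrArg (a ≫ ·) (pullback.lift_fst _ _ _)))]
    have hbq : (pullback.lift b (ζ ≫ p) (by rw [hb, Category.assoc, Category.assoc, w]) :
        Spec (CommRingCat.of Ω) ⟶ pullback U.hom q) ≫ pullback.snd U.hom q = ζ ≫ p := pullback.lift_snd _ _ _
    let a₀ : Spec (CommRingCat.of Ω) ⟶ V.left := pullback.lift _ ζ hbq
    have ha₀ : a₀ ≫ V.hom = ζ := pullback.lift_snd _ _ _
    have hb₀ : a₀ ≫ m₁ = b := by
      refine (Category.assoc _ _ _).symm.trans ?_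
      exact (congrArg (· ≫ pullback.fst U.hom q) (pullback.lift_fst _ _ _)).trans (pullback.lift_fst _ _ _)
    refine ⟨U, s, χ ⁻¹ᵁ agree G₁ σ (pullSect e F s), ⟨a₀ default, ?_, ?_⟩, fun Ω' _ _ ζ' a ha hm => ?_⟩
    · refine (hO Ω ζ a₀ ha₀ (by rw [hb₀, hb])).2 (hgerm.symm.trans ?_)
      exact congrArg _ (by congr 1; exact hb₀.symm)
    · exact (Scheme.Hom.comp_apply a₀ V.hom default).symm.trans (congrArg (fun k : Spec (CommRingCat.of Ω) ⟶ Z => k default) ha₀)
    · have hb' : (a ≫ m₁) ≫ U.hom = (ζ' ≫ r) ≫ e := by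
        rw [Category.assoc, hm₁, ← ha, Category.assoc a, Category.assoc a]
      exact ⟨hb', (hO Ω' ζ' a ha hb').1 hm⟩
  choose U s O hmem hO using hrep
  let V : Z → Z.Etale := fun z => (EtCoh.bc p).obj ((EtCoh.bc q).obj (U z))
  let gk : ∀ z : Z, restrictEtale (V z) (O z) ⟶ EtCoh.top Z := fun z =>
    MorphismProperty.Over.homMk ((O z).ι ≫ (V z).hom) (Category.comp_id _) trivial
  let sk : ∀ z : Z, ToType (G'.obj.obj (op (restrictEtale (V z) (O z)))) := fun z =>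
    G'.obj.map (restrictEtaleHom (V z) (O z)).op (pullSect p G₂ (pullSect q F (s z)))
  have hsk : ∀ (z : Z) (Ω : Type u) [Field Ω] [IsSepClosed Ω] (ζ : Spec (CommRingCat.of Ω) ⟶ Z)
      (a : Spec (CommRingCat.of Ω) ⟶ (restrictEtale (V z) (O z)).left)
      (ha : a ≫ (restrictEtale (V z) (O z)).hom = ζ),
      ∃ x, germ G₁ σ (ζ ≫ r) (ζ ≫ c) (by rw [Category.assoc, hc]) = toPullStalk e F (ζ ≫ r) ((ζ ≫ r) ≫ e) rfl x ∧
        germ G' (sk z) ζ a ha = toPullStalk p G₂ ζ (ζ ≫ p) rfl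
          (toPullStalk q F (ζ ≫ p) ((ζ ≫ r) ≫ e) (by rw [Category.assoc, Category.assoc, w]) x) := by
    intro z Ω _ _ ζ a ha
    let a' : Spec (CommRingCat.of Ω) ⟶ (V z).left := a ≫ (O z).ι
    have ha' : a' ≫ (V z).hom = ζ := (Category.assoc _ _ _).trans ha
    obtain ⟨hb, hx⟩ := hO z Ω ζ a' ha' (by rw [Scheme.Hom.comp_apply]; exact (a default).2)
    refine ⟨_, hx, ?_⟩
    have h2 : (a' ≫ pullback.fst (pullback.snd (U z).hom q) p) ≫ pullback.snd (U z).hom q = ζ ≫ p := by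
      rw [Category.assoc, pullback.condition, ← Category.assoc]
      exact congrArg (· ≫ p) ha'
    refine (germ_map G' _ _ ζ a ha a' ha' rfl).trans ?_
    rw [germ_pullSect p G₂ ζ (ζ ≫ p) rfl (pullSect q F (s z)) a' ha' _ h2 rfl,
      germ_pullSect q F (ζ ≫ p) ((ζ ≫ r) ≫ e) (by rw [Category.assoc, Category.assoc, w]) (s z) _ h2 _ hb
        (Category.assoc _ _ _)]
  obtain ⟨σ', hσ'⟩ := exists_glue G' (κ := Z) gk (fun z => by
      obtain ⟨v, hv, hvz⟩ := hmem z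
      exact ⟨z, ⟨v, hv⟩, (Scheme.Hom.comp_apply (O z).ι (V z).hom _).trans hvz⟩) sk
    (fun k l Ω _ _ ζ a ha a' ha' _ => by
      obtain ⟨x, hx, hx'⟩ := hsk k Ω ζ a ha
      obtain ⟨y, hy, hy'⟩ := hsk l Ω ζ a' ha'
      rw [hx', hy', toPullStalk_injective e F _ _ rfl (hx.symm.trans hy)])
  refine ⟨σ', fun Ω _ _ ζ => ?_⟩
  obtain ⟨v, hv, hvz⟩ := hmem (ζ default)
  haveI : AlgebraicGeometry.Etale (restrictEtale (V (ζ default)) (O (ζ default))).hom :=
    (restrictEtale (V (ζ default)) (O (ζ default))).prop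
  obtain ⟨a, ha, -⟩ := Scheme.exists_fac_of_etale_of_isSepClosed (restrictEtale (V (ζ default)) (O (ζ default))).hom
    ζ ⟨v, hv⟩ ((Scheme.Hom.comp_apply (O _).ι (V _).hom _).trans hvz)
  obtain ⟨x, hx, hx'⟩ := hsk (ζ default) Ω ζ a ha
  refine ⟨x, hx, ?_⟩
  rw [← hx', ← hσ' (ζ default)]
  exact (germ_map G' (gk (ζ default)) σ' ζ a ha ζ (Category.comp_id _) ha).symm

end Groth.Agent.H0FBC
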