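import Groth.Agent.H0FBC.LimitSections
import Groth.Agent.H0FBC.StrictAlg
import Groth.Agent.H0FBC.Transfer
import Groth.Agent.EtFound.FiniteBaseChange

/-!
# Stalks of the base change map through the strictly henselian schemes at a point
-/

set_option autoImplicit false
set_option linter.style.haveILetI false
set_option linter.unusedSectionVars false
set_option backward.isDefEq.respectTransparency false
set_option backward.isDefEq.respectTransparency.types false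
universe u

open CategoryTheory CategoryTheory.Limits AlgebraicGeometry TopologicalSpace Opposite

namespace Groth.Agent.H0FBC

open H0PBC EtFound
open Groth.Agent.Hensel (Henz Nbhd)

/-- the point of a neighbourhood -/
noncomputable abbrev nbhdPt {B Ω : Type u} [CommRing B] [Field Ω] [Algebra B Ω] (N : Nbhd B Ω) :
    Spec (CommRingCat.of Ω) ⟶ Spec (CommRingCat.of N.B) :=
  Spec.map (CommRingCat.ofHom N.toK.toRingHom)

section stage

variable {B Ω : Type u} [CommRing B] [Field Ω] [Algebra B Ω] {S : Scheme.{u}} (ι : Spec (CommRingCat.of B) ⟶ S) [IsOpenImmersion ι]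

theorem nbhdPt_ym (N : Nbhd B Ω) : nbhdPt N ≫ (stageEt ι N.B).hom = ym ι Ω :=
  spec_map_ym ι N.toK

theorem trans_toK {N N' : Nbhd B Ω} (φ : DirColim.Trans (fun N : Nbhd B Ω => Henz.ofB N) N N') :
    N'.toK.comp φ.1 = N.toK := by
  ext b
  rw [AlgHom.comp_apply, ← Henz.proj_ofB, ← Henz.proj_ofB]
  exact congrArg (Henz.proj B Ω) (φ.apply b)

theorem nbhdPt_comp {N N' : Nbhd B Ω} (α : N.B →ₐ[B] N'.B) (hα : N'.toK.comp α = N.toK) :
    nbhdPt N' ≫ (stageMap ι α).left = nbhdPt N := by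
  show Spec.map _ ≫ Spec.map _ = Spec.map _
  rw [← Spec.map_comp, ← CommRingCat.ofHom_comp]
  exact congrArg (fun φ : N.B →ₐ[B] Ω => Spec.map (CommRingCat.ofHom φ.toRingHom)) hα

/-- the stages are cofinal among etale neighbourhoods -/
theorem exists_stage_nbhd (U : S.Etale) (u : Spec (CommRingCat.of Ω) ⟶ U.left) (hu : u ≫ U.hom = ym ι Ω) :
    ∃ (N : Nbhd B Ω) (k : stageEt ι N.B ⟶ U), nbhdPt N ≫ k.left = u := by
  haveI : AlgebraicGeometry.Etale U.hom := U.prop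
  obtain ⟨W, hW, huW, hWι⟩ := exists_isAffineOpen_mem_and_subset (U := U.hom ⁻¹ᵁ ι.opensRange) (x := u default) (by
    refine ⟨Spec.map (CommRingCat.ofHom (algebraMap B Ω)) default, ?_⟩
    exact (Scheme.Hom.comp_apply _ ι default).symm.trans ((congrArg (fun k : Spec (CommRingCat.of Ω) ⟶ S => k default)
      hu.symm).trans (Scheme.Hom.comp_apply u U.hom default)))
  obtain ⟨φ, hφ⟩ := Spec.map_surjective (IsOpenImmersion.lift ι (hW.fromSpec ≫ U.hom) (by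
    rintro _ ⟨t, rfl⟩
    rw [Scheme.Hom.comp_apply]
    exact hWι (hW.range_fromSpec.le ⟨t, rfl⟩)))
  have hφι : Spec.map φ ≫ ι = hW.fromSpec ≫ U.hom := by rw [hφ, IsOpenImmersion.lift_fac]
  letI : Algebra B Γ(U.left, W) := φ.hom.toAlgebra
  haveI : Algebra.Etale B Γ(U.left, W) := by
    haveI : AlgebraicGeometry.Etale (Spec.map φ ≫ ι) := by rw [hφι]; infer_instance
    haveI : AlgebraicGeometry.Etale (Spec.map φ) := AlgebraicGeometry.Etale.of_comp (Spec.map φ) ι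
    exact RingHom.etale_algebraMap.1 ((HasRingHomProperty.Spec_iff (P := @AlgebraicGeometry.Etale)).1 ‹_›)
  let a : Spec (CommRingCat.of Ω) ⟶ Spec Γ(U.left, W) := IsOpenImmersion.lift hW.fromSpec u (by
    rintro _ ⟨t, rfl⟩
    rw [hW.range_fromSpec, Subsingleton.elim t default]
    exact huW)
  have ha : a ≫ hW.fromSpec = u := IsOpenImmersion.lift_fac _ _ _
  obtain ⟨τ, hτ⟩ := Spec.map_surjective a
  have hτB : φ ≫ τ = CommRingCat.ofHom (algebraMap B Ω) := by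
    refine Spec.map_injective ((cancel_mono ι).1 ?_)
    rw [Spec.map_comp, Category.assoc, hφι, hτ, ← Category.assoc, ha, hu]
  obtain ⟨N, E, hE⟩ := Hensel.Nbhd.exists_equiv Γ(U.left, W)
    ({ τ.hom with commutes' := fun b => congr($hτB b) } : Γ(U.left, W) →ₐ[B] Ω)
  let ε : Spec (CommRingCat.of N.B) ⟶ Spec Γ(U.left, W) :=
    Spec.map (CommRingCat.ofHom E.symm.toAlgHom.toRingHom)
  refine ⟨N, MorphismProperty.Over.homMk (ε ≫ hW.fromSpec) ?_ trivial, ?_⟩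
  · show (ε ≫ hW.fromSpec) ≫ U.hom = ym ι N.B
    rw [Category.assoc, ← hφι]
    exact spec_map_ym ι E.symm.toAlgHom
  · show nbhdPt N ≫ ε ≫ hW.fromSpec = u
    rw [← Category.assoc, ← ha]
    refine congrArg (· ≫ hW.fromSpec) ?_
    rw [← hτ, ← Spec.map_comp]
    refine congrArg Spec.map (CommRingCat.hom_ext (RingHom.ext fun c => ?_))
    show N.toK (E.symm c) = τ.hom c
    rw [hE]
    exact congrArg τ.hom (E.apply_symm_apply c)

/-- morphisms of stages preserving the point come from maps of neighbourhoods -/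
theorem exists_stage_hom {N N' : Nbhd B Ω} (k : stageEt ι N'.B ⟶ stageEt ι N.B)
    (hk : nbhdPt N' ≫ k.left = nbhdPt N) :
    ∃ γ : N.B →ₐ[B] N'.B, N'.toK.comp γ = N.toK ∧ stageMap ι γ = k := by
  obtain ⟨φ, hφ⟩ := Spec.map_surjective
    (show Spec (CommRingCat.of N'.B) ⟶ Spec (CommRingCat.of N.B) from k.left)
  have hB : CommRingCat.ofHom (algebraMap B N.B) ≫ φ = CommRingCat.ofHom (algebraMap B N'.B) := by
    refine Spec.map_injective ((cancel_mono ι).1 ?_)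
    rw [Spec.map_comp, hφ, Category.assoc]
    exact MorphismProperty.Over.w k
  refine ⟨{ φ.hom with commutes' := fun b => congr($hB b) }, ?_, MorphismProperty.Over.Hom.ext hφ⟩
  have h2 : φ ≫ CommRingCat.ofHom N'.toK.toRingHom = CommRingCat.ofHom N.toK.toRingHom := by
    refine Spec.map_injective ?_
    rw [Spec.map_comp, hφ]
    exact hk
  exact AlgHom.ext fun c => congr($h2 c)

end stage

section setup

variable {X S Y T : Scheme.{u}} {f : X ⟶ S} {g : T ⟶ S} {h : Y ⟶ X} {e : Y ⟶ T}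
  {B A Ω : Type u} [CommRing B] [CommRing A] [Field Ω] [Algebra B A] [Algebra A Ω] [Algebra B Ω]
  [IsScalarTower B A Ω] {ιB : Spec (CommRingCat.of B) ⟶ S} {ιA : Spec (CommRingCat.of A) ⟶ X}
  [IsOpenImmersion ιA] [IsOpenImmersion ιB]
  (sq : IsPullback e h g f) (hι : ιA ≫ f = Spec.map (CommRingCat.ofHom (algebraMap B A)) ≫ ιB)
  {ψ : Henz B Ω →+* Henz A Ω}
  (hψ₁ : ψ.comp (algebraMap B (Henz B Ω)) = (algebraMap A (Henz A Ω)).comp (algebraMap B A))
  (hψ₂ : ∀ z, Henz.proj A Ω (ψ z) = Henz.proj B Ω z)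

include hι in
theorem ym_comp : ym ιA Ω ≫ f = ym ιB Ω := by
  show (Spec.map _ ≫ ιA) ≫ f = Spec.map _ ≫ ιB
  rw [Category.assoc, hι, ← Category.assoc, ← Spec.map_comp, ← CommRingCat.ofHom_comp,
    ← IsScalarTower.algebraMap_eq]

include hι in
theorem ym_over (M : Type u) [CommRing M] [Algebra A M] (N : Type u) [CommRing N] [Algebra B N] (α : N →+* M)
    (hα : α.comp (algebraMap B N) = (algebraMap A M).comp (algebraMap B A)) :
    Spec.map (CommRingCat.ofHom α) ≫ ym ιB N = ym ιA M ≫ f := by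
  show Spec.map _ ≫ Spec.map _ ≫ ιB = (Spec.map _ ≫ ιA) ≫ f
  rw [Category.assoc, hι, ← Category.assoc, ← Category.assoc, ← Spec.map_comp, ← Spec.map_comp,
    ← CommRingCat.ofHom_comp, ← CommRingCat.ofHom_comp, hα]

/-- the projection between the two limits -/
noncomputable def limProj : PB h ιA (Henz A Ω) ⟶ PB g ιB (Henz B Ω) :=
  pullback.lift (pullback.fst (ym ιA (Henz A Ω)) h ≫ Spec.map (CommRingCat.ofHom ψ))
    (pullback.snd (ym ιA (Henz A Ω)) h ≫ e) (by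
      rw [Category.assoc, ym_over hι (Henz A Ω) (Henz B Ω) ψ hψ₁, pullback.condition_assoc, Category.assoc, sq.w])

theorem limProj_fst : limProj sq hι hψ₁ ≫ pullback.fst (ym ιB (Henz B Ω)) g =
    pullback.fst (ym ιA (Henz A Ω)) h ≫ Spec.map (CommRingCat.ofHom ψ) :=
  pullback.lift_fst _ _ _

theorem limProj_snd : limProj sq hι hψ₁ ≫ pullback.snd (ym ιB (Henz B Ω)) g =
    pullback.snd (ym ιA (Henz A Ω)) h ≫ e :=
  pullback.lift_snd _ _ _

theorem isPullback_limProj : IsPullback (limProj sq hι hψ₁) (pullback.fst (ym ιA (Henz A Ω)) h)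
    (pullback.fst (ym ιB (Henz B Ω)) g) (Spec.map (CommRingCat.ofHom ψ)) := by
  refine IsPullback.of_right (v₁₃ := g) (h₁₂ := pullback.snd (ym ιB (Henz B Ω)) g) (h₂₂ := ym ιB (Henz B Ω)) ?_
    (limProj_fst sq hι hψ₁) (IsPullback.of_hasPullback (ym ιB (Henz B Ω)) g).flip
  rw [limProj_snd, ym_over hι (Henz A Ω) (Henz B Ω) ψ hψ₁]
  exact (IsPullback.of_hasPullback (ym ιA (Henz A Ω)) h).flip.paste_horiz sq

variable {C : Type (u + 2)} [Category.{u + 1} C] [HasColimitsOfSize.{u, u} C] [HasProducts.{u} C]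
  [∀ {P Q : Scheme.{u}} (h : P ⟶ Q),
    ((EtCoh.bc h).sheafPushforwardContinuous C Q.smallEtaleTopology P.smallEtaleTopology).IsRightAdjoint]
  {FC : C → C → Type*} {CC : C → Type (u + 1)}
  [∀ M N, FunLike (FC M N) (CC M) (CC N)] [ConcreteCategory.{u + 1} C FC]
  [PreservesFilteredColimitsOfSize.{u, u} (forget C)]
  [∀ Z : Scheme.{u}, Z.smallEtaleTopology.HasSheafCompose (forget C)]
  (F : Sheaf T.smallEtaleTopology C)

theorem toPullStalk_germ_congr {P Q : Scheme.{u}} (q : P ⟶ Q) (G : Sheaf Q.smallEtaleTopology C) {U : Q.Etale}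
    (s : ToType (G.obj.obj (op U))) {Ω' : Type u} [Field Ω'] [IsSepClosed Ω'] (ζ : Spec (CommRingCat.of Ω') ⟶ P)
    (ξ ξ' : Spec (CommRingCat.of Ω') ⟶ Q) (hξ : ζ ≫ q = ξ) (hξ' : ζ ≫ q = ξ')
    (b b' : Spec (CommRingCat.of Ω') ⟶ U.left) (hb : b ≫ U.hom = ξ) (hb' : b' ≫ U.hom = ξ') (e : b = b') :
    toPullStalk q G ζ ξ hξ (germ G s ξ b hb) = toPullStalk q G ζ ξ' hξ' (germ G s ξ' b' hb') := by
  subst hξ; subst hξ'; subst e; rfl

variable {F}
  (β : (pullA C f).obj ((pushA C g).obj F) ⟶ (pushA C h).obj ((pullA C e).obj F))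
  (hβ : ∀ V : S.Etale,
    (((EtCoh.bc f).sheafAdjunctionContinuous C S.smallEtaleTopology X.smallEtaleTopology).unit.app
        ((pushA C g).obj F)).hom.app (op V) ≫ β.hom.app (op ((EtCoh.bc f).obj V)) =
      (((EtCoh.bc e).sheafAdjunctionContinuous C T.smallEtaleTopology Y.smallEtaleTopology).unit.app F).hom.app
        (op ((EtCoh.bc g).obj V)) ≫ ((pullA C e).obj F).obj.map (bcSquare sq.w V).op)

include hβ in
/-- germs of base changed sections -/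
theorem germ_beta (V : S.Etale) (τ : ToType (F.obj.obj (op ((EtCoh.bc g).obj V)))) {U : X.Etale}
    (l : U ⟶ (EtCoh.bc f).obj V) {Ω' : Type u} [Field Ω'] [IsSepClosed Ω'] (ζ : Spec (CommRingCat.of Ω') ⟶ Y)
    (a : Spec (CommRingCat.of Ω') ⟶ ((EtCoh.bc h).obj U).left) (ha : a ≫ ((EtCoh.bc h).obj U).hom = ζ)
    (ξ : Spec (CommRingCat.of Ω') ⟶ T) (hξ : ζ ≫ e = ξ)
    (b : Spec (CommRingCat.of Ω') ⟶ ((EtCoh.bc g).obj V).left) (hb : b ≫ ((EtCoh.bc g).obj V).hom = ξ)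
    (hab : b ≫ pullback.fst V.hom g = a ≫ pullback.fst U.hom h ≫ l.left ≫ pullback.fst V.hom f) :
    germ ((pullA C e).obj F) (((pushA C h).obj ((pullA C e).obj F)).obj.map l.op
        (β.hom.app (op ((EtCoh.bc f).obj V)) (pullSect f ((pushA C g).obj F) (U := V) τ))) ζ a ha =
      toPullStalk e F ζ ξ hξ (germ F τ ξ b hb) := by
  have e1 : β.hom.app (op ((EtCoh.bc f).obj V)) (pullSect f ((pushA C g).obj F) (U := V) τ) =
      ((pullA C e).obj F).obj.map (bcSquare sq.w V).op (pullSect e F τ) :=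
    ((ConcreteCategory.comp_apply _ _ _).symm.trans (ConcreteCategory.congr_hom (hβ V) τ)).trans
      (ConcreteCategory.comp_apply _ _ _)
  rw [e1]
  let a' := a ≫ ((EtCoh.bc h).map l).left
  have ha' : a' ≫ ((EtCoh.bc h).obj ((EtCoh.bc f).obj V)).hom = ζ := by
    rw [Category.assoc, MorphismProperty.Over.w ((EtCoh.bc h).map l)]; exact ha
  let a'' := a' ≫ (bcSquare sq.w V).left
  have ha'' : a'' ≫ ((EtCoh.bc e).obj ((EtCoh.bc g).obj V)).hom = ζ := by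
    rw [Category.assoc, MorphismProperty.Over.w (bcSquare sq.w V)]; exact ha'
  refine (germ_map ((pullA C e).obj F) ((EtCoh.bc h).map l) _ ζ a ha a' ha' rfl).trans ?_
  rw [germ_map ((pullA C e).obj F) (bcSquare sq.w V) _ ζ a' ha' a'' ha'' rfl]
  refine germ_pullSect e F ζ ξ hξ τ a'' ha'' b hb (pullback.hom_ext ?_ ?_)
  · refine ((Category.assoc _ _ _).trans ((Category.assoc _ _ _).trans
      ((congrArg (a' ≫ ·) (bcSquare_fst sq.w V)).trans ?_))).trans hab.symm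
    refine (Category.assoc _ _ _).trans (congrArg (a ≫ ·) ?_)
    rw [← Category.assoc]
    exact (congrArg (· ≫ pullback.fst V.hom f) (pullback.lift_fst _ _ _)).trans (Category.assoc _ _ _)
  · refine (Category.assoc _ _ _).trans ((congrArg (a'' ≫ ·) pullback.condition).trans ?_)
    refine ((Category.assoc _ _ _).symm.trans ((congrArg (· ≫ e) ha'').trans hξ)).trans hb.symm

/-- the morphism from a stage over `X` to the base change of a stage over `S` -/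
noncomputable def stageBC (M : Nbhd A Ω) (N : Nbhd B Ω) (α : N.B →+* M.B)
    (hα : α.comp (algebraMap B N.B) = (algebraMap A M.B).comp (algebraMap B A)) :
    stageEt ιA M.B ⟶ (EtCoh.bc f).obj (stageEt ιB N.B) :=
  toBC f (W := stageEt ιA M.B) (T' := stageEt ιB N.B) (Spec.map (CommRingCat.ofHom α)) (ym_over hι M.B N.B α hα)

theorem stageBC_fst (M : Nbhd A Ω) (N : Nbhd B Ω) (α : N.B →+* M.B)
    (hα : α.comp (algebraMap B N.B) = (algebraMap A M.B).comp (algebraMap B A)) :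
    (stageBC hι M N α hα).left ≫ pullback.fst (stageEt ιB N.B).hom f = Spec.map (CommRingCat.ofHom α) :=
  pullback.lift_fst _ _ _

include hι hψ₂ hβ in
/-- germs of base changed sections on the limit -/
theorem germ_beta_lim (M : Nbhd A Ω) (N : Nbhd B Ω) (α : N.B →+* M.B)
    (hα : α.comp (algebraMap B N.B) = (algebraMap A M.B).comp (algebraMap B A))
    (hαψ : (Henz.ofB M).toRingHom.comp α = ψ.comp (Henz.ofB N).toRingHom)
    (τ : ToType (F.obj.obj (op ((EtCoh.bc g).obj (stageEt ιB N.B))))) {Ω' : Type u} [Field Ω'] [IsSepClosed Ω']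
    (ζ : Spec (CommRingCat.of Ω') ⟶ PB h ιA (Henz A Ω)) :
    ∃ hb : ((ζ ≫ limProj sq hι hψ₁) ≫ pmap g ιB (Henz.ofB N)) ≫ ((EtCoh.bc g).obj (stageEt ιB N.B)).hom =
        (ζ ≫ pullback.snd (ym ιA (Henz A Ω)) h) ≫ e,
      germ ((pullA C e).obj F) (((pushA C h).obj ((pullA C e).obj F)).obj.map (stageBC hι M N α hα).op
          (β.hom.app (op ((EtCoh.bc f).obj (stageEt ιB N.B))) (pullSect f ((pushA C g).obj F) (U := stageEt ιB N.B) τ)))
          (ζ ≫ pullback.snd (ym ιA (Henz A Ω)) h) (ζ ≫ pmap h ιA (Henz.ofB M)) (stage_pt h ιA ζ) =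
        toPullStalk e F (ζ ≫ pullback.snd (ym ιA (Henz A Ω)) h) ((ζ ≫ pullback.snd (ym ιA (Henz A Ω)) h) ≫ e) rfl
          (germ F τ ((ζ ≫ pullback.snd (ym ιA (Henz A Ω)) h) ≫ e)
            ((ζ ≫ limProj sq hι hψ₁) ≫ pmap g ιB (Henz.ofB N)) hb) := by
  have hb : ((ζ ≫ limProj sq hι hψ₁) ≫ pmap g ιB (Henz.ofB N)) ≫ ((EtCoh.bc g).obj (stageEt ιB N.B)).hom =
      (ζ ≫ pullback.snd (ym ιA (Henz A Ω)) h) ≫ e :=
    (stage_pt g ιB (ζ ≫ limProj sq hι hψ₁)).trans ((Category.assoc _ _ _).trans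
      ((congrArg (ζ ≫ ·) (limProj_snd sq hι hψ₁)).trans (Category.assoc _ _ _).symm))
  refine ⟨hb, germ_beta sq β hβ (stageEt ιB N.B) τ (stageBC hι M N α hα) _ _ _ _ rfl _ hb ?_⟩
  rw [stageBC_fst]
  show ((ζ ≫ limProj sq hι hψ₁) ≫ pmap g ιB (Henz.ofB N)) ≫ pullback.fst (ym ιB N.B) g =
    (ζ ≫ pmap h ιA (Henz.ofB M)) ≫ pullback.fst (ym ιA M.B) h ≫ Spec.map (CommRingCat.ofHom α)
  rw [Category.assoc, pmap_fst, Category.assoc ζ, ← Category.assoc (limProj sq hι hψ₁), limProj_fst, Category.assoc ζ,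
    pmap_fst_assoc, Category.assoc, ← Spec.map_comp, ← Spec.map_comp, ← CommRingCat.ofHom_comp,
    ← CommRingCat.ofHom_comp, hαψ]

include hψ₂ hβ in
/-- surjectivity of the base change map on a stalk -/
theorem surjective_stalk_of_strict [IsSepClosed Ω] [QuasiCompact g] [QuasiSeparated g]
    (hdesc : ∀ G : Sheaf (PB g ιB (Henz B Ω)).smallEtaleTopology C,
      Function.Surjective (pullSect (limProj sq hι hψ₁) G (U := EtCoh.top (PB g ιB (Henz B Ω))))) :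
    Function.Surjective ((Scheme.pointSmallEtale (ym ιA Ω)).sheafFiber.map β) := by
  haveI : QuasiCompact h := MorphismProperty.of_isPullback sq ‹QuasiCompact g›
  intro q
  obtain ⟨U, u, σ, rfl⟩ := (Scheme.pointSmallEtale (ym ιA Ω)).toPresheafFiber_jointly_surjective q
  obtain ⟨M, k, hk⟩ := exists_stage_nbhd ιA U u.left (CategoryTheory.Over.w u)
  let G₁ := (pullA C e).obj F
  let P₁ := (pushA C h).obj G₁
  let σM : ToType (G₁.obj.obj (op ((EtCoh.bc h).obj (stageEt ιA M.B)))) := P₁.obj.map k.op σ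
  let r := pullback.snd (ym ιA (Henz A Ω)) h
  let pr := limProj sq hι hψ₁
  let qT := pullback.snd (ym ιB (Henz B Ω)) g
  let G₂ := (pullA C qT).obj F
  obtain ⟨σ', hσ'⟩ := exists_transfer_section r e pr qT (limProj_snd sq hι hψ₁).symm F
    ((EtCoh.bc h).obj (stageEt ιA M.B)) (pmap h ιA (Henz.ofB M)) (pmap_snd h ιA (Henz.ofB M)) σM
  let r₀ : (EtCoh.bc pr).obj (EtCoh.top _) ⟶ EtCoh.top (PB h ιA (Henz A Ω)) :=
    MorphismProperty.Over.homMk ((EtCoh.bc pr).obj (EtCoh.top _)).hom (Category.comp_id _) trivial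
  obtain ⟨τR, hτR⟩ := hdesc G₂ (((pullA C pr).obj G₂).obj.map r₀.op σ')
  obtain ⟨N, τ, hτ⟩ := exists_stage_section g ιB F (isColim_henz B Ω) τR
  obtain ⟨M₁, α, hα, -, hαψ⟩ := henzMap_stage hψ₁ hψ₂ N
  obtain ⟨M₂, γ₀, γ₁, hγ₀, hγ₁⟩ := M.exists_hom₂ M₁
  let α' : N.B →+* M₂.B := γ₁.toRingHom.comp α
  have hα' : α'.comp (algebraMap B N.B) = (algebraMap A M₂.B).comp (algebraMap B A) := by
    rw [RingHom.comp_assoc, hα, ← RingHom.comp_assoc]
    exact congrArg (·.comp (algebraMap B A)) γ₁.comp_algebraMap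
  have hα'ψ : (Henz.ofB M₂).toRingHom.comp α' = ψ.comp (Henz.ofB N).toRingHom := by
    rw [← RingHom.comp_assoc]
    exact (congrArg (fun φ : M₁.B →ₐ[A] Henz A Ω => φ.toRingHom.comp α) (Henz.ofB_comp γ₁ hγ₁)).trans hαψ
  let l := stageBC hι M₂ N α' hα'
  let sβ := β.hom.app (op ((EtCoh.bc f).obj (stageEt ιB N.B)))
    (pullSect f ((pushA C g).obj F) (U := stageEt ιB N.B) τ)
  let s₁ : ToType (G₁.obj.obj (op ((EtCoh.bc h).obj (stageEt ιA M₂.B)))) := P₁.obj.map l.op sβ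
  let s₂ := G₁.obj.map ((EtCoh.bc h).map (stageMap ιA γ₀)).op σM
  obtain ⟨M₃, φ, hφ⟩ := exists_stage_eq h ιA G₁ (gR := fun M : Nbhd A Ω => Henz.ofB M) (isColim_henz A Ω) M₂ s₁ s₂
    (fun Ω' _ _ ζ => by
      obtain ⟨x, hx, hx'⟩ := hσ' Ω' ζ
      obtain ⟨hb, hβζ⟩ := germ_beta_lim sq hι hψ₁ hψ₂ β hβ M₂ N α' hα' hα'ψ τ ζ
      refine hβζ.trans (Eq.trans ?_ (germ_map G₁ ((EtCoh.bc h).map (stageMap ιA γ₀)) σM (ζ ≫ r) _
        (stage_pt h ιA ζ) (ζ ≫ pmap h ιA (Henz.ofB M)) (stage_pt h ιA ζ) (by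
          rw [bc_stageMap_left, Category.assoc, pmap_comp, Henz.ofB_comp γ₀ hγ₀])).symm)
      refine (congrArg _ ?_).trans hx.symm
      let cR : Spec (CommRingCat.of Ω') ⟶ ((EtCoh.bc pr).obj (EtCoh.top _)).left :=
        pullback.lift (ζ ≫ pr) ζ (Category.comp_id _)
      have hcR : cR ≫ ((EtCoh.bc pr).obj (EtCoh.top _)).hom = ζ := pullback.lift_snd _ _ _
      have e2 : toPullStalk pr G₂ ζ (ζ ≫ pr) rfl (germ G₂ τR (ζ ≫ pr) (ζ ≫ pr) (Category.comp_id _)) =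
          toPullStalk pr G₂ ζ (ζ ≫ pr) rfl (toPullStalk qT F (ζ ≫ pr) ((ζ ≫ r) ≫ e)
            (by rw [Category.assoc, Category.assoc]; exact congrArg (ζ ≫ ·) (limProj_snd sq hι hψ₁)) x) := by
        rw [← hx', ← germ_pullSect pr G₂ ζ (ζ ≫ pr) rfl τR cR hcR (ζ ≫ pr) (Category.comp_id _)
          (pullback.lift_fst _ _ _), hτR]
        exact germ_map _ r₀ σ' ζ cR hcR ζ (Category.comp_id _) hcR
      have e3 := toPullStalk_injective pr G₂ ζ (ζ ≫ pr) rfl e2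
      rw [hτ Ω' (ζ ≫ pr)] at e3
      refine toPullStalk_injective qT F (ζ ≫ pr) ((ζ ≫ r) ≫ e)
        (by rw [Category.assoc, Category.assoc]; exact congrArg (ζ ≫ ·) (limProj_snd sq hι hψ₁)) ?_
      exact (toPullStalk_germ_congr qT F τ (ζ ≫ pr) _ _ _ rfl _ _ hb (stage_pt g ιB (ζ ≫ pr)) rfl).trans e3)
  let η := ym ιA Ω
  have hpt₃ : nbhdPt M₃ ≫ (stageMap ιA φ.1).left = nbhdPt M₂ := nbhdPt_comp ιA φ.1 (trans_toK φ)
  have hl : (nbhdPt M₂ ≫ l.left) ≫ ((EtCoh.bc f).obj (stageEt ιB N.B)).hom = η := by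
    rw [Category.assoc, MorphismProperty.Over.w l]; exact nbhdPt_ym ιA M₂
  refine ⟨germ ((pullA C f).obj ((pushA C g).obj F)) (pullSect f ((pushA C g).obj F) (U := stageEt ιB N.B) τ) η
    (nbhdPt M₂ ≫ l.left) hl, ?_⟩
  refine ((Scheme.pointSmallEtale η).toPresheafFiber_naturality_apply β.hom _ _ _).trans ?_
  show germ P₁ sβ η (nbhdPt M₂ ≫ l.left) hl = germ P₁ σ η u.left (CategoryTheory.Over.w u)
  have hk' : nbhdPt M₂ ≫ (stageMap ιA γ₀ ≫ k).left = u.left := by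
    show nbhdPt M₂ ≫ (stageMap ιA γ₀).left ≫ k.left = u.left
    rw [← Category.assoc, nbhdPt_comp ιA γ₀ hγ₀, hk]
  have e4 : germ P₁ (P₁.obj.map (stageMap ιA φ.1).op s₁) η (nbhdPt M₃) (nbhdPt_ym ιA M₃) =
      germ P₁ (P₁.obj.map (stageMap ιA φ.1).op s₂) η (nbhdPt M₃) (nbhdPt_ym ιA M₃) := congrArg (germ P₁ · η _ _) hφ
  rw [germ_map P₁ (stageMap ιA φ.1) s₁ η _ _ _ (nbhdPt_ym ιA M₂) hpt₃,
    germ_map P₁ (stageMap ιA φ.1) s₂ η _ _ _ (nbhdPt_ym ιA M₂) hpt₃] at e4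
  refine (germ_map P₁ l sβ η _ (nbhdPt_ym ιA M₂) _ hl rfl).symm.trans (e4.trans ?_)
  refine (germ_map P₁ (stageMap ιA γ₀) (P₁.obj.map k.op σ) η _ (nbhdPt_ym ιA M₂) _ (nbhdPt_ym ιA M)
    (nbhdPt_comp ιA γ₀ hγ₀)).trans ?_
  exact germ_map P₁ k σ η _ _ _ _ hk

include hψ₂ hβ in
/-- injectivity of the base change map on a stalk -/
theorem injective_stalk_of_strict [IsSepClosed Ω] [QuasiCompact g] [Surjective (limProj sq hι hψ₁)] :
    Function.Injective ((Scheme.pointSmallEtale (ym ιA Ω)).sheafFiber.map β) := by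
  let η := ym ιA Ω
  let ξ := ym ιB Ω
  have hηξ : η ≫ f = ξ := ym_comp hι
  let PF := (pushA C g).obj F
  let G₁ := (pullA C e).obj F
  let P₁ := (pushA C h).obj G₁
  intro p₁ p₂ hp
  obtain ⟨U₁, t₁, a₁, ha₁, rfl⟩ := exists_germ_eq f PF η ξ hηξ p₁
  obtain ⟨U₂, t₂, a₂, ha₂, rfl⟩ := exists_germ_eq f PF η ξ hηξ p₂
  obtain ⟨N₁, k₁, hk₁⟩ := exists_stage_nbhd ιB U₁ a₁ ha₁
  obtain ⟨N₂, k₂, hk₂⟩ := exists_stage_nbhd ιB U₂ a₂ ha₂
  obtain ⟨N, δ₁, δ₂, hδ₁, hδ₂⟩ := N₁.exists_hom₂ N₂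
  let τ₁ : ToType (F.obj.obj (op ((EtCoh.bc g).obj (stageEt ιB N.B)))) := PF.obj.map (stageMap ιB δ₁ ≫ k₁).op t₁
  let τ₂ : ToType (F.obj.obj (op ((EtCoh.bc g).obj (stageEt ιB N.B)))) := PF.obj.map (stageMap ιB δ₂ ≫ k₂).op t₂
  have hτ₁ : germ PF τ₁ ξ (nbhdPt N) (nbhdPt_ym ιB N) = germ PF t₁ ξ a₁ ha₁ := germ_map PF _ _ _ _ _ _ _ (by
    show nbhdPt N ≫ (stageMap ιB δ₁).left ≫ k₁.left = a₁
    rw [← Category.assoc, nbhdPt_comp ιB δ₁ hδ₁, hk₁])
  have hτ₂ : germ PF τ₂ ξ (nbhdPt N) (nbhdPt_ym ιB N) = germ PF t₂ ξ a₂ ha₂ := germ_map PF _ _ _ _ _ _ _ (by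
    show nbhdPt N ≫ (stageMap ιB δ₂).left ≫ k₂.left = a₂
    rw [← Category.assoc, nbhdPt_comp ιB δ₂ hδ₂, hk₂])
  let c : Spec (CommRingCat.of Ω) ⟶ ((EtCoh.bc f).obj (stageEt ιB N.B)).left :=
    pullback.lift (nbhdPt N) η ((nbhdPt_ym ιB N).trans hηξ.symm)
  have hc : c ≫ ((EtCoh.bc f).obj (stageEt ιB N.B)).hom = η := pullback.lift_snd _ _ _
  obtain ⟨M₁, α, hα, hαK, hαψ⟩ := henzMap_stage hψ₁ hψ₂ N
  let l := stageBC hι M₁ N α hα
  have hlc : nbhdPt M₁ ≫ l.left = c := by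
    refine pullback.hom_ext ?_ ?_
    · rw [Category.assoc, stageBC_fst, pullback.lift_fst, ← Spec.map_comp, ← CommRingCat.ofHom_comp,
        show M₁.toK.toRingHom.comp α = N.toK.toRingHom from RingHom.ext hαK]
    · rw [Category.assoc, pullback.lift_snd]
      exact (congrArg (nbhdPt M₁ ≫ ·) (MorphismProperty.Over.w l)).trans (nbhdPt_ym ιA M₁)
  let s : ToType (PF.obj.obj (op (stageEt ιB N.B))) → ToType (P₁.obj.obj (op (stageEt ιA M₁.B))) := fun τ =>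
    P₁.obj.map l.op (β.hom.app (op ((EtCoh.bc f).obj (stageEt ιB N.B))) (pullSect f PF τ))
  have hs : ∀ τ, germ P₁ (s τ) η (nbhdPt M₁) (nbhdPt_ym ιA M₁) =
      (Scheme.pointSmallEtale η).sheafFiber.map β (toPullStalk f PF η ξ hηξ (germ PF τ ξ (nbhdPt N) (nbhdPt_ym ιB N))) := by
    intro τ
    rw [← germ_pullSect f PF η ξ hηξ τ c hc (nbhdPt N) (nbhdPt_ym ιB N) (pullback.lift_fst _ _ _)]
    refine (germ_map P₁ l _ η _ (nbhdPt_ym ιA M₁) c hc hlc).trans ?_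
    exact ((Scheme.pointSmallEtale η).toPresheafFiber_naturality_apply β.hom _ _ _).symm
  have e1 : germ P₁ (s τ₁) η (nbhdPt M₁) (nbhdPt_ym ιA M₁) = germ P₁ (s τ₂) η (nbhdPt M₁) (nbhdPt_ym ιA M₁) := by
    rw [hs, hs, hτ₁, hτ₂]; exact hp
  obtain ⟨V, k, z, hz, hkeq⟩ := ((Scheme.pointSmallEtale η).toPresheafFiber_eq_iff' (stageEt ιA M₁.B)
    (CategoryTheory.Over.homMk (nbhdPt M₁) (nbhdPt_ym ιA M₁)) (s τ₁) (s τ₂)).1 e1
  obtain ⟨M₂, k', hk'⟩ := exists_stage_nbhd ιA V z.left (CategoryTheory.Over.w z)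
  obtain ⟨γ, hγ, hγk⟩ := exists_stage_hom ιA (k' ≫ k) (by
    show nbhdPt M₂ ≫ k'.left ≫ k.left = nbhdPt M₁
    rw [← Category.assoc, hk']
    exact congrArg CommaMorphism.left hz)
  have e2 : P₁.obj.map (stageMap ιA γ).op (s τ₁) = P₁.obj.map (stageMap ιA γ).op (s τ₂) := by
    rw [hγk]
    simp only [op_comp, Functor.map_comp, ConcreteCategory.comp_apply, hkeq]
  -- germs on the limit
  obtain ⟨N', φ, hφ⟩ := exists_stage_eq g ιB F (gR := fun N : Nbhd B Ω => Henz.ofB N) (isColim_henz B Ω) N τ₁ τ₂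
    (fun Ω' _ _ ζT => by
      obtain ⟨Ω'', _, _, ζ, m, hm⟩ := exists_geom_lift (limProj sq hι hψ₁) ζT
      have e3 : ∀ τ, germ G₁ (s τ) (ζ ≫ pullback.snd (ym ιA (Henz A Ω)) h) (ζ ≫ pmap h ιA (Henz.ofB M₁))
          (stage_pt h ιA ζ) = germ G₁ (P₁.obj.map (stageMap ιA γ).op (s τ))
            (ζ ≫ pullback.snd (ym ιA (Henz A Ω)) h) (ζ ≫ pmap h ιA (Henz.ofB M₂)) (stage_pt h ιA ζ) := fun τ =>
        (germ_map G₁ ((EtCoh.bc h).map (stageMap ιA γ)) (s τ) _ _ _ _ _ (by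
          rw [bc_stageMap_left, Category.assoc, pmap_comp, Henz.ofB_comp γ hγ])).symm
      obtain ⟨hb, h₁⟩ := germ_beta_lim sq hι hψ₁ hψ₂ β hβ M₁ N α hα hαψ τ₁ ζ
      obtain ⟨hb', h₂⟩ := germ_beta_lim sq hι hψ₁ hψ₂ β hβ M₁ N α hα hαψ τ₂ ζ
      have e4 := toPullStalk_injective e F _ _ rfl
        (h₁.symm.trans ((e3 τ₁).trans ((congrArg (germ G₁ · _ _ _) e2).trans ((e3 τ₂).symm.trans h₂))))
      refine (mem_eqLocus_iff F τ₁ τ₂ _ _ (stage_pt g ιB ζT)).1 ?_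
      refine Set.mem_of_eq_of_mem ?_ ((mem_eqLocus_iff F τ₁ τ₂ _ _ hb).2 e4)
      rw [hm, Category.assoc]
      exact ((Scheme.Hom.comp_apply m _ default).trans (congrArg _ (Subsingleton.elim (m default) default))).symm)
  have hpt' : nbhdPt N' ≫ (stageMap ιB φ.1).left = nbhdPt N := nbhdPt_comp ιB φ.1 (trans_toK φ)
  refine congrArg _ (hτ₁.symm.trans (Eq.trans ?_ hτ₂))
  have e5 : germ PF (PF.obj.map (stageMap ιB φ.1).op τ₁) ξ (nbhdPt N') (nbhdPt_ym ιB N') =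
      germ PF (PF.obj.map (stageMap ιB φ.1).op τ₂) ξ (nbhdPt N') (nbhdPt_ym ιB N') := congrArg (germ PF · ξ _ _) hφ
  rwa [germ_map PF (stageMap ιB φ.1) τ₁ ξ _ _ _ (nbhdPt_ym ιB N) hpt',
    germ_map PF (stageMap ιB φ.1) τ₂ ξ _ _ _ (nbhdPt_ym ιB N) hpt'] at e5

end setup

end Groth.Agent.H0FBC
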