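import Groth.Agent.H0FBC.SquareStage
import Groth.Agent.H0FBC.StrictLocal
import Groth.Agent.H0FBC.ZeroAcyclic
import Groth.Agent.AlgSpDec.EtHenzField
import Groth.Agent.BigSiteLib.EtDescSec.OpenDescent
import Groth.Prelude.Def_EtAcyc

/-!
# Locally 0-acyclic universally open morphisms have connected stages
-/

set_option autoImplicit false
set_option linter.style.haveILetI false
set_option linter.unusedSectionVars false
set_option backward.isDefEq.respectTransparency false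
set_option backward.isDefEq.respectTransparency.types false
universe u

open CategoryTheory CategoryTheory.Limits AlgebraicGeometry TopologicalSpace Opposite
open scoped TensorProduct

attribute [-instance] CategoryTheory.catToReflQuiver

namespace Groth.Agent.H0FBC

open H0PBC IsLocalRing Groth.Agent.BigSiteLib
open Groth.Agent.Hensel (Henz Nbhd)

/-- the universal neighbourhood at a geometric point of a chart is a strict henselization of the stalk -/
theorem strictHens_chart {Y : Scheme.{u}} {B Ω : Type u} [CommRing B] [Field Ω] [IsAlgClosed Ω] [Algebra B Ω]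
    (i : Spec (CommRingCat.of B) ⟶ Y) [IsOpenImmersion i] (b : PrimeSpectrum B)
    (hb : RingHom.ker (algebraMap B Ω) = b.asIdeal) (y : Y) (hy : i b = y) :
    ∃ (_ : Algebra (Y.presheaf.stalk y) (Henz B Ω)) (_ : IsLocalRing (Henz B Ω))
      (_ : IsLocalHom (algebraMap (Y.presheaf.stalk y) (Henz B Ω)))
      (_ : _root_.Hensel.IsStrictHenselization (Y.presheaf.stalk y) (Henz B Ω)),
      Spec.map (CommRingCat.ofHom (algebraMap (Y.presheaf.stalk y) (Henz B Ω))) ≫ Y.fromSpecStalk y =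
        Spec.map (CommRingCat.ofHom (algebraMap B (Henz B Ω))) ≫ i := by
  subst hy
  let D := Y.presheaf.stalk (i b)
  let S := (Spec (CommRingCat.of B)).presheaf.stalk b
  let ψ₀ : CommRingCat.of B ⟶ S :=
    (Scheme.ΓSpecIso (CommRingCat.of B)).inv ≫ (Spec (CommRingCat.of B)).presheaf.germ ⊤ b trivial
  let ψ : CommRingCat.of B ⟶ D := ψ₀ ≫ inv (i.stalkMap b)
  have hψ : Spec.map ψ ≫ i = Y.fromSpecStalk (i b) := by
    rw [Spec.map_comp, Category.assoc, ← Spec.fromSpecStalk_eq, Spec.map_inv, IsIso.inv_comp_eq]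
    exact (Scheme.SpecMap_stalkMap_fromSpecStalk i).symm
  letI : Algebra B S := ψ₀.hom.toAlgebra
  letI : Algebra B D := ψ.hom.toAlgebra
  haveI hS : IsLocalization.AtPrime S (PrimeSpectrum.asIdeal (R := B) b) :=
    StructureSheaf.IsLocalization.to_stalk (CommRingCat.of B) b
  haveI hD : IsLocalization.AtPrime D (PrimeSpectrum.asIdeal (R := B) b) :=
    IsLocalization.isLocalization_of_algEquiv (PrimeSpectrum.asIdeal (R := B) b).primeCompl (S := S)
      (AlgEquiv.ofRingEquiv (f := (asIso (inv (i.stalkMap b))).commRingCatIsoToRingEquiv) fun _ => rfl)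
  let M := (PrimeSpectrum.asIdeal (R := B) b).primeCompl
  have hu : ∀ s : M, IsUnit (algebraMap B Ω s) := fun s => isUnit_iff_ne_zero.2 fun h0 => s.2 (by
    show (s : B) ∈ b.asIdeal
    rw [← hb]
    exact RingHom.mem_ker.2 h0)
  letI : Algebra D Ω := (IsLocalization.lift (M := M) (S := D) hu).toAlgebra
  haveI : IsScalarTower B D Ω := .of_algebraMap_eq fun x => (IsLocalization.lift_eq (M := M) (S := D) hu x).symm
  haveI : IsLocalHom (algebraMap D Ω) := ⟨fun d hd => by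
    obtain ⟨x, s, rfl⟩ := IsLocalization.exists_mk'_eq M d
    by_contra hn
    have hx : x ∈ b.asIdeal := by
      by_contra hx
      exact hn ((IsLocalization.AtPrime.isUnit_mk'_iff D b.asIdeal x s).2 hx)
    have h0 : algebraMap B Ω x = 0 := by
      rw [← hb] at hx
      exact RingHom.mem_ker.1 hx
    have : algebraMap D Ω (IsLocalization.mk' D x s) = 0 := by
      have e := congrArg (algebraMap D Ω) (IsLocalization.mk'_spec D x s)
      rw [map_mul, ← IsScalarTower.algebraMap_apply, ← IsScalarTower.algebraMap_apply, h0, mul_eq_zero] at e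
      exact e.resolve_right (hu s).ne_zero
    rw [this] at hd
    exact not_isUnit_zero hd⟩
  let a := AlgSpDec.EtHenz.fromLocal B D Ω M
  letI : Algebra D (Henz B Ω) := a.toRingHom.toAlgebra
  haveI : IsLocalRing (Henz B Ω) := EtFound.isLocalRing_henz' B Ω
  obtain ⟨hl, hs⟩ := AlgSpDec.EtHenz.isStrictHenselization B D Ω M
  refine ⟨inferInstance, inferInstance, hl, hs, ?_⟩
  rw [← hψ, ← Category.assoc, ← Spec.map_comp]
  congr 2
  exact CommRingCat.hom_ext a.comp_algebraMap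

variable {X' X : Scheme.{u}} {f : X' ⟶ X}

/-- strict localizations of locally 0-acyclic morphisms at chart points have connected geometric fibres -/
theorem geometricallyConnected_henz (hf : EtAcyc.IsLocZeroAcyclic f) {B A Ω : Type u} [CommRing B] [CommRing A]
    [Field Ω] [IsAlgClosed Ω] [Algebra B A] [Algebra A Ω] [Algebra B Ω] [IsScalarTower B A Ω]
    (ιB : Spec (CommRingCat.of B) ⟶ X) [IsOpenImmersion ιB] (ιA : Spec (CommRingCat.of A) ⟶ X') [IsOpenImmersion ιA]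
    (hι : ιA ≫ f = Spec.map (CommRingCat.ofHom (algebraMap B A)) ≫ ιB) (ψ : Henz B Ω →+* Henz A Ω)
    (hψ₁ : ψ.comp (algebraMap B (Henz B Ω)) = (algebraMap A (Henz A Ω)).comp (algebraMap B A))
    (hψ₂ : ∀ z, Henz.proj A Ω (ψ z) = Henz.proj B Ω z) :
    GeometricallyConnected (Spec.map (CommRingCat.ofHom ψ)) := by
  let a : PrimeSpectrum A := ⟨RingHom.ker (algebraMap A Ω), RingHom.ker_isPrime _⟩
  let b : PrimeSpectrum B := PrimeSpectrum.comap (algebraMap B A) a
  have hb : RingHom.ker (algebraMap B Ω) = b.asIdeal := by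
    rw [IsScalarTower.algebraMap_eq B A Ω]
    exact (RingHom.comap_ker _ _).symm
  have hfa : ιB b = f (ιA a) := by
    refine ((Scheme.Hom.comp_apply (Spec.map (CommRingCat.ofHom (algebraMap B A))) ιB a).symm.trans ?_)
    rw [← hι]
    exact Scheme.Hom.comp_apply _ _ _
  obtain ⟨_, _, _, _, eX⟩ := strictHens_chart (Ω := Ω) ιA a rfl (ιA a) rfl
  obtain ⟨_, _, _, _, eY⟩ := strictHens_chart (Ω := Ω) ιB b hb (f (ιA a)) hfa
  letI : Algebra (Henz B Ω) (Henz A Ω) := ψ.toAlgebra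
  haveI : IsLocalHom (algebraMap (Henz B Ω) (Henz A Ω)) := isLocalHom_henzMap hψ₁ hψ₂
  refine geometricallyConnected_of_isZeroAcyclic (R := Henz B Ω) (R' := Henz A Ω)
    (hf (ιA a) (Henz B Ω) (Henz A Ω) ?_)
  have h : CommRingCat.ofHom ((algebraMap (Henz B Ω) (Henz A Ω)).comp
      (algebraMap (X.presheaf.stalk (f (ιA a))) (Henz B Ω))) =
      f.stalkMap (ιA a) ≫ CommRingCat.ofHom (algebraMap (X'.presheaf.stalk (ιA a)) (Henz A Ω)) := by
    refine Spec.map_injective ((cancel_mono (X.fromSpecStalk (f (ιA a)))).1 ?_)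
    rw [CommRingCat.ofHom_comp, Spec.map_comp, Spec.map_comp, Category.assoc, Category.assoc, eY,
      Scheme.SpecMap_stalkMap_fromSpecStalk, ← Category.assoc, ← Category.assoc _ _ f, eX, Category.assoc _ ιA f, hι,
      ← Category.assoc (Spec.map (CommRingCat.ofHom (algebraMap A (Henz A Ω)))), ← Spec.map_comp, ← Spec.map_comp,
      ← CommRingCat.ofHom_comp, ← CommRingCat.ofHom_comp]
    rw [show (algebraMap (Henz B Ω) (Henz A Ω)) = ψ from rfl, hψ₁]
  exact congrArg CommRingCat.Hom.hom h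

section

variable {F' : EtDesc.Sh X'}
  {φ : (EtDesc.pullSh (pullback.fst f f)).obj F' ≅ (EtDesc.pullSh (pullback.snd f f)).obj F'}

open DescSec

/-- sections are compatible along morphisms with connected geometric fibres -/
theorem agree_of_connected (hφ : EtDesc.IsCocycle F' φ) {Z S : Scheme.{u}} (g : Z ⟶ S) [GeometricallyConnected g]
    (jS : S ⟶ X) {W₁ : X'.Etale} (t : ToType (F'.obj.obj (op W₁))) (ρ : Z ⟶ W₁.left)
    (hρ : ρ ≫ W₁.hom ≫ f = g ≫ jS) {Ω : Type u} [Field Ω] [IsSepClosed Ω]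
    (z₁ z₂ : Spec (CommRingCat.of Ω) ⟶ Z) (hz : z₁ ≫ g = z₂ ≫ g) :
    Agree f φ t t (z₁ ≫ ρ) (z₂ ≫ ρ) := by
  let T := pullback g (z₁ ≫ g)
  haveI : ConnectedSpace T :=
    GeometricallyConnected.geometrically_connectedSpace (f := g) (z₁ ≫ g) (pullback.fst g (z₁ ≫ g))
      (pullback.snd g (z₁ ≫ g)) (IsPullback.of_hasPullback g (z₁ ≫ g))
  have hw : ∀ {U : X'.Etale} (b₀ : Spec (CommRingCat.of Ω) ⟶ U.left), b₀ ≫ U.hom = (z₁ ≫ ρ) ≫ W₁.hom →
      (pullback.snd g (z₁ ≫ g) ≫ b₀) ≫ U.hom ≫ f = (pullback.fst g (z₁ ≫ g) ≫ ρ) ≫ W₁.hom ≫ f := by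
    intro U b₀ hb₀
    rw [Category.assoc, ← Category.assoc b₀, hb₀]
    simp only [Category.assoc, hρ]
    rw [← Category.assoc, ← Category.assoc (pullback.fst g (z₁ ≫ g)), pullback.condition]
    simp only [Category.assoc]
  let m₁ : T ⟶ dObj f W₁ W₁ := pullback.lift (pullback.snd _ _ ≫ z₁ ≫ ρ) (pullback.fst _ _ ≫ ρ) (hw (z₁ ≫ ρ) rfl)
  let M : Set T := m₁ ⁻¹' agreeSet f φ t t
  have hMc : IsOpen Mᶜ := by
    refine isOpen_iff_forall_mem_open.2 fun τ hτ => ?_
    obtain ⟨Ω', _, _, c, hc⟩ := exists_geom τ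
    let l := c ≫ pullback.snd g (z₁ ≫ g)
    let aτ := c ≫ pullback.fst g (z₁ ≫ g) ≫ ρ
    have hbase : (aτ ≫ W₁.hom) ≫ f = ((l ≫ z₁ ≫ ρ) ≫ W₁.hom) ≫ f := by
      have := hw (z₁ ≫ ρ) rfl
      simp only [aτ, l, Category.assoc] at this ⊢
      rw [this]
    obtain ⟨U, σ, b, hb, hA⟩ := exists_agree (φ := φ) t aτ ((l ≫ z₁ ≫ ρ) ≫ W₁.hom) hbase
    haveI : AlgebraicGeometry.Etale U.hom := U.prop
    obtain ⟨b₀, ⟨hb₀, hlb₀⟩, -⟩ := EtFound.existsUnique_fac U.hom ((z₁ ≫ ρ) ≫ W₁.hom) l b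
      (hb.trans (Category.assoc _ _ _))
    let m₂ : T ⟶ dObj f U W₁ := pullback.lift (pullback.snd _ _ ≫ b₀) (pullback.fst _ _ ≫ ρ) (hw b₀ hb₀)
    refine ⟨m₂ ⁻¹' agreeSet f φ σ t, fun τ' hτ' hM => hτ ?_, (isOpen_agreeSet f φ σ t).preimage m₂.continuous, ?_⟩
    · obtain ⟨Ω'', _, _, c', hc'⟩ := exists_geom τ'
      let l' := c' ≫ pullback.snd g (z₁ ≫ g)
      have h₂ : Agree f φ σ t (l' ≫ b₀) (c' ≫ pullback.fst g (z₁ ≫ g) ≫ ρ) := by
        have h := (agree_iff_mem (c' ≫ m₂)).2 (by rw [Scheme.Hom.comp_apply, hc']; exact hτ')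
        rwa [Category.assoc, pullback.lift_fst, Category.assoc, pullback.lift_snd, ← Category.assoc] at h
      have h₁ : Agree f φ t t (l' ≫ z₁ ≫ ρ) (c' ≫ pullback.fst g (z₁ ≫ g) ≫ ρ) := by
        have h := (agree_iff_mem (c' ≫ m₁)).2 (by rw [Scheme.Hom.comp_apply, hc']; exact hM)
        rwa [Category.assoc, pullback.lift_fst, Category.assoc, pullback.lift_snd, ← Category.assoc] at h
      have h₀ : Agree f φ σ t b₀ (z₁ ≫ ρ) := by
        refine Agree.of_ext l' ?_ (h₂.trans hφ (h₁.symm hφ))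
        rw [← Category.assoc b₀, hb₀]
        simp only [Category.assoc]
      have h₃ := h₀.ext_field l
      rw [hlb₀] at h₃
      have h₄ : Agree f φ t t (l ≫ z₁ ≫ ρ) aτ := (h₃.symm hφ).trans hφ (hA.symm hφ)
      have h₅ : Agree f φ t t ((c ≫ m₁) ≫ pullback.fst _ _) ((c ≫ m₁) ≫ pullback.snd _ _) := by
        rw [Category.assoc, pullback.lift_fst, Category.assoc, pullback.lift_snd, ← Category.assoc]
        exact h₄
      have := (agree_iff_mem (c ≫ m₁)).1 h₅
      rw [Scheme.Hom.comp_apply, hc] at this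
      exact this
    · have h₅ : Agree f φ σ t ((c ≫ m₂) ≫ pullback.fst _ _) ((c ≫ m₂) ≫ pullback.snd _ _) := by
        rw [Category.assoc, pullback.lift_fst, Category.assoc, pullback.lift_snd, ← Category.assoc, hlb₀]
        exact hA.symm hφ
      have := (agree_iff_mem (c ≫ m₂)).1 h₅
      rw [Scheme.Hom.comp_apply, hc] at this
      exact this
  have key : ∀ (z : Spec (CommRingCat.of Ω) ⟶ Z) (h : z ≫ g = 𝟙 _ ≫ z₁ ≫ g),
      pullback.lift z (𝟙 _) h (default : Spec (CommRingCat.of Ω)) ∈ M ↔ Agree f φ t t (z₁ ≫ ρ) (z ≫ ρ) := by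
    intro z h
    have e := agree_iff_mem (σ := t) (τ := t) (f := f) (φ := φ) (pullback.lift z (𝟙 _) h ≫ m₁)
    rw [Category.assoc, pullback.lift_fst, Category.assoc, pullback.lift_snd, ← Category.assoc, pullback.lift_snd,
      Category.id_comp, ← Category.assoc, pullback.lift_fst, Scheme.Hom.comp_apply] at e
    exact e.symm
  have hne : M.Nonempty := ⟨_, (key z₁ (Category.id_comp _).symm).2 (Agree.refl hφ t _)⟩
  have huniv := IsClopen.eq_univ ⟨⟨hMc⟩, (isOpen_agreeSet f φ t t).preimage m₁.continuous⟩ hne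
  exact (key z₂ (hz.symm.trans (Category.id_comp _).symm)).1 (huniv ▸ Set.mem_univ _)

/-- universally open locally 0-acyclic morphisms have connected stages -/
theorem hasStages_of_isLocZeroAcyclic [UniversallyOpen f] (hφ : EtDesc.IsCocycle F' φ)
    (hf : EtAcyc.IsLocZeroAcyclic f) : HasStages f φ := by
  intro Ω _ _ W₁ t w
  let ξ := w ≫ W₁.hom
  obtain ⟨B, iB, hiB, hyB, -⟩ := Scheme.exists_affine_mem_range_and_range_subset (x := f (ξ default))
    (U := (⊤ : X.Opens)) trivial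
  obtain ⟨A, iA, hiA, hxA, hiA'⟩ := Scheme.exists_affine_mem_range_and_range_subset (x := ξ default)
    (U := f ⁻¹ᵁ iB.opensRange) hyB
  obtain ⟨φA, hφA⟩ := Spec.map_surjective (IsOpenImmersion.lift iB (iA ≫ f) (by
    rintro _ ⟨q, rfl⟩
    rw [Scheme.Hom.comp_apply]
    exact hiA' ⟨q, rfl⟩))
  have hA : Spec.map φA ≫ iB = iA ≫ f := by rw [hφA, IsOpenImmersion.lift_fac]
  obtain ⟨τA, hτA⟩ := Spec.map_surjective (IsOpenImmersion.lift iA ξ (by
    rintro _ ⟨q, rfl⟩
    rw [Subsingleton.elim q default]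
    exact hxA))
  have hτ : Spec.map τA ≫ iA = ξ := by rw [hτA, IsOpenImmersion.lift_fac]
  letI : Algebra B A := φA.hom.toAlgebra
  letI : Algebra A Ω := τA.hom.toAlgebra
  letI : Algebra B Ω := (τA.hom.comp φA.hom).toAlgebra
  haveI : IsScalarTower B A Ω := .of_algebraMap_eq fun _ => rfl
  have hι : iA ≫ f = Spec.map (CommRingCat.ofHom (algebraMap B A)) ≫ iB := hA.symm
  obtain ⟨M₀, k₀, hk₀⟩ := exists_stage_nbhd iA W₁ w hτ.symm
  obtain ⟨ψ, hψ₁, hψ₂⟩ := exists_henzMap B A Ω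
  haveI := geometricallyConnected_henz hf iB iA hι ψ hψ₁ hψ₂
  letI : ∀ M : Nbhd A Ω, Algebra B M.B := fun M => ((algebraMap A M.B).comp (algebraMap B A)).toAlgebra
  haveI : ∀ M : Nbhd A Ω, IsScalarTower B A M.B := fun M => .of_algebraMap_eq fun _ => rfl
  letI : Algebra B (Henz A Ω) := ((algebraMap A (Henz A Ω)).comp (algebraMap B A)).toAlgebra
  haveI : IsScalarTower B A (Henz A Ω) := .of_algebraMap_eq fun _ => rfl
  let ψ' : Henz B Ω →ₐ[B] Henz A Ω := { ψ with commutes' := fun x => congr($hψ₁ x) }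
  let incL : M₀.B →+* M₀.B ⊗[B] M₀.B := Algebra.TensorProduct.includeLeftRingHom
  let incR : M₀.B →+* M₀.B ⊗[B] M₀.B :=
    (Algebra.TensorProduct.includeRight : M₀.B →ₐ[B] M₀.B ⊗[B] M₀.B).toRingHom
  let k₁ : Spec (CommRingCat.of M₀.B) ⟶ W₁.left := k₀.left
  have hk₁ : k₁ ≫ W₁.hom ≫ f =
      Spec.map (CommRingCat.ofHom (algebraMap B M₀.B)) ≫ iB := by
    rw [← Category.assoc, show k₁ ≫ W₁.hom = Spec.map (CommRingCat.ofHom (algebraMap A M₀.B)) ≫ iA from
      MorphismProperty.Over.w k₀, Category.assoc, hι, ← Category.assoc, ← Spec.map_comp]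
    rfl
  let m₀ : Spec (CommRingCat.of (M₀.B ⊗[B] M₀.B)) ⟶ dObj f W₁ W₁ :=
    pullback.lift (Spec.map (CommRingCat.ofHom incL) ≫ k₁) (Spec.map (CommRingCat.ofHom incR) ≫ k₁) (by
      rw [Category.assoc, Category.assoc, hk₁, ← Category.assoc, ← Category.assoc, ← Spec.map_comp, ← Spec.map_comp,
        ← CommRingCat.ofHom_comp, ← CommRingCat.ofHom_comp]
      congr 3
      exact RingHom.ext fun x => (Algebra.TensorProduct.algebraMap_apply x).symm.trans
        (Algebra.TensorProduct.algebraMap_apply' x))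
  let C : Set (PrimeSpectrum (M₀.B ⊗[B] M₀.B)) := (m₀ ⁻¹' agreeSet f φ t t)ᶜ
  have hC : IsClosed C := ((isOpen_agreeSet f φ t t).preimage m₀.continuous).isClosed_compl
  let I := PrimeSpectrum.vanishingIdeal C
  have hI : PrimeSpectrum.zeroLocus (I : Set (M₀.B ⊗[B] M₀.B)) = C := by
    rw [PrimeSpectrum.zeroLocus_vanishingIdeal_eq_closure, hC.closure_eq]
  have hpt : ∀ (K : Type u) [Field K] (θ : M₀.B ⊗[B] M₀.B →+* K),
      (∃ x ∈ I, θ x ≠ 0) ↔ m₀ (Spec.map (CommRingCat.ofHom θ) default) ∈ agreeSet f φ t t := by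
    intro K _ θ
    let o : PrimeSpectrum K := (⟨⊥, Ideal.isPrime_bot⟩ : PrimeSpectrum K)
    let q : PrimeSpectrum (M₀.B ⊗[B] M₀.B) := PrimeSpectrum.comap θ o
    have hqθ : Spec.map (CommRingCat.ofHom θ) default = q := by
      rw [Subsingleton.elim (default : ↥(Spec (CommRingCat.of K))) o]
      rfl
    have hq : ∀ x, x ∈ q.asIdeal ↔ θ x = 0 := fun x => Ideal.mem_bot
    rw [hqθ]
    show _ ↔ q ∈ (m₀ ⁻¹' agreeSet f φ t t)
    rw [← Set.notMem_compl_iff, show (m₀ ⁻¹' agreeSet f φ t t)ᶜ = C from rfl, ← hI, PrimeSpectrum.mem_zeroLocus,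
      Set.not_subset]
    exact exists_congr fun x => and_congr Iff.rfl ((not_congr (hq x)).symm)
  have hlift : ∀ (K : Type u) [Field K] (θ : M₀.B ⊗[B] M₀.B →+* K) (a b : M₀.B →+* K),
      (∀ x, θ (x ⊗ₜ 1) = a x) → (∀ x, θ (1 ⊗ₜ x) = b x) →
      (Agree f φ t t (Spec.map (CommRingCat.ofHom a) ≫ k₁) (Spec.map (CommRingCat.ofHom b) ≫ k₁) ↔
        ∃ x ∈ I, θ x ≠ 0) := by
    intro K _ θ a b ha hb
    have e := agree_iff_mem (σ := t) (τ := t) (f := f) (φ := φ) (Spec.map (CommRingCat.ofHom θ) ≫ m₀)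
    rw [Category.assoc, pullback.lift_fst, Category.assoc, pullback.lift_snd, ← Category.assoc, ← Category.assoc,
      ← Spec.map_comp, ← Spec.map_comp, ← CommRingCat.ofHom_comp, ← CommRingCat.ofHom_comp,
      show θ.comp incL = a from RingHom.ext ha, show θ.comp incR = b from RingHom.ext hb,
      Scheme.Hom.comp_apply] at e
    exact e.trans (hpt K θ).symm
  have hstage : ∀ (K : Type u) [Field K] (h₁ h₂ : Henz A Ω →+* K),
      h₁.comp ψ'.toRingHom = h₂.comp ψ'.toRingHom →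
      ∀ θ : M₀.B ⊗[B] M₀.B →+* K, (∀ a, θ (a ⊗ₜ 1) = h₁ (Henz.ofB M₀ a)) →
        (∀ a, θ (1 ⊗ₜ a) = h₂ (Henz.ofB M₀ a)) → ∃ x ∈ I, θ x ≠ 0 := by
    intro K _ h₁ h₂ h12 θ hθ₁ hθ₂
    let K' := AlgebraicClosure K
    let ι : K →+* K' := algebraMap K K'
    let ρ : Spec (CommRingCat.of (Henz A Ω)) ⟶ W₁.left :=
      Spec.map (CommRingCat.ofHom (Henz.ofB M₀).toRingHom) ≫ k₁
    have hρ : ρ ≫ W₁.hom ≫ f = Spec.map (CommRingCat.ofHom ψ) ≫
        Spec.map (CommRingCat.ofHom (algebraMap B (Henz B Ω))) ≫ iB := by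
      rw [Category.assoc, hk₁, ← Category.assoc, ← Category.assoc, ← Spec.map_comp, ← Spec.map_comp,
        ← CommRingCat.ofHom_comp, ← CommRingCat.ofHom_comp, hψ₁]
      congr 3
      exact RingHom.ext fun x => (Henz.ofB M₀).commutes _
    have hA := agree_of_connected (f := f) hφ (Spec.map (CommRingCat.ofHom ψ)) _ t ρ hρ
      (Spec.map (CommRingCat.ofHom (ι.comp h₁))) (Spec.map (CommRingCat.ofHom (ι.comp h₂))) (by
        rw [← Spec.map_comp, ← Spec.map_comp, ← CommRingCat.ofHom_comp, ← CommRingCat.ofHom_comp,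
          RingHom.comp_assoc, RingHom.comp_assoc, show h₁.comp ψ = h₂.comp ψ from h12])
    simp only [ρ, ← Category.assoc, ← Spec.map_comp, ← CommRingCat.ofHom_comp] at hA
    obtain ⟨x, hx, hx0⟩ := (hlift K' (ι.comp θ) _ _ (fun a => congrArg ι (hθ₁ a)) (fun a => congrArg ι (hθ₂ a))).1 hA
    exact ⟨x, hx, fun h0 => hx0 (by rw [RingHom.comp_apply, h0, map_zero])⟩
  obtain ⟨M, χ, N, α, hα, hcompat⟩ := Square.exists_stage_pairs (gX := fun M : Nbhd A Ω => Henz.ofB M)
    (EtFound.isColim_henz B Ω) (EtFound.isColim_henz A Ω) ψ' M₀ I hstage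
  let k : stageEt iA M.B ⟶ W₁ := stageMap iA χ.1 ≫ k₀
  let β : (stageEt iA M.B).left ⟶ (stageEt iB N.B).left := Spec.map (CommRingCat.ofHom α.toRingHom)
  have hβ : β ≫ (stageEt iB N.B).hom = (stageEt iA M.B).hom ≫ f := by
    show Spec.map (CommRingCat.ofHom α.toRingHom) ≫ Spec.map (CommRingCat.ofHom (algebraMap B N.B)) ≫ iB =
      (Spec.map (CommRingCat.ofHom (algebraMap A M.B)) ≫ iA) ≫ f
    rw [Category.assoc, hι, ← Category.assoc, ← Category.assoc, ← Spec.map_comp, ← Spec.map_comp,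
      ← CommRingCat.ofHom_comp, ← CommRingCat.ofHom_comp]
    congr 3
    exact α.comp_algebraMap
  let g : stageEt iA M.B ⟶ (EtCoh.bc f).obj (stageEt iB N.B) :=
    MorphismProperty.Over.homMk (pullback.lift β (stageEt iA M.B).hom hβ) (pullback.lift_snd _ _ _) trivial
  haveI : AlgebraicGeometry.Etale g.left := EtFound.etale_left g
  haveI hopen : UniversallyOpen (g.left ≫ pullback.fst (stageEt iB N.B).hom f) := inferInstance
  refine ⟨stageEt iA M.B, F'.obj.map k.op t, (stageEt iA M.B).left, 𝟙 _, stageEt iB N.B, β, nbhdPt M,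
    hβ.trans (Category.id_comp _).symm, ?_, ?_, fun Ω' _ _ a b hab => ?_⟩
  · rw [Category.comp_id, agree_map_right hφ]
    rw [show nbhdPt M ≫ k.left = w from by
      show nbhdPt M ≫ (stageMap iA χ.1).left ≫ k₀.left = w
      rw [← Category.assoc, nbhdPt_comp iA χ.1 (trans_toK χ), hk₀]]
    exact Agree.refl hφ t w
  · rwa [show g.left ≫ pullback.fst (stageEt iB N.B).hom f = β from pullback.lift_fst _ _ _] at hopen
  · obtain ⟨a₁, rfl⟩ := Spec.map_surjective (show Spec (CommRingCat.of Ω') ⟶ Spec (CommRingCat.of M.B) from a)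
    obtain ⟨b₁, rfl⟩ := Spec.map_surjective (show Spec (CommRingCat.of Ω') ⟶ Spec (CommRingCat.of M.B) from b)
    have e : a₁.hom.comp α.toRingHom = b₁.hom.comp α.toRingHom := by
      have : Spec.map (CommRingCat.ofHom α.toRingHom ≫ a₁) = Spec.map (CommRingCat.ofHom α.toRingHom ≫ b₁) := by
        rw [Spec.map_comp, Spec.map_comp]
        exact hab
      exact congrArg CommRingCat.Hom.hom (Spec.map_injective this)
    have eB : (a₁.hom.comp χ.1.toRingHom).comp (algebraMap B M₀.B) =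
        (b₁.hom.comp χ.1.toRingHom).comp (algebraMap B M₀.B) := RingHom.ext fun x => by
      show a₁.hom (χ.1 (algebraMap B M₀.B x)) = b₁.hom (χ.1 (algebraMap B M₀.B x))
      rw [show χ.1 (algebraMap B M₀.B x) = α (algebraMap B N.B x) from
        (χ.1.commutes (algebraMap B A x)).trans (α.commutes x).symm]
      exact congr($e (algebraMap B N.B x))
    let θ : M₀.B ⊗[B] M₀.B →+* Ω' :=
      OverField.tlift (R := B) (A := M₀.B) (B := M₀.B) (C := Ω') (a₁.hom.comp χ.1.toRingHom)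
        (b₁.hom.comp χ.1.toRingHom) eB
    have hθ₁ : ∀ x, θ (x ⊗ₜ 1) = a₁.hom (χ.1 x) := fun x =>
      (OverField.tlift_tmul _ _ eB x 1).trans (by rw [map_one, mul_one]; rfl)
    have hθ₂ : ∀ x, θ (1 ⊗ₜ x) = b₁.hom (χ.1 x) := fun x =>
      (OverField.tlift_tmul _ _ eB 1 x).trans (by rw [map_one, one_mul]; rfl)
    have hA := (hlift Ω' θ (a₁.hom.comp χ.1.toRingHom) (b₁.hom.comp χ.1.toRingHom) hθ₁ hθ₂).2 (hcompat Ω' a₁.hom b₁.hom e θ hθ₁ hθ₂)
    rw [Category.comp_id, Category.comp_id, agree_map_left, agree_map_right hφ]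
    have ek : ∀ c : CommRingCat.of M.B ⟶ CommRingCat.of Ω',
        (show Spec (CommRingCat.of Ω') ⟶ (stageEt iA M.B).left from Spec.map c) ≫ k.left =
          Spec.map (CommRingCat.ofHom (c.hom.comp χ.1.toRingHom)) ≫ k₁ := fun c => by
      show Spec.map c ≫ Spec.map (CommRingCat.ofHom χ.1.toRingHom) ≫ k₁ = _
      rw [← Category.assoc, ← Spec.map_comp]
      rfl
    exact (ek a₁).symm ▸ (ek b₁).symm ▸ hA

end

end Groth.Agent.H0FBC
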