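import Groth.Agent.H0FBC.QcSubm
import Groth.Agent.H0FBC.StageConn
import Groth.Agent.H0FBC.FlatBC

/-!
# Effective descent along flat qcqs locally 0-acyclic surjections
-/

set_option autoImplicit false
set_option linter.style.haveILetI false
set_option linter.unusedSectionVars false
set_option backward.isDefEq.respectTransparency false
set_option backward.isDefEq.respectTransparency.types false
universe u

open CategoryTheory CategoryTheory.Limits AlgebraicGeometry TopologicalSpace Opposite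
open scoped TensorProduct

attribute [-instance] CategoryTheory.catToReflQuiver

namespace Groth.Agent.H0FBC

open IsLocalRing Groth.Agent.BigSiteLib DescSec
open Groth.Agent.Hensel (Henz Nbhd)

unseal DescSec.stI in
theorem stI_toPullStalk {X Y : Scheme.{u}} (r : X ⟶ Y) (F : EtDesc.Sh Y) {Ω : Type u} [Field Ω] [IsSepClosed Ω]
    (ζ : Spec (CommRingCat.of Ω) ⟶ X) (p : St F (ζ ≫ r)) :
    stI r ζ F (H0PBC.toPullStalk (A := Type (u + 1)) r F ζ (ζ ≫ r) rfl p) = p :=
  DescSec.iso_hom_inv_apply ((EtFound.sheafFiberPullIso r ζ).app F).symm p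

theorem germ_stage_conv {P Y : Scheme.{u}} (r : P ⟶ Y) (F : EtDesc.Sh Y) {Ω : Type u} [Field Ω] [IsSepClosed Ω]
    (ζ : Spec (CommRingCat.of Ω) ⟶ P) {U : P.Etale} {U' : Y.Etale}
    (τ₀ : ToType (((EtDesc.pullSh r).obj F).obj.obj (op U))) (τ : ToType (F.obj.obj (op U')))
    (o : (Scheme.pointSmallEtale ζ).fiber.obj U) (a : Spec (CommRingCat.of Ω) ⟶ U'.left) (ha : a ≫ U'.hom = ζ ≫ r)
    (h : germ ((EtDesc.pullSh r).obj F) ζ U o τ₀ =
      H0PBC.toPullStalk (A := Type (u + 1)) r F ζ (ζ ≫ r) rfl (H0PBC.germ F τ (ζ ≫ r) a ha)) :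
    stI r ζ F (germ ((EtDesc.pullSh r).obj F) ζ U o τ₀) = germ F (ζ ≫ r) U' (CategoryTheory.Over.homMk a ha) τ := by
  rw [h, stI_toPullStalk]
  rfl

section

variable {X' X : Scheme.{u}} {f : X' ⟶ X} {F' : EtDesc.Sh X'}
  {φ : (EtDesc.pullSh (pullback.fst f f)).obj F' ≅ (EtDesc.pullSh (pullback.snd f f)).obj F'}

local notation "pb" => IsPullback.of_hasPullback f f

/-- a datum compatible along a flat connected cover descends to a section over the base change -/
theorem exists_limit_section (hφ : EtDesc.IsCocycle F' φ) {Z S : Scheme.{u}} (g : Z ⟶ S) [GeometricallyConnected g]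
    [Flat g] [QuasiCompact g] [Surjective g] (jS : S ⟶ X) {W₁ : X'.Etale} (t : ToType (F'.obj.obj (op W₁)))
    (ρ : Z ⟶ W₁.left) (hρ : ρ ≫ W₁.hom ≫ f = g ≫ jS) :
    ∃ τ₀ : ToType (((EtDesc.pullSh (pullback.snd jS f)).obj F').obj.obj (op (EtCoh.top (pullback jS f)))),
      ∀ (Ω : Type u) [Field Ω] [IsSepClosed Ω] (ζ : Spec (CommRingCat.of Ω) ⟶ pullback jS f)
        (a : Spec (CommRingCat.of Ω) ⟶ Z) (_ : a ≫ g = ζ ≫ pullback.fst jS f)
        (h : ((a ≫ ρ) ≫ W₁.hom) ≫ f = (ζ ≫ pullback.snd jS f) ≫ f)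
        (o : (Scheme.pointSmallEtale ζ).fiber.obj (EtCoh.top (pullback jS f))),
        stI (pullback.snd jS f) ζ F' (germ ((EtDesc.pullSh (pullback.snd jS f)).obj F') ζ _ o τ₀) =
          Phi φ.hom pb ((a ≫ ρ) ≫ W₁.hom) (ζ ≫ pullback.snd jS f) h (germ F' _ W₁ (fpt (a ≫ ρ)) t) := by
  let P := pullback jS f
  let r : P ⟶ X' := pullback.snd jS f
  let G₀ := (EtDesc.pullSh r).obj F'
  have hind : ∀ (Ω : Type u) [Field Ω] [IsSepClosed Ω] (a a' : Spec (CommRingCat.of Ω) ⟶ Z), a ≫ g = a' ≫ g →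
      Agree f φ t t (a ≫ ρ) (a' ≫ ρ) := fun Ω _ _ a a' e => agree_of_connected hφ g jS t ρ hρ a a' e
  have piece : ∀ z : P, ∃ (U : P.Etale) (σ : ToType (G₀.obj.obj (op U))) (u₀ : U.left), U.hom u₀ = z ∧
      ∀ (Ω : Type u) [Field Ω] [IsSepClosed Ω] (ζ : Spec (CommRingCat.of Ω) ⟶ P)
        (o : (Scheme.pointSmallEtale ζ).fiber.obj U) (a : Spec (CommRingCat.of Ω) ⟶ Z)
        (_ : a ≫ g = ζ ≫ pullback.fst jS f) (h : ((a ≫ ρ) ≫ W₁.hom) ≫ f = (ζ ≫ r) ≫ f),
        stI r ζ F' (germ G₀ ζ U o σ) = Phi φ.hom pb ((a ≫ ρ) ≫ W₁.hom) (ζ ≫ r) h (germ F' _ W₁ (fpt (a ≫ ρ)) t) := by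
    intro z
    obtain ⟨z', hz'⟩ := g.surjective (pullback.fst jS f z)
    obtain ⟨Ω, _, _, a, ζ, haζ, -, hζz⟩ := exists_pair g (pullback.fst jS f) z' z hz'
    obtain ⟨U, σ, b, hb, hAb⟩ := exists_agree (φ := φ) t (a ≫ ρ) (ζ ≫ r) (by
      simp only [Category.assoc, hρ]
      rw [← Category.assoc, haζ, Category.assoc, pullback.condition])
    haveI : AlgebraicGeometry.Etale U.hom := U.prop
    let Pz : P.Etale := (EtCoh.bc r).obj U
    let R := pullback g (Pz.hom ≫ pullback.fst jS f)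
    have hR : (pullback.fst g (Pz.hom ≫ pullback.fst jS f) ≫ ρ) ≫ W₁.hom ≫ f =
        (pullback.snd g (Pz.hom ≫ pullback.fst jS f) ≫ pullback.fst U.hom r) ≫ U.hom ≫ f := by
      rw [Category.assoc, hρ, ← Category.assoc, pullback.condition, Category.assoc, Category.assoc, Category.assoc,
        pullback.condition]
      congr 1
      rw [← Category.assoc (pullback.fst U.hom r), pullback.condition, Category.assoc]
      rfl
    let m : R ⟶ dObj f W₁ U :=
      pullback.lift (pullback.fst g (Pz.hom ≫ pullback.fst jS f) ≫ ρ)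
        (pullback.snd g (Pz.hom ≫ pullback.fst jS f) ≫ pullback.fst U.hom r) hR
    let E : Set R := m ⁻¹' agreeSet f φ t σ
    have hmem : ∀ (Ω' : Type u) [Field Ω'] (c : Spec (CommRingCat.of Ω') ⟶ R),
        c default ∈ E ↔ Agree f φ t σ ((c ≫ pullback.fst g (Pz.hom ≫ pullback.fst jS f)) ≫ ρ)
          ((c ≫ pullback.snd g (Pz.hom ≫ pullback.fst jS f)) ≫ pullback.fst U.hom r) := by
      intro Ω' _ c
      have e := agree_iff_mem (σ := t) (τ := σ) (f := f) (φ := φ) (c ≫ m)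
      rw [Category.assoc, pullback.lift_fst, Category.assoc, pullback.lift_snd, ← Category.assoc, ← Category.assoc,
        Scheme.Hom.comp_apply] at e
      exact e.symm
    have hsat : ∀ e e' : R, pullback.snd g (Pz.hom ≫ pullback.fst jS f) e =
        pullback.snd g (Pz.hom ≫ pullback.fst jS f) e' → e ∈ E → e' ∈ E := by
      intro e e' hee he
      obtain ⟨Ω', _, _, c, c', hcc, hc, hc'⟩ := exists_pair _ _ e e' hee
      rw [← hc', hmem]
      rw [← hc, hmem] at he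
      rw [← hcc]
      refine (hind Ω' _ _ ?_).trans hφ he
      exact (Category.assoc _ _ _).trans ((congrArg (c' ≫ ·) pullback.condition).trans ((Category.assoc _ _ _).symm.trans
        ((congrArg (· ≫ (Pz.hom ≫ pullback.fst jS f)) hcc.symm).trans ((Category.assoc _ _ _).trans
          ((congrArg (c ≫ ·) pullback.condition.symm).trans (Category.assoc _ _ _).symm)))))
    let O : Pz.left.Opens := ⟨pullback.snd g (Pz.hom ≫ pullback.fst jS f) '' E,
      (Flat.isQuotientMap_of_surjective (pullback.snd g (Pz.hom ≫ pullback.fst jS f))).isOpen_preimage.1 (by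
        rw [show pullback.snd g (Pz.hom ≫ pullback.fst jS f) ⁻¹' (pullback.snd g (Pz.hom ≫ pullback.fst jS f) '' E) = E
          from Set.Subset.antisymm (fun x ⟨e, he, hex⟩ => hsat e x hex he) (Set.subset_preimage_image _ _)]
        exact (isOpen_agreeSet f φ t σ).preimage m.continuous)⟩
    let o₀ : Spec (CommRingCat.of Ω) ⟶ Pz.left := pullback.lift b ζ hb
    have ho₀ : o₀ default ∈ O := by
      let c : Spec (CommRingCat.of Ω) ⟶ R := pullback.lift a o₀ (by
        rw [← Category.assoc, show o₀ ≫ Pz.hom = ζ from pullback.lift_snd _ _ _, haζ])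
      refine ⟨c default, (hmem Ω c).2 ?_, ?_⟩
      · rw [pullback.lift_fst, pullback.lift_snd, pullback.lift_fst]
        exact hAb
      · exact (Scheme.Hom.comp_apply c _ default).symm.trans
          (congrArg (fun k : Spec (CommRingCat.of Ω) ⟶ Pz.left => k default) (pullback.lift_snd _ _ _))
    refine ⟨EtFound.restrictEtale Pz O, G₀.obj.map (EtFound.restrictEtaleHom Pz O).op (up r F' U σ), ⟨_, ho₀⟩, ?_,
      fun Ω' _ _ ζ' o a' ha' h => ?_⟩
    · show (O.ι ≫ pullback.snd U.hom r) (⟨_, ho₀⟩ : O.toScheme) = z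
      rw [Scheme.Hom.comp_apply]
      exact (Scheme.Hom.comp_apply o₀ (pullback.snd U.hom r) default).symm.trans
        ((congrArg (fun k : Spec (CommRingCat.of Ω) ⟶ _ => k default) (pullback.lift_snd b ζ hb)).trans hζz)
    · let o' : (Scheme.pointSmallEtale ζ').fiber.obj Pz :=
        (Scheme.pointSmallEtale ζ').fiber.map (EtFound.restrictEtaleHom Pz O) o
      let q : Spec (CommRingCat.of Ω') ⟶ Pz.left := o'.left
      have hq : q ≫ Pz.hom = ζ' := CategoryTheory.Over.w o'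
      rw [germ_map, stI_germ]
      let bU : Spec (CommRingCat.of Ω') ⟶ U.left := (EtFound.bcFiberEquiv r ζ' U o').left
      have hbU : bU = q ≫ pullback.fst U.hom r := bcFiberEquiv_left r ζ' U o'
      obtain ⟨e, he, heq⟩ : q default ∈ O := by
        show ((o.left : Spec (CommRingCat.of Ω') ⟶ _) ≫ O.ι) (default : Spec (CommRingCat.of Ω')) ∈ O
        rw [Scheme.Hom.comp_apply]
        exact ((o.left : Spec (CommRingCat.of Ω') ⟶ _) (default : Spec (CommRingCat.of Ω'))).2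
      let c : Spec (CommRingCat.of Ω') ⟶ R := pullback.lift a' q (by rw [← Category.assoc, hq, ha'])
      have hcE : c default ∈ E := hsat e _ (heq.trans ((Scheme.Hom.comp_apply c _ default).symm.trans
        (congrArg (fun k : Spec (CommRingCat.of Ω') ⟶ Pz.left => k default) (pullback.lift_snd _ _ _))).symm) he
      have hA := (hmem Ω' c).1 hcE
      rw [pullback.lift_fst, pullback.lift_snd, ← hbU] at hA
      have hbase : bU ≫ U.hom = ζ' ≫ r := CategoryTheory.Over.w _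
      have h2 : ((a' ≫ ρ) ≫ W₁.hom) ≫ f = (bU ≫ U.hom) ≫ f := by rw [hbase]; exact h
      refine Eq.trans ?_ (Phi_congr rfl hbase h2 h _).symm
      rw [(agree_iff h2).1 hA]
      exact (tr_germ F' hbase U (fpt bU) _ rfl σ).symm
  choose U σ u₀ hu hσ using piece
  have hcomp : ∀ i j (Y : P.Etale) (p : Y ⟶ U i) (q : Y ⟶ U j),
      G₀.obj.map p.op (σ i) = G₀.obj.map q.op (σ j) := fun i j Y p q => by
    refine eq_of_locEq G₀ fun y => ?_
    obtain ⟨z', hz'⟩ := g.surjective ((Y.hom ≫ pullback.fst jS f) y)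
    obtain ⟨Ω, _, _, a, c, hac, -, hc⟩ := exists_pair g (Y.hom ≫ pullback.fst jS f) z' y hz'
    refine locEq_of_germ (c ≫ Y.hom) (fpt c) ?_ y hc
    have h : ((a ≫ ρ) ≫ W₁.hom) ≫ f = ((c ≫ Y.hom) ≫ r) ≫ f := by
      simp only [Category.assoc, hρ]
      rw [← Category.assoc, hac, Category.assoc, Category.assoc, pullback.condition]
    refine (stI r (c ≫ Y.hom) F').injective ?_
    show stI r (c ≫ Y.hom) F' (germ G₀ _ Y (fpt c) (G₀.obj.map p.op (σ i))) =
      stI r (c ≫ Y.hom) F' (germ G₀ _ Y (fpt c) (G₀.obj.map q.op (σ j)))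
    rw [germ_map, germ_map, hσ i Ω _ _ a (hac.trans (Category.assoc _ _ _).symm) h,
      hσ j Ω _ _ a (hac.trans (Category.assoc _ _ _).symm) h]
  have hcov : Sieve.generate (Presieve.ofArrows U (fun z => toTop (U z))) ∈ P.smallEtaleTopology (EtCoh.top P) := by
    rw [EtFound.mem_topology_iff]
    intro z
    refine ⟨U z, toTop (U z), u₀ z, ⟨U z, 𝟙 _, toTop (U z), ⟨z⟩, Category.id_comp _⟩, ?_⟩
    have hm : (U z).hom = (toTop (U z)).left := (MorphismProperty.Over.w (toTop (U z))).symm.trans (Category.comp_id _)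
    rw [← hm]
    exact hu z
  obtain ⟨τ₀, hτ₀, -⟩ := (Presieve.isSheafFor_arrows_iff _ _).1 ((Presieve.isSheafFor_iff_generate _).2
    (((isSheaf_iff_isSheaf_of_type _ _).1 G₀.property) _ hcov)) σ (fun i j Y p q _ => hcomp i j Y p q)
  refine ⟨τ₀, fun Ω _ _ ζ a ha h o => ?_⟩
  let z := ζ (default : Spec (CommRingCat.of Ω))
  have ho : (o.left : Spec (CommRingCat.of Ω) ⟶ P) = ζ := (Category.comp_id _).symm.trans (CategoryTheory.Over.w o)
  have hm : (U z).hom = (toTop (U z)).left := (MorphismProperty.Over.w (toTop (U z))).symm.trans (Category.comp_id _)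
  obtain ⟨o', ho', -⟩ := EtFound.exists_lift_point (toTop (U z)) o (u₀ z) (by
    rw [← hm]
    exact (hu z).trans (congrArg (fun k : Spec (CommRingCat.of Ω) ⟶ P => k default) ho).symm)
  rw [← ho', ← germ_map, hτ₀ z]
  exact hσ z Ω ζ o' a ha h

/-- compatible sections with prescribed stalks at a chart -/
theorem psi_stalk_surjective_qc [Flat f] [QuasiCompact f] [QuasiSeparated f] (hφ : EtDesc.IsCocycle F' φ)
    (hf : EtAcyc.IsLocZeroAcyclic f) {Ω : Type u} [Field Ω] [IsAlgClosed Ω]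
    (ξ₀ : Spec (CommRingCat.of Ω) ⟶ X') :
    Function.Surjective ((Scheme.pointSmallEtale ξ₀).presheafFiber.map
      (gluePsi f (pullback.fst f f) (pullback.snd f f) (pullback.fst f f ≫ f) rfl pullback.condition.symm φ.hom).hom) := by
  intro c₀
  obtain ⟨W₁, tw, t, rfl⟩ := germ_surjective F' ξ₀ c₀
  obtain ⟨w, hw, htw⟩ : ∃ w : Spec (CommRingCat.of Ω) ⟶ W₁.left, w ≫ W₁.hom = ξ₀ ∧ tw.left = w :=
    ⟨tw.left, CategoryTheory.Over.w tw, rfl⟩
  subst hw
  obtain rfl : tw = fpt w := fib_ext htw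
  let ξ := w ≫ W₁.hom
  obtain ⟨B, iB, hiB, hyB, -⟩ := Scheme.exists_affine_mem_range_and_range_subset (x := f (ξ default))
    (U := (⊤ : X.Opens)) trivial
  obtain ⟨A, iA, hiA, hxA, hiA'⟩ := Scheme.exists_affine_mem_range_and_range_subset (x := ξ default)
    (U := f ⁻¹ᵁ iB.opensRange) hyB
  obtain ⟨φA, hφA⟩ := Spec.map_surjective (IsOpenImmersion.lift iB (iA ≫ f) (by
    rintro _ ⟨q, rfl⟩
    rw [Scheme.Hom.comp_apply]
    exact hiA' ⟨q, rfl⟩))
  have hA : Spec.map φA ≫ iB = iA ≫ f := by rw [hφA, IsOpenImmersion.lift_fac]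
  obtain ⟨τA, hτA⟩ := Spec.map_surjective (IsOpenImmersion.lift iA ξ (by
    rintro _ ⟨q, rfl⟩
    rw [Subsingleton.elim q default]
    exact hxA))
  have hτ : Spec.map τA ≫ iA = ξ := by rw [hτA, IsOpenImmersion.lift_fac]
  letI : Algebra B A := φA.hom.toAlgebra
  letI : Algebra A Ω := τA.hom.toAlgebra
  letI : Algebra B Ω := (τA.hom.comp φA.hom).toAlgebra
  haveI : IsScalarTower B A Ω := .of_algebraMap_eq fun _ => rfl
  have hι : iA ≫ f = Spec.map (CommRingCat.ofHom (algebraMap B A)) ≫ iB := hA.symm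
  haveI : Flat (Spec.map φA ≫ iB) := by rw [hA]; infer_instance
  haveI hfA : Flat (Spec.map φA) := flat_of_comp_etale (Spec.map φA) iB
  haveI : Module.Flat B A := RingHom.flat_algebraMap_iff.1 ((HasRingHomProperty.Spec_iff (P := @Flat)).1 hfA)
  obtain ⟨M₀, k₀, hk₀⟩ := exists_stage_nbhd iA W₁ w hτ.symm
  obtain ⟨ψ, hψ₁, hψ₂⟩ := exists_henzMap B A Ω
  let g : Spec (CommRingCat.of (Henz A Ω)) ⟶ Spec (CommRingCat.of (Henz B Ω)) := Spec.map (CommRingCat.ofHom ψ)
  haveI : GeometricallyConnected g := geometricallyConnected_henz hf iB iA hι ψ hψ₁ hψ₂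
  have hflat : ψ.Flat := flat_henzMap hψ₁ hψ₂
  haveI : Flat g := (HasRingHomProperty.Spec_iff (P := @Flat)).2 hflat
  haveI : Surjective g := by
    letI : Algebra (Henz B Ω) (Henz A Ω) := ψ.toAlgebra
    haveI : IsLocalRing (Henz B Ω) := EtFound.isLocalRing_henz' B Ω
    haveI : IsLocalRing (Henz A Ω) := EtFound.isLocalRing_henz' A Ω
    haveI : IsLocalHom (algebraMap (Henz B Ω) (Henz A Ω)) := isLocalHom_henzMap hψ₁ hψ₂
    haveI : Module.Flat (Henz B Ω) (Henz A Ω) := hflat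
    haveI : Module.FaithfullyFlat (Henz B Ω) (Henz A Ω) := Module.FaithfullyFlat.of_flat_of_isLocalHom
    exact ⟨PrimeSpectrum.comap_surjective_of_faithfullyFlat⟩
  let jS : Spec (CommRingCat.of (Henz B Ω)) ⟶ X := H0PBC.ym iB (Henz B Ω)
  let k₁ : Spec (CommRingCat.of M₀.B) ⟶ W₁.left := k₀.left
  have hk₁ : k₁ ≫ W₁.hom ≫ f = Spec.map (CommRingCat.ofHom ((algebraMap A M₀.B).comp (algebraMap B A))) ≫ iB := by
    rw [← Category.assoc, show k₁ ≫ W₁.hom = Spec.map (CommRingCat.ofHom (algebraMap A M₀.B)) ≫ iA from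
      MorphismProperty.Over.w k₀, Category.assoc, hι, ← Category.assoc, ← Spec.map_comp]
    rfl
  let ρ : Spec (CommRingCat.of (Henz A Ω)) ⟶ W₁.left :=
    Spec.map (CommRingCat.ofHom (Henz.ofB M₀).toRingHom) ≫ k₁
  have hρ : ρ ≫ W₁.hom ≫ f = g ≫ jS := by
    show _ = Spec.map (CommRingCat.ofHom ψ) ≫ Spec.map (CommRingCat.ofHom (algebraMap B (Henz B Ω))) ≫ iB
    rw [Category.assoc, hk₁, ← Category.assoc, ← Category.assoc, ← Spec.map_comp, ← Spec.map_comp,
      ← CommRingCat.ofHom_comp, ← CommRingCat.ofHom_comp, hψ₁]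
    congr 3
    exact RingHom.ext fun x => (Henz.ofB M₀).commutes _
  let P := pullback jS f
  let r : P ⟶ X' := pullback.snd jS f
  obtain ⟨τ₀, hτ₀⟩ := exists_limit_section hφ g jS t ρ hρ
  obtain ⟨N, τ, hτN⟩ := exists_stage_section (A := Type (u + 1)) f iB F' (EtFound.isColim_henz B Ω) τ₀
  have hsec : ∀ (Ω' : Type u) [Field Ω'] [IsSepClosed Ω'] (ζ : Spec (CommRingCat.of Ω') ⟶ P)
      (a : Spec (CommRingCat.of Ω') ⟶ Spec (CommRingCat.of (Henz A Ω))), a ≫ g = ζ ≫ pullback.fst jS f →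
      Agree f φ t τ (a ≫ ρ) (ζ ≫ H0PBC.pmap f iB (Henz.ofB N)) := by
    intro Ω' _ _ ζ a ha
    have hpt := stage_pt f iB (gR := fun N : Nbhd B Ω => Henz.ofB N) (i := N) ζ
    have h : ((a ≫ ρ) ≫ W₁.hom) ≫ f = (ζ ≫ r) ≫ f := by
      simp only [Category.assoc, hρ]
      rw [← Category.assoc, ha, Category.assoc, pullback.condition]
    have h' : ((a ≫ ρ) ≫ W₁.hom) ≫ f =
        ((ζ ≫ H0PBC.pmap f iB (Henz.ofB N)) ≫ ((EtCoh.bc f).obj (stageEt iB N.B)).hom) ≫ f := by
      rw [hpt]; exact h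
    refine (agree_iff h').2 ?_
    let o : (Scheme.pointSmallEtale ζ).fiber.obj (EtCoh.top P) :=
      CategoryTheory.Over.homMk (show Spec (CommRingCat.of Ω') ⟶ (EtCoh.top P).left from ζ) (Category.comp_id _)
    have e : stI r ζ F' (germ ((EtDesc.pullSh r).obj F') ζ _ o τ₀) =
        germ F' (ζ ≫ r) ((EtCoh.bc f).obj (stageEt iB N.B))
          (CategoryTheory.Over.homMk (ζ ≫ H0PBC.pmap f iB (Henz.ofB N)) hpt) τ :=
      germ_stage_conv r F' ζ τ₀ τ o (ζ ≫ H0PBC.pmap f iB (Henz.ofB N)) hpt (hτN Ω' ζ)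
    rw [hτ₀ Ω' ζ a ha h o] at e
    have e' := congrArg (tr F' hpt.symm) e
    rw [tr_germ F' hpt.symm ((EtCoh.bc f).obj (stageEt iB N.B))
      (CategoryTheory.Over.homMk (ζ ≫ H0PBC.pmap f iB (Henz.ofB N)) hpt)
      (fpt (U := (EtCoh.bc f).obj (stageEt iB N.B)) (ζ ≫ H0PBC.pmap f iB (Henz.ofB N))) rfl τ] at e'
    exact (Phi_congr (φ := φ) rfl hpt.symm h h' _).trans e'
  -- compatibility at a later stage
  let b : pullback f f ⟶ X := pullback.fst f f ≫ f
  haveI : QuasiCompact b := inferInstance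
  have key : ∀ (Ω' : Type u) [Field Ω'] [IsSepClosed Ω'] (ζ : Spec (CommRingCat.of Ω') ⟶ H0PBC.PB b iB (Henz B Ω))
      (p : pullback f f ⟶ X') (hp : p ≫ f = b),
      ∃ x : Spec (CommRingCat.of Ω') ⟶ P, x ≫ pullback.fst jS f = ζ ≫ pullback.fst _ b ∧
        x ≫ r = (ζ ≫ pullback.snd _ b) ≫ p :=
    fun Ω' _ _ ζ p hp => ⟨pullback.lift (ζ ≫ pullback.fst _ b) ((ζ ≫ pullback.snd _ b) ≫ p) (by
      rw [Category.assoc, pullback.condition, Category.assoc, Category.assoc, hp]),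
      pullback.lift_fst _ _ _, pullback.lift_snd _ _ _⟩
  obtain ⟨N', χ, hχ⟩ := exists_stage_eq (A := Type (u + 1)) b iB ((EtDesc.pullSh (pullback.snd f f)).obj F')
    (gR := fun N : Nbhd B Ω => Henz.ofB N) (EtFound.isColim_henz B Ω) N
    (lhs f (pullback.fst f f) (pullback.snd f f) b rfl φ.hom (stageEt iB N.B) τ)
    (side b (pullback.snd f f) f pullback.condition.symm F' (stageEt iB N.B) τ) (by
    intro Ω' _ _ ζ
    obtain ⟨x₁, hx₁, hx₁'⟩ := key Ω' ζ (pullback.fst f f) rfl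
    obtain ⟨x₂, hx₂, hx₂'⟩ := key Ω' ζ (pullback.snd f f) pullback.condition.symm
    have hpm : ∀ x : Spec (CommRingCat.of Ω') ⟶ P, x ≫ pullback.fst jS f = ζ ≫ pullback.fst _ b →
        (x ≫ H0PBC.pmap f iB (Henz.ofB N)) ≫ pullback.fst (H0PBC.ym iB N.B) f =
          (ζ ≫ H0PBC.pmap b iB (Henz.ofB N)) ≫ pullback.fst (H0PBC.ym iB N.B) b := fun x hx => by
      rw [Category.assoc, H0PBC.pmap_fst, Category.assoc, H0PBC.pmap_fst, ← Category.assoc, hx, Category.assoc]
    have hpm' : ∀ x : Spec (CommRingCat.of Ω') ⟶ P,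
        (x ≫ H0PBC.pmap f iB (Henz.ofB N)) ≫ pullback.snd (H0PBC.ym iB N.B) f = x ≫ r := fun x => by
      rw [Category.assoc, H0PBC.pmap_snd]
    refine germ_sides_of_agree (φ := φ) τ (ζ ≫ pullback.snd _ b) _
      (x₁ ≫ H0PBC.pmap f iB (Henz.ofB N)) (x₂ ≫ H0PBC.pmap f iB (Henz.ofB N))
      (hpm x₁ hx₁) ((hpm' x₁).trans hx₁') (hpm x₂ hx₂) ((hpm' x₂).trans hx₂') ?_
    obtain ⟨z', hz'⟩ := g.surjective ((x₁ ≫ pullback.fst jS f) default)
    obtain ⟨Ω'', _, _, a, l, hal, -, -⟩ := exists_pair g (x₁ ≫ pullback.fst jS f) z' default hz'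
    have h₁ := hsec Ω'' (l ≫ x₁) a (by rw [hal, Category.assoc])
    have h₂ := hsec Ω'' (l ≫ x₂) a (by rw [hal, hx₁, ← hx₂, Category.assoc])
    rw [Category.assoc] at h₁ h₂
    refine Agree.of_ext l ?_ ((h₁.symm hφ).trans hφ h₂)
    show (x₁ ≫ H0PBC.pmap f iB (Henz.ofB N)) ≫ pullback.snd (H0PBC.ym iB N.B) f ≫ f =
      (x₂ ≫ H0PBC.pmap f iB (Henz.ofB N)) ≫ pullback.snd (H0PBC.ym iB N.B) f ≫ f
    exact (congrArg ((x₁ ≫ H0PBC.pmap f iB (Henz.ofB N)) ≫ ·) pullback.condition.symm).trans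
      ((Category.assoc _ _ _).symm.trans ((congrArg (· ≫ H0PBC.ym iB N.B) ((hpm x₁ hx₁).trans (hpm x₂ hx₂).symm)).trans
        ((Category.assoc _ _ _).trans (congrArg ((x₂ ≫ H0PBC.pmap f iB (Henz.ofB N)) ≫ ·) pullback.condition)))))
  let V' := stageEt iB N'.B
  let s : ToType (F'.obj.obj (op ((EtCoh.bc f).obj V'))) := F'.obj.map ((EtCoh.bc f).map (stageMap iB χ.1)).op τ
  have hs : lhs f (pullback.fst f f) (pullback.snd f f) b rfl φ.hom V' s =
      side b (pullback.snd f f) f pullback.condition.symm F' V' s := by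
    rw [lhs_map, side_map]
    exact hχ
  let η := (w ≫ W₁.hom) ≫ f
  have hpt' : nbhdPt N' ≫ V'.hom = η := by
    rw [nbhdPt_ym]
    show Spec.map (τA.hom.comp φA.hom |> CommRingCat.ofHom) ≫ iB = ξ ≫ f
    rw [← hτ, Category.assoc, ← hA, ← Category.assoc, ← Spec.map_comp]
    rfl
  let v : (Scheme.pointSmallEtale η).fiber.obj V' := CategoryTheory.Over.homMk (nbhdPt N') hpt'
  let ζ₀ : Spec (CommRingCat.of Ω) ⟶ P := pullback.lift (Spec.map (CommRingCat.ofHom (Henz.proj B Ω).toRingHom)) ξ (by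
    rw [← Category.assoc, ← Spec.map_comp, ← CommRingCat.ofHom_comp,
      show (Henz.proj B Ω).toRingHom.comp (algebraMap B (Henz B Ω)) = algebraMap B Ω from
        (Henz.proj B Ω).comp_algebraMap]
    show Spec.map (τA.hom.comp φA.hom |> CommRingCat.ofHom) ≫ iB = ξ ≫ f
    rw [← hτ, Category.assoc, ← hA, ← Category.assoc, ← Spec.map_comp]
    rfl)
  let a₀ : Spec (CommRingCat.of Ω) ⟶ Spec (CommRingCat.of (Henz A Ω)) :=
    Spec.map (CommRingCat.ofHom (Henz.proj A Ω).toRingHom)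
  have ha₀ : a₀ ≫ g = ζ₀ ≫ pullback.fst jS f := by
    rw [pullback.lift_fst, ← Spec.map_comp, ← CommRingCat.ofHom_comp]
    congr 2
    exact RingHom.ext hψ₂
  have haw : a₀ ≫ ρ = w := by
    rw [← Category.assoc, ← Spec.map_comp, ← CommRingCat.ofHom_comp, ← hk₀]
    congr 3
    exact RingHom.ext fun x => Henz.proj_ofB M₀ x
  let x₀ : Spec (CommRingCat.of Ω) ⟶ ((EtCoh.bc f).obj V').left := (EtFound.liftPt f (η := η) rfl v).left
  have hx₀ : x₀ ≫ ((EtCoh.bc f).map (stageMap iB χ.1)).left = ζ₀ ≫ H0PBC.pmap f iB (Henz.ofB N) := by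
    rw [bc_stageMap_left]
    refine pullback.hom_ext ?_ ?_
    · show (x₀ ≫ H0PBC.pmap f iB χ.1) ≫ pullback.fst (H0PBC.ym iB N.B) f =
        (ζ₀ ≫ H0PBC.pmap f iB (Henz.ofB N)) ≫ pullback.fst (H0PBC.ym iB N.B) f
      rw [Category.assoc, H0PBC.pmap_fst, Category.assoc, H0PBC.pmap_fst, ← Category.assoc, ← Category.assoc,
        pullback.lift_fst, show x₀ ≫ pullback.fst (H0PBC.ym iB N'.B) f = nbhdPt N' from
          EtFound.liftPt_fst f (η := η) rfl v, ← Spec.map_comp, ← Spec.map_comp, ← CommRingCat.ofHom_comp,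
        ← CommRingCat.ofHom_comp]
      congr 2
      refine RingHom.ext fun x => ?_
      show N'.toK (χ.1 x) = Henz.proj B Ω (Henz.ofB N x)
      rw [← χ.apply x, Henz.proj_ofB]
    · show (x₀ ≫ H0PBC.pmap f iB χ.1) ≫ pullback.snd (H0PBC.ym iB N.B) f =
        (ζ₀ ≫ H0PBC.pmap f iB (Henz.ofB N)) ≫ pullback.snd (H0PBC.ym iB N.B) f
      rw [Category.assoc, H0PBC.pmap_snd, Category.assoc, H0PBC.pmap_snd, pullback.lift_snd]
      exact pullback.lift_snd _ _ _
  have hA' : Agree f φ t s w x₀ := by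
    rw [agree_map_right hφ, hx₀, ← haw]
    exact hsec Ω ζ₀ a₀ ha₀
  refine ⟨germ ((EtDesc.pullSh f).obj _) (w ≫ W₁.hom) ((EtCoh.bc f).obj V') (EtFound.liftPt f (η := η) rfl v)
    (up f (glueSh f (pullback.fst f f) (pullback.snd f f) b rfl pullback.condition.symm φ.hom) V' ⟨s, hs⟩), ?_⟩
  rw [psi_germ]
  have hab : w ≫ W₁.hom = x₀ ≫ ((EtCoh.bc f).obj V').hom := (pullback.lift_snd _ _ _).symm
  refine Eq.trans (?_ : _ = tr F' hab.symm (germ F' _ _ (fpt x₀) s)) ?_
  · exact (tr_germ F' hab.symm _ (fpt x₀) _ rfl s).symm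
  · rw [← (agree_same hφ hab).1 hA', tr_tr, tr_rfl]

/-- effective descent along flat qcqs locally 0-acyclic surjections -/
theorem isEffective_of_qc [Flat f] [QuasiCompact f] [QuasiSeparated f] [Surjective f]
    (hf : EtAcyc.IsLocZeroAcyclic f) (hφ : EtDesc.IsCocycle F' φ) : EtDesc.IsEffective f F' φ := by
  haveI : IsIso (gluePsi f (pullback.fst f f) (pullback.snd f f) (pullback.fst f f ≫ f) rfl pullback.condition.symm φ.hom) := by
    refine EtFound.isIso_of_stalks _ fun Ω₀ _ _ ξ => ?_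
    let Ω := AlgebraicClosure Ω₀
    let l : Spec (CommRingCat.of Ω) ⟶ Spec (CommRingCat.of Ω₀) :=
      Spec.map (CommRingCat.ofHom (algebraMap Ω₀ Ω))
    let ψψ := gluePsi f (pullback.fst f f) (pullback.snd f f) (pullback.fst f f ≫ f) rfl pullback.condition.symm φ.hom
    have : IsIso ((Scheme.pointSmallEtale (l ≫ ξ)).sheafFiber.map ψψ) :=
      (ConcreteCategory.isIso_iff_bijective _).2
        ⟨psi_stalk_injective_subm hφ (isUnivSubmersive_of_flat_qc f) (l ≫ ξ),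
          psi_stalk_surjective_qc hφ hf (l ≫ ξ)⟩
    have := (NatIso.isIso_map_iff (EtFound.stalkExtIso (Type (u + 1)) ξ l) ψψ).2 this
    exact (ConcreteCategory.isIso_iff_bijective ((Scheme.pointSmallEtale ξ).sheafFiber.map ψψ)).1 this
  refine ⟨_, asIso (gluePsi f (pullback.fst f f) (pullback.snd f f) (pullback.fst f f ≫ f) rfl
    pullback.condition.symm φ.hom), ?_⟩
  rw [canIso_eq]
  exact compat_iso _ _ ((EtDesc.pullSh (pullback.fst f f)).mapIso (asIso _))
    ((EtDesc.pullSh (pullback.snd f f)).mapIso (asIso _)) φ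
    (gluePsi_compat f (pullback.fst f f) (pullback.snd f f) (pullback.fst f f ≫ f) rfl pullback.condition.symm φ.hom)

end

end Groth.Agent.H0FBC
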