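import Groth.Agent.BigSiteLib.EtDescSec.OpenDescent

/-!
# Stalks of glued sheaves along universally submersive morphisms
-/

set_option autoImplicit false

universe u

open CategoryTheory CategoryTheory.Limits AlgebraicGeometry Opposite TopologicalSpace

attribute [-instance] CategoryTheory.catToReflQuiver

namespace Groth.Agent.BigSiteLib.DescSec

set_option backward.isDefEq.respectTransparency.types false

/-- flat quasi-compact surjections are universally submersive -/
theorem isUnivSubmersive_of_flat_qc {X' X : Scheme.{u}} (f : X' ⟶ X) [Flat f] [QuasiCompact f] [Surjective f] :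
    EtDesc.IsUnivSubmersive f := fun Y g =>
  ⟨(pullback.snd f g).surjective, Flat.isQuotientMap_of_surjective _⟩

variable {X' X : Scheme.{u}} {f : X' ⟶ X} {F' : EtDesc.Sh X'}
  {φ : (EtDesc.pullSh (pullback.fst f f)).obj F' ≅ (EtDesc.pullSh (pullback.snd f f)).obj F'}

local notation "pb" => IsPullback.of_hasPullback f f
local notation "Gl" => glueSh f (pullback.fst f f) (pullback.snd f f) (pullback.fst f f ≫ f) rfl pullback.condition.symm φ.hom
local notation "ψψ" => gluePsi f (pullback.fst f f) (pullback.snd f f) (pullback.fst f f ≫ f) rfl pullback.condition.symm φ.hom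

/-- the two sides of compatibility agree at a point where the section corresponds to itself -/
theorem germ_sides_of_agree {V : X.Etale} (s : ToType (F'.obj.obj (op ((EtCoh.bc f).obj V)))) {Ω : Type u} [Field Ω]
    [IsSepClosed Ω] (ζ : Spec (CommRingCat.of Ω) ⟶ pullback f f)
    (t : (Scheme.pointSmallEtale ζ).fiber.obj ((EtCoh.bc (pullback.fst f f ≫ f)).obj V))
    (a b : Spec (CommRingCat.of Ω) ⟶ ((EtCoh.bc f).obj V).left)
    (ha₁ : a ≫ pullback.fst V.hom f = (t.left : Spec (CommRingCat.of Ω) ⟶ _) ≫ pullback.fst V.hom (pullback.fst f f ≫ f))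
    (ha₂ : a ≫ pullback.snd V.hom f = ζ ≫ pullback.fst f f)
    (hb₁ : b ≫ pullback.fst V.hom f = (t.left : Spec (CommRingCat.of Ω) ⟶ _) ≫ pullback.fst V.hom (pullback.fst f f ≫ f))
    (hb₂ : b ≫ pullback.snd V.hom f = ζ ≫ pullback.snd f f) (hA : Agree f φ s s a b) :
    germ ((EtDesc.pullSh (pullback.snd f f)).obj F') ζ _ t
        (lhs f (pullback.fst f f) (pullback.snd f f) (pullback.fst f f ≫ f) rfl φ.hom V s) =
      germ ((EtDesc.pullSh (pullback.snd f f)).obj F') ζ _ t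
        (side (pullback.fst f f ≫ f) (pullback.snd f f) f pullback.condition.symm F' V s) := by
  let c : Spec (CommRingCat.of Ω) ⟶ ((EtCoh.bc (pullback.fst f f ≫ f)).obj V).left := t.left
  have hc : c ≫ pullback.snd V.hom (pullback.fst f f ≫ f) = ζ := CategoryTheory.Over.w t
  let η : Spec (CommRingCat.of Ω) ⟶ X := (c ≫ pullback.fst V.hom (pullback.fst f f ≫ f)) ≫ V.hom
  let v : (Scheme.pointSmallEtale η).fiber.obj V := fpt (c ≫ pullback.fst V.hom (pullback.fst f f ≫ f))
  have hζ : ζ ≫ pullback.fst f f ≫ f = η := by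
    rw [← hc]
    exact (Category.assoc _ _ _).trans ((congrArg (c ≫ ·) pullback.condition.symm).trans (Category.assoc _ _ _).symm)
  have h₁ : (ζ ≫ pullback.fst f f) ≫ f = η := by rw [Category.assoc]; exact hζ
  have h₂ : (ζ ≫ pullback.snd f f) ≫ f = η := by rw [Category.assoc, ← pullback.condition]; exact hζ
  have ht : t = EtFound.liftPt _ hζ v :=
    fib_ext (pullback.hom_ext (EtFound.liftPt_fst _ hζ v).symm (hc.trans (pullback.lift_snd _ _ _).symm))
  rw [ht]
  refine (germ_sides_iff f (pullback.fst f f) (pullback.snd f f) _ rfl pullback.condition.symm φ.hom pb h₁ h₂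
    ζ rfl rfl hζ v _).2 ?_
  have hab : (a ≫ pullback.snd V.hom f) ≫ f = (b ≫ pullback.snd V.hom f) ≫ f := by
    rw [ha₂, hb₂]; exact h₁.trans h₂.symm
  have hla : a = (EtFound.liftPt f h₁ v).left :=
    pullback.hom_ext (ha₁.trans (EtFound.liftPt_fst f h₁ v).symm) (ha₂.trans (pullback.lift_snd _ _ _).symm)
  have hlb : b = (EtFound.liftPt f h₂ v).left :=
    pullback.hom_ext (hb₁.trans (EtFound.liftPt_fst f h₂ v).symm) (hb₂.trans (pullback.lift_snd _ _ _).symm)
  have e := congrArg (tr F' hb₂) ((agree_iff hab).1 hA)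
  refine Eq.trans ?_ (e.trans (tr_germ F' hb₂ _ (fpt b) (EtFound.liftPt f h₂ v) hlb s))
  refine Eq.trans ?_ (Phi_congr ha₂ hb₂ hab (h₁.trans h₂.symm) _)
  exact congrArg (Phi φ.hom pb _ _ _) (tr_germ F' ha₂ _ (fpt a) (EtFound.liftPt f h₁ v) hla s).symm

section

variable (hφ : EtDesc.IsCocycle F' φ) (hsub : EtDesc.IsUnivSubmersive f)
include hφ hsub

theorem psi_stalk_injective_subm {Ω : Type u} [Field Ω] [IsAlgClosed Ω] (ξ₀ : Spec (CommRingCat.of Ω) ⟶ X') :
    Function.Injective ((Scheme.pointSmallEtale ξ₀).presheafFiber.map (ψψ).hom) := by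
  intro e₁ e₂ he
  let η := ξ₀ ≫ f
  obtain ⟨V₁, v₁, x₁, h₁, k₁⟩ := exists_up_germ f (η := η) rfl Gl e₁
  obtain ⟨V₂, v₂, x₂, h₂, k₂⟩ := exists_up_germ f (η := η) rfl Gl e₂
  rw [h₁, h₂, psi_germ, psi_germ] at he
  refine (stI f ξ₀ Gl).injective ?_
  rw [tr_rfl] at k₁ k₂
  rw [k₁, k₂]
  obtain ⟨⟨V, v⟩, ⟨α₁, hα₁⟩, ⟨α₂, hα₂⟩, -⟩ := IsCofilteredOrEmpty.cone_objs
    ((Scheme.pointSmallEtale η).fiber.elementsMk V₁ v₁) ((Scheme.pointSmallEtale η).fiber.elementsMk V₂ v₂)
  obtain ⟨α₁', rfl⟩ : ∃ α : V ⟶ V₁, (Scheme.pointSmallEtale η).fiber.map α v = v₁ := ⟨α₁, hα₁⟩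
  obtain ⟨α₂', rfl⟩ : ∃ α : V ⟶ V₂, (Scheme.pointSmallEtale η).fiber.map α v = v₂ := ⟨α₂, hα₂⟩
  let ι := glueι f (pullback.fst f f) (pullback.snd f f) (pullback.fst f f ≫ f) rfl pullback.condition.symm φ.hom
  let y₁ : ToType ((Gl).obj.obj (op V)) := (Gl).obj.map α₁'.op x₁
  let y₂ : ToType ((Gl).obj.obj (op V)) := (Gl).obj.map α₂'.op x₂
  let z₁ : ToType (F'.obj.obj (op ((EtCoh.bc f).obj V))) := ι.hom.app (op V) y₁
  let z₂ : ToType (F'.obj.obj (op ((EtCoh.bc f).obj V))) := ι.hom.app (op V) y₂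
  let a₀ := EtFound.liftPt f (η := η) (ξ := ξ₀) rfl v
  have he' : germ F' ξ₀ _ a₀ z₁ = germ F' ξ₀ _ a₀ z₂ := by
    rw [← EtFound.liftPt_map f rfl α₁' v, ← EtFound.liftPt_map f rfl α₂' v, ← germ_map, ← germ_map] at he
    exact he
  let E : Set ((EtCoh.bc f).obj V).left := {z | LocEq F'.obj z₁ z₂ z}
  have hsat : ∀ e e', pullback.fst V.hom f e = pullback.fst V.hom f e' → e ∈ E → e' ∈ E := by
    intro e e' hee he
    obtain ⟨Ω', _, _, a, b, hab, ha, hb⟩ := exists_pair (pullback.fst V.hom f) (pullback.fst V.hom f) e e' hee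
    have h12 : Agree f φ z₁ z₂ a a := (locEq_iff_agree hφ).2 (ha.symm ▸ he)
    have h1 : Agree f φ z₁ z₁ a b := agree_of_compat y₁ a b hab
    have h2 : Agree f φ z₂ z₂ a b := agree_of_compat y₂ a b hab
    exact (congrArg (LocEq F'.obj z₁ z₂) hb).mp ((locEq_iff_agree hφ).1 (((h1.symm hφ).trans hφ h12).trans hφ h2))
  let N : V.left.Opens := ⟨pullback.fst V.hom f '' E, (fst_surjective_isQuotientMap f hsub V.hom).2.isOpen_preimage.1 (by
    rw [show pullback.fst V.hom f ⁻¹' (pullback.fst V.hom f '' E) = E from Set.Subset.antisymm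
      (fun x ⟨e, he, hex⟩ => hsat e x hex he) (Set.subset_preimage_image _ _)]
    exact isOpen_locEq z₁ z₂)⟩
  have hvN : (v.left : Spec (CommRingCat.of Ω) ⟶ V.left).base (default : Spec (CommRingCat.of Ω)) ∈ N :=
    ⟨_, locEq_of_germ ξ₀ a₀ he' _ rfl, (Scheme.Hom.comp_apply _ _ _).symm.trans
      (congrArg (fun k : Spec (CommRingCat.of Ω) ⟶ V.left => k default) (EtFound.liftPt_fst f rfl v))⟩
  let V' := EtFound.restrictEtale V N
  let j := EtFound.restrictEtaleHom V N
  obtain ⟨v', hv', -⟩ := EtFound.exists_lift_point j v ⟨_, hvN⟩ rfl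
  haveI : Mono ι := (sheafToPresheaf _ _).mono_of_mono_map (inferInstanceAs (Mono (Subfunctor.ι _)))
  have key : (Gl).obj.map j.op y₁ = (Gl).obj.map j.op y₂ := by
    refine injective_app_of_mono' ι V' ?_
    show F'.obj.map ((EtCoh.bc f).map j).op z₁ = F'.obj.map ((EtCoh.bc f).map j).op z₂
    refine eq_of_locEq F' fun p => LocEq.map _ ?_
    let q := ((EtCoh.bc f).map j).left p
    have hq : pullback.fst V.hom f q = j.left (pullback.fst V'.hom f p) :=
      ((Scheme.Hom.comp_apply _ _ _).symm.trans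
        (congrArg (fun k : ((EtCoh.bc f).obj V').left ⟶ V.left => k p) (EtCoh.isPullback_bc_map f j).w)).trans
          (Scheme.Hom.comp_apply _ _ _)
    obtain ⟨e, he, hee⟩ : pullback.fst V.hom f q ∈ N := by
      rw [hq]
      exact (pullback.fst V'.hom f p).2
    exact hsat e q hee he
  rw [← germ_map, ← germ_map, ← hv', ← germ_map, ← germ_map]
  exact congrArg (germ Gl η V' v') key

end

end Groth.Agent.BigSiteLib.DescSec
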