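import Groth.Agent.H0FBC.FlatBC
import Groth.Prelude.Def_SGA4b
import Groth.Prelude.Def_EtBCD

/-!
# Global sections of inverse images of sheaves of sets
-/

set_option autoImplicit false
set_option linter.style.haveILetI false
set_option backward.isDefEq.respectTransparency false
set_option backward.isDefEq.respectTransparency.types false
universe u

open CategoryTheory CategoryTheory.Limits AlgebraicGeometry TopologicalSpace Opposite

attribute [-instance] CategoryTheory.catToReflQuiver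

namespace Groth.Agent.H0FBC

open H0PBC EtFound

variable {X Y : Scheme.{u}}

/-- germs of pullbacks of global sections -/
theorem germ_secPull (h : Y ⟶ X) (F : EtDesc.Sh X) (s : EtDesc.sect F (EtCoh.top X)) {Ω : Type u} [Field Ω]
    [IsSepClosed Ω] (ζ : Spec (CommRingCat.of Ω) ⟶ Y) (ξ : Spec (CommRingCat.of Ω) ⟶ X) (hξ : ζ ≫ h = ξ)
    (c : Spec (CommRingCat.of Ω) ⟶ (EtCoh.top Y).left) (hc : c ≫ (EtCoh.top Y).hom = ζ)
    (b : Spec (CommRingCat.of Ω) ⟶ (EtCoh.top X).left) (hb : b ≫ (EtCoh.top X).hom = ξ) :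
    germ ((pullA (Type (u + 1)) h).obj F) (EtDesc.secPull h F s) ζ c hc =
      toPullStalk h F ζ ξ hξ (germ F s ξ b hb) := by
  have h1 : (c ≫ (EtCore.bcTopIso h).inv.left) ≫ ((EtCoh.bc h).obj (EtCoh.top X)).hom = ζ := by
    rw [Category.assoc, MorphismProperty.Over.w]; exact hc
  refine (germ_map ((pullA (Type (u + 1)) h).obj F) (EtCore.bcTopIso h).inv (pullSect h F s) ζ c hc _ h1 rfl).trans ?_
  refine germ_pullSect h F ζ ξ hξ s _ h1 b hb ?_
  have e1 : b = ξ := (Category.comp_id b).symm.trans hb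
  rw [e1, ← hξ, ← h1, Category.assoc (c ≫ _)]
  exact congrArg ((c ≫ _) ≫ ·) ((Category.comp_id _).symm.trans pullback.condition)

/-- pullbacks of global sections with the same germs on the image are equal -/
theorem secPull_eq_of_germs (h : Y ⟶ X) (F : EtDesc.Sh X) (s t : EtDesc.sect F (EtCoh.top X))
    (H : ∀ (Ω : Type u) [Field Ω] [IsSepClosed Ω] (ζ : Spec (CommRingCat.of Ω) ⟶ Y),
      germ F s (ζ ≫ h) (ζ ≫ h) (Category.comp_id _) = germ F t (ζ ≫ h) (ζ ≫ h) (Category.comp_id _)) :
    EtDesc.secPull h F s = EtDesc.secPull h F t := by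
  refine section_ext ((pullA (Type (u + 1)) h).obj F) (EtDesc.secPull h F s) (EtDesc.secPull h F t)
    fun Ω _ _ ζ c hc => ?_
  rw [germ_secPull h F s ζ (ζ ≫ h) rfl c hc _ (Category.comp_id _),
    germ_secPull h F t ζ (ζ ≫ h) rfl c hc _ (Category.comp_id _), H Ω ζ]

/-- pullbacks of global sections which are equal have the same germs on the image -/
theorem germs_of_secPull_eq (h : Y ⟶ X) (F : EtDesc.Sh X) (s t : EtDesc.sect F (EtCoh.top X))
    (H : EtDesc.secPull h F s = EtDesc.secPull h F t) {Ω : Type u} [Field Ω] [IsSepClosed Ω]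
    (ζ : Spec (CommRingCat.of Ω) ⟶ Y) :
    germ F s (ζ ≫ h) (ζ ≫ h) (Category.comp_id _) = germ F t (ζ ≫ h) (ζ ≫ h) (Category.comp_id _) := by
  refine toPullStalk_injective h F ζ (ζ ≫ h) rfl ?_
  rw [← germ_secPull h F s ζ (ζ ≫ h) rfl ζ (Category.comp_id _) _ (Category.comp_id _),
    ← germ_secPull h F t ζ (ζ ≫ h) rfl ζ (Category.comp_id _) _ (Category.comp_id _), H]

/-- the sheaf of closed sieves on the small etale site -/
noncomputable def sieveSheaf (T : Scheme.{u}) : EtDesc.Sh T :=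
  ⟨(Functor.closedSieves T.smallEtaleTopology).toFunctor,
    (isSheaf_iff_isSheaf_of_type _ _).2 (classifier_isSheaf _)⟩

/-- a closed sieve whose members cover the image of `h` is everything, if pullback of sections along `h` is
injective -/
theorem sieve_eq_top (h : Y ⟶ X) (hinj : ∀ F : EtDesc.Sh X, Function.Injective (EtDesc.secPull h F))
    (M : Sieve (EtCoh.top X)) (hM : X.smallEtaleTopology.IsClosed M)
    (hcov : ∀ y : Y, ∃ (V : X.Etale) (k : V ⟶ EtCoh.top X), M k ∧ h y ∈ Set.range k.left) :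
    M (𝟙 (EtCoh.top X)) := by
  let s : EtDesc.sect (sieveSheaf X) (EtCoh.top X) := ⟨M, hM⟩
  let t : EtDesc.sect (sieveSheaf X) (EtCoh.top X) := ⟨(⊤ : Sieve (EtCoh.top X)), fun _ _ _ => trivial⟩
  have hst : s = t := by
    refine hinj _ (secPull_eq_of_germs h _ s t fun Ω _ _ ζ => ?_)
    refine (mem_eqLocus_iff (Ω := Ω) (sieveSheaf X) s t (ζ ≫ h) (ζ ≫ h) (Category.comp_id _)).1 ?_
    obtain ⟨V, k, hk, hr⟩ := hcov (ζ default)
    refine Set.mem_iUnion.2 ⟨V, Set.mem_iUnion.2 ⟨k, Set.mem_iUnion.2 ⟨Subtype.ext (Sieve.ext fun Z l => ?_), ?_⟩⟩⟩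
    · exact iff_of_true (M.downward_closed hk l) trivial
    · rw [Scheme.Hom.comp_apply]; exact hr
  exact (congrArg (fun w : EtDesc.sect (sieveSheaf X) (EtCoh.top X) =>
    (Sieve.arrows (X := EtCoh.top X) w.1) (𝟙 (EtCoh.top X))) hst).mpr trivial

theorem app_injective {F G : EtDesc.Sh X} (u : F ⟶ G) [Mono u] (U : X.Etale) :
    Function.Injective (u.hom.app (op U)) := by
  haveI : Mono u.hom := inferInstanceAs (Mono ((sheafToPresheaf _ _).map u))
  exact (CategoryTheory.mono_iff_injective _).1 inferInstance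

/-- a section of `G` locally in the image of a monomorphism `u` along the image of `h` is in its image -/
theorem mem_range_secPull (h : Y ⟶ X) (hinj : ∀ F : EtDesc.Sh X, Function.Injective (EtDesc.secPull h F))
    {F G : EtDesc.Sh X} (u : F ⟶ G) [Mono u] (σ : EtDesc.sect ((EtDesc.pullSh h).obj F) (EtCoh.top Y))
    (hσ : ((EtDesc.pullSh h).map u).hom.app (op (EtCoh.top Y)) σ ∈ Set.range (EtDesc.secPull h G)) :
    σ ∈ Set.range (EtDesc.secPull h F) := by
  obtain ⟨s, hs⟩ := hσ
  -- near each geometric point of `Y` both `σ` and `s` come from the same section of `F`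
  have hloc : ∀ (Ω : Type u) [Field Ω] [IsSepClosed Ω] (ζ : Spec (CommRingCat.of Ω) ⟶ Y),
      ∃ (W : X.Etale) (k : W ⟶ EtCoh.top X) (f₀ : EtDesc.sect F W) (w : Spec (CommRingCat.of Ω) ⟶ W.left)
        (hw : w ≫ W.hom = ζ ≫ h), u.hom.app (op W) f₀ = G.obj.map k.op s ∧
        germ ((pullA (Type (u + 1)) h).obj F) σ ζ ζ (Category.comp_id _) =
          toPullStalk h F ζ (ζ ≫ h) rfl (germ F f₀ (ζ ≫ h) w hw) := by
    intro Ω _ _ ζ
    obtain ⟨V, f₀, b, hb, hf₀⟩ := exists_germ_eq h F ζ (ζ ≫ h) rfl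
      (germ ((pullA (Type (u + 1)) h).obj F) σ ζ ζ (Category.comp_id _))
    let c : Spec (CommRingCat.of Ω) ⟶ ((EtCoh.bc h).obj V).left := pullback.lift b ζ hb
    have hc : c ≫ ((EtCoh.bc h).obj V).hom = ζ := pullback.lift_snd _ _ _
    have e1 : germ ((pullA (Type (u + 1)) h).obj G) (pullSect h G (u.hom.app (op V) f₀)) ζ c hc =
        germ ((pullA (Type (u + 1)) h).obj G) (EtDesc.secPull h G s) ζ ζ (Category.comp_id _) := by
      have hn : pullSect h G (u.hom.app (op V) f₀) =
          ((EtDesc.pullSh h).map u).hom.app (op ((EtCoh.bc h).obj V)) (pullSect h F f₀) :=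
        (ConcreteCategory.comp_apply _ _ _).symm.trans ((ConcreteCategory.congr_hom
          (congrArg (fun w : F ⟶ (EtDesc.pushSh h).obj ((EtDesc.pullSh h).obj G) => w.hom.app (op V))
            ((EtDesc.adjSh h).unit.naturality u)) f₀).trans (ConcreteCategory.comp_apply _ _ _))
      rw [hn, hs]
      refine (((Scheme.pointSmallEtale ζ).toPresheafFiber_naturality_apply ((EtDesc.pullSh h).map u).hom
        ((EtCoh.bc h).obj V) (CategoryTheory.Over.homMk c hc) (pullSect h F f₀)).symm.trans ?_).trans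
        ((Scheme.pointSmallEtale ζ).toPresheafFiber_naturality_apply ((EtDesc.pullSh h).map u).hom
          (EtCoh.top Y) (CategoryTheory.Over.homMk ζ (Category.comp_id _)) σ)
      refine congrArg _ ?_
      exact (germ_pullSect h F ζ (ζ ≫ h) rfl f₀ c hc b hb (pullback.lift_fst _ _ _)).trans hf₀
    rw [germ_pullSect h G ζ (ζ ≫ h) rfl _ c hc b hb (pullback.lift_fst _ _ _),
      germ_secPull h G s ζ (ζ ≫ h) rfl ζ (Category.comp_id _) (ζ ≫ h) (Category.comp_id _)] at e1
    have e2 := toPullStalk_injective h G ζ (ζ ≫ h) rfl e1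
    let P := prodEt V (EtCoh.top X)
    let q : Spec (CommRingCat.of Ω) ⟶ P.left :=
      pullback.lift b (ζ ≫ h) (hb.trans (Category.comp_id _).symm)
    have hq : q ≫ P.hom = ζ ≫ h :=
      (Category.assoc _ _ _).symm.trans ((congrArg (· ≫ V.hom) (pullback.lift_fst _ _ _)).trans hb)
    have hmem : q default ∈ eqLocus G (G.obj.map (prodEtFst V (EtCoh.top X)).op (u.hom.app (op V) f₀))
        (G.obj.map (prodEtSnd V (EtCoh.top X)).op s) := by
      refine (mem_eqLocus_iff G _ _ (ζ ≫ h) q hq).2 ?_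
      rw [germ_map G (prodEtFst V (EtCoh.top X)) _ _ q hq b hb (pullback.lift_fst _ _ _),
        germ_map G (prodEtSnd V (EtCoh.top X)) _ _ q hq (ζ ≫ h) (Category.comp_id _) (pullback.lift_snd _ _ _), e2]
    obtain ⟨W, m, hm, x, hx⟩ : ∃ (W : X.Etale) (m : W ⟶ P)
        (_ : G.obj.map m.op (G.obj.map (prodEtFst V (EtCoh.top X)).op (u.hom.app (op V) f₀)) =
          G.obj.map m.op (G.obj.map (prodEtSnd V (EtCoh.top X)).op s)),
        q default ∈ Set.range m.left := by
      simpa [eqLocus] using hmem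
    obtain ⟨w, hw, -⟩ := EtFound.exists_lift_point m (CategoryTheory.Over.homMk q hq) x hx
    refine ⟨W, m ≫ prodEtSnd V (EtCoh.top X), F.obj.map (m ≫ prodEtFst V (EtCoh.top X)).op f₀, w.left,
      CategoryTheory.Over.w w, ?_, ?_⟩
    · rw [← ConcreteCategory.comp_apply, u.hom.naturality, ConcreteCategory.comp_apply, op_comp, op_comp,
        Functor.map_comp, Functor.map_comp, ConcreteCategory.comp_apply, ConcreteCategory.comp_apply]
      exact hm
    · rw [← hf₀]
      refine congrArg _ (germ_map F _ f₀ _ _ _ b hb ?_).symm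
      show w.left ≫ m.left ≫ (prodEtFst V (EtCoh.top X)).left = b
      rw [← Category.assoc, show (w.left : Spec (CommRingCat.of Ω) ⟶ _) ≫ m.left = q from
        congrArg CommaMorphism.left hw]
      exact pullback.lift_fst _ _ _
  -- the sieve of the places where `s` is in the image of `u`
  let M : Sieve (EtCoh.top X) :=
    { arrows := fun W k => ∃ f : EtDesc.sect F W, u.hom.app (op W) f = G.obj.map k.op s
      downward_closed := fun {W W'} k hk l => by
        obtain ⟨f, hf⟩ := hk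
        refine ⟨F.obj.map l.op f, ?_⟩
        rw [← ConcreteCategory.comp_apply, u.hom.naturality, ConcreteCategory.comp_apply, hf, op_comp,
          Functor.map_comp, ConcreteCategory.comp_apply] }
  have hMc : X.smallEtaleTopology.IsClosed M := fun W k hk => by
    have hS := (isSheaf_iff_isSheaf_of_type _ _).1 F.property (M.pullback k) hk
    have hG := ((isSheaf_iff_isSheaf_of_type _ _).1 G.property).isSeparated (M.pullback k) hk
    choose x hx using fun (Z : X.Etale) (l : Z ⟶ W) (hl : M.pullback k l) => hl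
    have hcomp : Presieve.FamilyOfElements.Compatible (P := F.obj) (R := (M.pullback k).arrows) x := by
      intro Z₁ Z₂ Z g₁ g₂ l₁ l₂ hl₁ hl₂ hcomm
      apply app_injective u Z
      rw [← ConcreteCategory.comp_apply, u.hom.naturality, ConcreteCategory.comp_apply, hx,
        ← ConcreteCategory.comp_apply (F.obj.map g₂.op), u.hom.naturality, ConcreteCategory.comp_apply, hx,
        ← ConcreteCategory.comp_apply, ← Functor.map_comp, ← ConcreteCategory.comp_apply, ← Functor.map_comp,
        ← op_comp, ← op_comp, ← Category.assoc, ← Category.assoc, hcomm]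
    obtain ⟨f, hf, -⟩ := hS x hcomp
    refine ⟨f, hG.ext fun Z l hl => ?_⟩
    rw [← ConcreteCategory.comp_apply, ← u.hom.naturality, ConcreteCategory.comp_apply, hf l hl, hx,
      op_comp, Functor.map_comp, ConcreteCategory.comp_apply]
  obtain ⟨f, hf⟩ := sieve_eq_top h hinj M hMc fun y => by
    obtain ⟨Ω, _, _, ζ, hζ⟩ := H0PBC.exists_geom_point y
    obtain ⟨W, k, f₀, w, hw, hf₀, -⟩ := hloc Ω ζ
    refine ⟨W, k, ⟨f₀, hf₀⟩, w default, ?_⟩
    rw [← hζ, ← Scheme.Hom.comp_apply, ← Scheme.Hom.comp_apply]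
    exact congrArg (fun l : Spec (CommRingCat.of Ω) ⟶ X => l default)
      ((congrArg (w ≫ ·) (MorphismProperty.Over.w k |>.symm.trans (Category.comp_id _)).symm).trans hw)
  rw [op_id, CategoryTheory.Functor.map_id, ConcreteCategory.id_apply] at hf
  refine ⟨f, section_ext ((pullA (Type (u + 1)) h).obj F) (EtDesc.secPull h F f) σ fun Ω _ _ ζ c hc => ?_⟩
  obtain rfl : c = ζ := (Category.comp_id c).symm.trans hc
  obtain ⟨W, k, f₀, w, hw, hf₀, hg⟩ := hloc Ω c
  rw [germ_secPull h F f c (c ≫ h) rfl c hc (c ≫ h) (Category.comp_id _), hg]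
  refine congrArg _ ?_
  have e : f₀ = F.obj.map k.op f := app_injective u W (by
    rw [hf₀, ← hf, ← ConcreteCategory.comp_apply, ← u.hom.naturality, ConcreteCategory.comp_apply])
  rw [e]
  refine (germ_map F k f (c ≫ h) w hw (c ≫ h) (Category.comp_id _) ?_).symm
  exact ((Category.comp_id _).symm.trans ((Category.assoc _ _ _).trans (congrArg (w ≫ ·) (MorphismProperty.Over.w k)))).trans hw

/-- pullback along a surjective morphism is injective on sheaves -/
theorem mono_unit (p : Y ⟶ X) [Surjective p] (F : EtDesc.Sh X) : Mono ((EtDesc.adjSh p).unit.app F) := by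
  refine @Functor.mono_of_mono_map _ _ _ _ (sheafToPresheaf _ _) _ _ _ _
    (@NatTrans.mono_of_mono_app _ _ _ _ _ _ _ fun U => ?_)
  rw [CategoryTheory.mono_iff_injective]
  intro s t hst
  exact eq_of_pullSect_eq p F (W := (EtCoh.bc p).obj U.unop) (pullback.fst U.unop.hom p) pullback.condition s t
    (congrArg (fun x => ((pullA (Type (u + 1)) p).obj F).obj.map
      (toBC p (W := (EtCoh.bc p).obj U.unop) (pullback.fst U.unop.hom p) pullback.condition).op x) hst)

section Square

variable {Xb Yb : Scheme.{u}} {h : Y ⟶ X} {p : Xb ⟶ X} {hb : Yb ⟶ Xb} {pY : Yb ⟶ Y}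

/-- the base change map in terms of global sections -/
theorem baseChange_secPull (sq : IsPullback hb pY p h) (Fb : EtDesc.Sh Xb)
    (s : EtDesc.sect Fb (EtCoh.top Xb)) :
    ((EtDesc.pullSh hb).obj Fb).obj.map (EtCore.bcTopIso pY).inv.op
      ((EtBC.baseChange0Sh p h pY hb sq.w Fb).hom.app (op (EtCoh.top Y))
        (EtDesc.secPull h ((EtDesc.pushSh p).obj Fb) (Fb.obj.map (EtCore.bcTopIso p).hom.op s))) =
      EtDesc.secPull hb Fb s := by
  have hβ : ∀ V : X.Etale,
      ((EtDesc.adjSh h).unit.app ((EtDesc.pushSh p).obj Fb)).hom.app (op V) ≫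
          (EtBC.baseChange0Sh p h pY hb sq.w Fb).hom.app (op ((EtCoh.bc h).obj V)) =
        ((EtDesc.adjSh hb).unit.app Fb).hom.app (op ((EtCoh.bc p).obj V)) ≫
          ((pullA (Type (u + 1)) hb).obj Fb).obj.map (bcSquare sq.w V).op := by
    intro V
    have hu := ((EtDesc.adjSh h).homEquiv _ _).apply_symm_apply
      ((EtDesc.pushSh p).map ((EtDesc.adjSh hb).unit.app Fb) ≫ (EtDesc.pushCompSh p hb).hom.app _ ≫
        (EtBC.pushCongrSh sq.w).hom.app _ ≫ (EtDesc.pushCompSh h pY).inv.app _)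
    rw [Adjunction.homEquiv_unit] at hu
    refine (congr(($hu).hom.app (op V))).trans ?_
    simp [EtFound.bcSquare, EtDesc.pushCompSh, EtBC.pushCongrSh]
  have ha : (EtCoh.top Y).hom ≫ h = (h : (EtCoh.top Y).left ⟶ (EtCoh.top X).left) ≫ (EtCoh.top X).hom :=
    (Category.id_comp h).trans (Category.comp_id h).symm
  have e : (EtCore.bcTopIso h).inv = toBC h (W := EtCoh.top Y) (T' := EtCoh.top X) h ha.symm :=
    (EtCore.bcTopIsTerminal h).hom_ext _ _
  show ((EtDesc.pullSh hb).obj Fb).obj.map _ ((EtBC.baseChange0Sh p h pY hb sq.w Fb).hom.app _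
    (((pullA (Type (u + 1)) h).obj ((EtDesc.pushSh p).obj Fb)).obj.map (EtCore.bcTopIso h).inv.op (pullSect (A := Type (u + 1)) (U := EtCoh.top X) h ((EtDesc.pushSh p).obj Fb) (Fb.obj.map (EtCore.bcTopIso p).hom.op s)))) = _
  rw [e]
  refine (congrArg (((EtDesc.pullSh hb).obj Fb).obj.map (EtCore.bcTopIso pY).inv.op)
    (beta_toBC sq Fb _ hβ (U := EtCoh.top Y) (V := EtCoh.top X) h ha.symm _)).trans ?_
  refine (congrArg (fun x => ((pullA (Type (u + 1)) hb).obj Fb).obj.map (EtCore.bcTopIso pY).inv.op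
    (((pullA (Type (u + 1)) hb).obj Fb).obj.map (toBC hb (bcMap sq.w (U := EtCoh.top Y) (V := EtCoh.top X) h ha.symm)
      (bcMap_w sq.w (U := EtCoh.top Y) (V := EtCoh.top X) h ha.symm)).op x))
    (pullSect_map hb Fb (EtCore.bcTopIso p).hom s)).trans ?_
  show _ = ((pullA (Type (u + 1)) hb).obj Fb).obj.map (EtCore.bcTopIso hb).inv.op (pullSect hb Fb s)
  rw [← ConcreteCategory.comp_apply, ← ConcreteCategory.comp_apply, ← Functor.map_comp, ← Functor.map_comp,
    ← op_comp, ← op_comp]
  exact congrArg (fun l => ((pullA (Type (u + 1)) hb).obj Fb).obj.map (Quiver.Hom.op l) (pullSect hb Fb s))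
    ((EtCore.bcTopIsTerminal hb).hom_ext _ _)

theorem bijective_map_bcTop (f : Y ⟶ X) (G : EtDesc.Sh Y) :
    Function.Bijective (G.obj.map (EtCore.bcTopIso f).hom.op) ∧
      Function.Bijective (G.obj.map (EtCore.bcTopIso f).inv.op) :=
  ⟨ConcreteCategory.bijective_of_isIso _, ConcreteCategory.bijective_of_isIso _⟩

/-- injectivity of the pullback of sections passes to base changes -/
theorem secPull_injective_baseChange (sq : IsPullback hb pY p h)
    (hinj : ∀ F : EtDesc.Sh X, Function.Injective (EtDesc.secPull h F))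
    (hm : ∀ Fb : EtDesc.Sh Xb, Mono (EtBC.baseChange0Sh p h pY hb sq.w Fb)) (Fb : EtDesc.Sh Xb) :
    Function.Injective (EtDesc.secPull hb Fb) := by
  intro s t hst
  haveI := hm Fb
  rw [← baseChange_secPull sq Fb s, ← baseChange_secPull sq Fb t] at hst
  exact (bijective_map_bcTop p Fb).1.1
    (hinj _ (app_injective _ _ ((bijective_map_bcTop pY _).2.1 hst)))

/-- bijectivity of the pullback of sections passes to base changes -/
theorem secPull_bijective_baseChange (sq : IsPullback hb pY p h)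
    (hbij : ∀ F : EtDesc.Sh X, Function.Bijective (EtDesc.secPull h F))
    (hi : ∀ Fb : EtDesc.Sh Xb, IsIso (EtBC.baseChange0Sh p h pY hb sq.w Fb)) (Fb : EtDesc.Sh Xb) :
    Function.Bijective (EtDesc.secPull hb Fb) := by
  refine ⟨secPull_injective_baseChange sq (fun F => (hbij F).1) (fun G => by haveI := hi G; infer_instance) Fb,
    fun σ => ?_⟩
  obtain ⟨σ', rfl⟩ := (bijective_map_bcTop pY ((EtDesc.pullSh hb).obj Fb)).2.2 σ
  haveI := hi Fb
  haveI : IsIso (EtBC.baseChange0Sh p h pY hb sq.w Fb).hom :=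
    inferInstanceAs (IsIso ((sheafToPresheaf _ _).map (EtBC.baseChange0Sh p h pY hb sq.w Fb)))
  obtain ⟨w, rfl⟩ := (ConcreteCategory.bijective_of_isIso
    ((EtBC.baseChange0Sh p h pY hb sq.w Fb).hom.app (op (EtCoh.top Y)))).2 σ'
  obtain ⟨r, rfl⟩ := (hbij _).2 w
  obtain ⟨s, rfl⟩ := (bijective_map_bcTop p Fb).1.2 r
  exact ⟨s, (baseChange_secPull sq Fb s).symm⟩

/-- injectivity descends along surjections -/
theorem secPull_injective_descent (sq : IsPullback hb pY p h) [Surjective p]
    (hinj : ∀ Fb : EtDesc.Sh Xb, Function.Injective (EtDesc.secPull hb Fb)) (F : EtDesc.Sh X) :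
    Function.Injective (EtDesc.secPull h F) := by
  intro s t hst
  have h2 : EtDesc.secPull hb ((EtDesc.pullSh p).obj F) (EtDesc.secPull p F s) =
      EtDesc.secPull hb ((EtDesc.pullSh p).obj F) (EtDesc.secPull p F t) := by
    refine secPull_eq_of_germs hb _ _ _ fun Ω _ _ ζ => ?_
    rw [germ_secPull p F s (ζ ≫ hb) ((ζ ≫ pY) ≫ h) (by rw [Category.assoc, Category.assoc, sq.w]) (ζ ≫ hb)
        (Category.comp_id _) ((ζ ≫ pY) ≫ h) (Category.comp_id _),
      germ_secPull p F t (ζ ≫ hb) ((ζ ≫ pY) ≫ h) (by rw [Category.assoc, Category.assoc, sq.w]) (ζ ≫ hb)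
        (Category.comp_id _) ((ζ ≫ pY) ≫ h) (Category.comp_id _), germs_of_secPull_eq h F s t hst (ζ ≫ pY)]
  have h3 := hinj _ h2
  haveI := mono_unit p F
  refine app_injective ((EtDesc.adjSh p).unit.app F) (EtCoh.top X) ?_
  exact (bijective_map_bcTop p ((EtDesc.pullSh p).obj F)).2.1 h3

/-- bijectivity descends along surjections with injective base change -/
theorem secPull_bijective_descent (sq : IsPullback hb pY p h) [Surjective p]
    (hbij : ∀ Fb : EtDesc.Sh Xb, Function.Bijective (EtDesc.secPull hb Fb))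
    (hm : ∀ Fb : EtDesc.Sh Xb, Mono (EtBC.baseChange0Sh p h pY hb sq.w Fb)) (F : EtDesc.Sh X) :
    Function.Bijective (EtDesc.secPull h F) := by
  have hinj := secPull_injective_descent sq (fun Fb => (hbij Fb).1)
  refine ⟨hinj F, fun σ => ?_⟩
  haveI := mono_unit p F
  let G := (EtDesc.pullSh p).obj F
  let w := ((EtDesc.pullSh h).map ((EtDesc.adjSh p).unit.app F)).hom.app (op (EtCoh.top Y)) σ
  obtain ⟨τ, hτ⟩ := (hbij G).2 (((EtDesc.pullSh hb).obj G).obj.map (EtCore.bcTopIso pY).inv.op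
    ((EtBC.baseChange0Sh p h pY hb sq.w G).hom.app (op (EtCoh.top Y)) w))
  haveI := hm G
  rw [← baseChange_secPull sq G τ] at hτ
  exact mem_range_secPull h hinj ((EtDesc.adjSh p).unit.app F) σ
    ⟨_, app_injective _ _ ((bijective_map_bcTop pY _).2.1 hτ)⟩

end Square

end Groth.Agent.H0FBC
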