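import Groth.Agent.H0FBC.FieldCore
import Groth.Agent.DirColim.Basic

/-!
# Double points of colimits of algebras, at stages
-/

set_option autoImplicit false
set_option linter.style.haveILetI false
set_option linter.unusedSectionVars false
universe u

open scoped TensorProduct

namespace Groth.Agent.H0FBC.Square

open Groth.Agent Groth.Agent.H0FBC.OverField

variable {B A : Type u} [CommRing B] [CommRing A] [Algebra B A] {κ : Type u} {H : κ → Type u}
  [∀ i, CommRing (H i)] [∀ i, Algebra A (H i)] [∀ i, Algebra B (H i)] [∀ i, IsScalarTower B A (H i)]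
  {RX : Type u} [CommRing RX] [Algebra A RX] [Algebra B RX] [IsScalarTower B A RX]
  (gX : ∀ i, H i →ₐ[A] RX)

/-- double points of a stage in double points of the colimit -/
noncomputable def sq (i : κ) : H i ⊗[B] H i →ₐ[B] RX ⊗[B] RX :=
  Algebra.TensorProduct.map ((gX i).restrictScalars B) ((gX i).restrictScalars B)

/-- transition maps on double points -/
noncomputable def sqMap {i j : κ} (φ : DirColim.Trans gX i j) : H i ⊗[B] H i →ₐ[B] H j ⊗[B] H j :=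
  Algebra.TensorProduct.map (φ.1.restrictScalars B) (φ.1.restrictScalars B)

theorem sq_sqMap {i j : κ} (φ : DirColim.Trans gX i j) (y : H i ⊗[B] H i) :
    sq gX j (sqMap gX φ y) = sq gX i y := by
  induction y using TensorProduct.induction_on with
  | zero => simp only [map_zero]
  | tmul a b =>
    simp only [sq, sqMap, Algebra.TensorProduct.map_tmul, AlgHom.restrictScalars_apply, φ.apply]
  | add a b ha hb => simp only [map_add, ha, hb]

theorem sqMap_comp {i j k : κ} (φ : DirColim.Trans gX i j) (χ : DirColim.Trans gX j k) (y : H i ⊗[B] H i) :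
    sqMap gX χ (sqMap gX φ y) = sqMap gX (χ.comp φ) y := by
  induction y using TensorProduct.induction_on with
  | zero => simp only [map_zero]
  | tmul a b => rfl
  | add a b ha hb => simp only [map_add, ha, hb]

variable {gX}

theorem exists_sq_eq (hX : DirColim.IsColim gX) (z : RX ⊗[B] RX) : ∃ i y, sq gX i y = z := by
  induction z using TensorProduct.induction_on with
  | zero => obtain ⟨i, -⟩ := hX.surj 0; exact ⟨i, 0, map_zero _⟩
  | tmul a b =>
    obtain ⟨i, x, rfl⟩ := hX.surj a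
    obtain ⟨j, y, rfl⟩ := hX.surj b
    obtain ⟨k, ⟨φ⟩, ⟨χ⟩⟩ := hX.directed i j
    refine ⟨k, φ.1 x ⊗ₜ χ.1 y, ?_⟩
    simp only [sq, Algebra.TensorProduct.map_tmul, AlgHom.restrictScalars_apply, φ.apply, χ.apply]
  | add a b ha hb =>
    obtain ⟨i, x, rfl⟩ := ha
    obtain ⟨j, y, rfl⟩ := hb
    obtain ⟨k, ⟨φ⟩, ⟨χ⟩⟩ := hX.directed i j
    exact ⟨k, sqMap gX φ x + sqMap gX χ y, by rw [map_add, sq_sqMap, sq_sqMap]⟩

theorem exists_sqMap_eq_zero (hX : DirColim.IsColim gX) (l : κ) (y : H l ⊗[B] H l) (hy : sq gX l y = 0) :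
    ∃ n, ∃ φ : DirColim.Trans gX l n, sqMap gX φ y = 0 := by
  classical
  have hB := isColim_restrictScalars (A := B) hX
  have e : ∀ y : H l ⊗[B] H l, sq gX l y =
      ((gX l).restrictScalars B).toLinearMap.lTensor RX (((gX l).restrictScalars B).toLinearMap.rTensor (H l) y) := by
    intro y
    induction y using TensorProduct.induction_on with
    | zero => simp only [map_zero]
    | tmul a b => rfl
    | add a b ha hb => simp only [map_add, ha, hb]
  obtain ⟨j, χ, hχ⟩ := hB.exists_tensor_eq_zero RX l _ ((e y).symm.trans hy)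
  obtain ⟨j', ψ, hψ⟩ := hB.exists_rTensor_eq_zero (H j) l (χ.1.toLinearMap.lTensor (H l) y) (by
    rw [← LinearMap.comp_apply, LinearMap.rTensor_comp_lTensor, ← LinearMap.lTensor_comp_rTensor]
    exact hχ)
  rw [← LinearMap.comp_apply, LinearMap.rTensor_comp_lTensor] at hψ
  obtain ⟨m₀, ⟨αl₀⟩, ⟨αj₀⟩⟩ := hX.directed l j
  obtain ⟨m, ⟨β⟩, ⟨αj'⟩⟩ := hX.directed m₀ j'
  let αl := β.comp αl₀
  let αj := β.comp αj₀
  obtain ⟨S, rfl⟩ := TensorProduct.exists_finset y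
  obtain ⟨m₁, μ, hμ⟩ := hX.ker_finset S m (fun p => αj'.1 (ψ.1 p.1) - αl.1 p.1) fun p _ => by
    rw [map_sub, αj'.apply, αl.apply]
    exact sub_eq_zero.2 (ψ.apply p.1)
  obtain ⟨n, ν, hν⟩ := hX.ker_finset S m₁ (fun p => μ.1 (αj.1 (χ.1 p.2)) - μ.1 (αl.1 p.2)) fun p _ => by
    rw [map_sub, μ.apply, αj.apply, μ.apply, αl.apply]
    exact sub_eq_zero.2 (χ.apply p.2)
  refine ⟨n, ν.comp (μ.comp αl), ?_⟩
  let L₁ : H j' →ₗ[B] H n := ((ν.comp (μ.comp αj')).1.restrictScalars B).toLinearMap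
  let L₂ : H j →ₗ[B] H n := ((ν.comp (μ.comp αj)).1.restrictScalars B).toLinearMap
  have h0 := congrArg (TensorProduct.map L₁ L₂) hψ
  rw [map_zero, map_sum, map_sum] at h0
  refine Eq.trans ?_ h0
  rw [map_sum]
  refine Finset.sum_congr rfl fun p hp => ?_
  show ν.1 (μ.1 (αl.1 p.1)) ⊗ₜ[B] ν.1 (μ.1 (αl.1 p.2)) =
    ν.1 (μ.1 (αj'.1 (ψ.1 p.1))) ⊗ₜ[B] ν.1 (μ.1 (αj.1 (χ.1 p.2)))
  have h1 : μ.1 (αl.1 p.1) = μ.1 (αj'.1 (ψ.1 p.1)) := by
    have := hμ p hp
    rw [map_sub, sub_eq_zero] at this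
    exact this.symm
  have h2 : ν.1 (μ.1 (αl.1 p.2)) = ν.1 (μ.1 (αj.1 (χ.1 p.2))) := by
    have := hν p hp
    rw [map_sub, sub_eq_zero] at this
    exact this.symm
  rw [h1, h2]

theorem exists_sqMap_map_eq_top (hX : DirColim.IsColim gX) (l : κ) (K : Ideal (H l ⊗[B] H l))
    (h : (1 : RX ⊗[B] RX) ∈ K.map (sq gX l)) : ∃ n, ∃ φ : DirColim.Trans gX l n, K.map (sqMap gX φ) = ⊤ := by
  have key : ∀ z ∈ Ideal.span (sq gX l '' (K : Set (H l ⊗[B] H l))), ∃ l₀, ∀ k (_ : DirColim.Trans gX l₀ k)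
      (φ : DirColim.Trans gX l k), ∃ y ∈ K.map (sqMap gX φ), sq gX k y = z := by
    intro z hz
    induction hz using Submodule.span_induction with
    | mem x hx =>
      obtain ⟨x, hxK, rfl⟩ := hx
      exact ⟨l, fun k _ φ => ⟨_, Ideal.mem_map_of_mem _ hxK, sq_sqMap gX φ x⟩⟩
    | zero => exact ⟨l, fun k _ φ => ⟨0, zero_mem _, map_zero _⟩⟩
    | add a b _ _ ha hb =>
      obtain ⟨la, ha⟩ := ha
      obtain ⟨lb, hb⟩ := hb
      obtain ⟨m, ⟨φa⟩, ⟨φb⟩⟩ := hX.directed la lb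
      refine ⟨m, fun k χ φ => ?_⟩
      obtain ⟨ya, hya, rfl⟩ := ha k (χ.comp φa) φ
      obtain ⟨yb, hyb, rfl⟩ := hb k (χ.comp φb) φ
      exact ⟨ya + yb, add_mem hya hyb, map_add _ _ _⟩
    | smul c a _ ha =>
      obtain ⟨la, ha⟩ := ha
      obtain ⟨lc, yc, rfl⟩ := exists_sq_eq hX c
      obtain ⟨m, ⟨φa⟩, ⟨φc⟩⟩ := hX.directed la lc
      refine ⟨m, fun k χ φ => ?_⟩
      obtain ⟨ya, hya, rfl⟩ := ha k (χ.comp φa) φ
      refine ⟨sqMap gX (χ.comp φc) yc * ya, Ideal.mul_mem_left _ _ hya, ?_⟩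
      rw [map_mul, sq_sqMap, smul_eq_mul]
  obtain ⟨l₀, hl₀⟩ := key 1 h
  obtain ⟨k, ⟨φ⟩, ⟨χ⟩⟩ := hX.directed l l₀
  obtain ⟨y, hy, hy1⟩ := hl₀ k χ φ
  obtain ⟨n, ν, hν⟩ := exists_sqMap_eq_zero hX k (y - 1) (by rw [map_sub, hy1, map_one, sub_self])
  refine ⟨n, ν.comp φ, (Ideal.eq_top_iff_one _).2 ?_⟩
  rw [map_sub, map_one, sub_eq_zero] at hν
  rw [← hν]
  have hle : (K.map (sqMap gX φ)).map (sqMap gX ν) ≤ K.map (sqMap gX (ν.comp φ)) := by
    rw [Ideal.map_le_iff_le_comap, Ideal.map_le_iff_le_comap]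
    intro x hx
    show sqMap gX ν (sqMap gX φ x) ∈ K.map (sqMap gX (ν.comp φ))
    rw [sqMap_comp]
    exact Ideal.mem_map_of_mem _ hx
  exact hle (Ideal.mem_map_of_mem _ hy)

/-- points of the colimit with the same image lie in an open set from a stage: so do those of a later stage -/
theorem exists_stage_pairs {RY : Type u} [CommRing RY] [Algebra B RY] {ι : Type u} {G : ι → Type u}
    [∀ i, CommRing (G i)] [∀ i, Algebra B (G i)] [∀ i, Algebra.FinitePresentation B (G i)]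
    {gY : ∀ i, G i →ₐ[B] RY} (hY : DirColim.IsColim gY) (hX : DirColim.IsColim gX) (ψ : RY →ₐ[B] RX)
    (i : κ) (I : Ideal (H i ⊗[B] H i))
    (h : ∀ (K : Type u) [Field K] (h₁ h₂ : RX →+* K),
      h₁.comp ψ.toRingHom = h₂.comp ψ.toRingHom →
      ∀ θ : H i ⊗[B] H i →+* K, (∀ a, θ (a ⊗ₜ 1) = h₁ (gX i a)) → (∀ a, θ (1 ⊗ₜ a) = h₂ (gX i a)) →
        ∃ x ∈ I, θ x ≠ 0) :
    ∃ j, ∃ φ : DirColim.Trans gX i j, ∃ (N : ι) (α : G N →ₐ[B] H j),
      ((gX j).restrictScalars B).comp α = ψ.comp (gY N) ∧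
      ∀ (K : Type u) [Field K] (a b : H j →+* K), a.comp α.toRingHom = b.comp α.toRingHom →
        ∀ θ : H i ⊗[B] H i →+* K, (∀ x, θ (x ⊗ₜ 1) = a (φ.1 x)) → (∀ x, θ (1 ⊗ₜ x) = b (φ.1 x)) →
          ∃ x ∈ I, θ x ≠ 0 := by
  classical
  have hB := isColim_restrictScalars (A := B) hX
  let d : RY → RX ⊗[B] RX := fun r => ψ r ⊗ₜ 1 - 1 ⊗ₜ ψ r
  have hJ : I.map (sq gX i) ⊔ Ideal.span (Set.range d) = ⊤ := by
    by_contra hne
    obtain ⟨m, hm, hle⟩ := Ideal.exists_le_maximal _ hne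
    let K := (RX ⊗[B] RX) ⧸ m
    letI : Field K := Ideal.Quotient.field m
    let q : RX ⊗[B] RX →+* K := Ideal.Quotient.mk m
    let h₁ : RX →+* K := q.comp Algebra.TensorProduct.includeLeftRingHom
    let h₂ : RX →+* K := q.comp (Algebra.TensorProduct.includeRight : RX →ₐ[B] RX ⊗[B] RX).toRingHom
    have h12 : h₁.comp ψ.toRingHom = h₂.comp ψ.toRingHom := RingHom.ext fun r => by
      show q (ψ r ⊗ₜ 1) = q (1 ⊗ₜ ψ r)
      rw [← sub_eq_zero, ← map_sub]
      exact Ideal.Quotient.eq_zero_iff_mem.2 (hle (Ideal.mem_sup_right (Ideal.subset_span ⟨r, rfl⟩)))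
    obtain ⟨x, hx, hx0⟩ := h K h₁ h₂ h12 (q.comp (sq gX i).toRingHom)
      (fun a => by
        show q (sq gX i (a ⊗ₜ 1)) = q (gX i a ⊗ₜ 1)
        rw [sq, Algebra.TensorProduct.map_tmul, map_one]; rfl)
      (fun a => by
        show q (sq gX i (1 ⊗ₜ a)) = q (1 ⊗ₜ gX i a)
        rw [sq, Algebra.TensorProduct.map_tmul, map_one]; rfl)
    exact hx0 (Ideal.Quotient.eq_zero_iff_mem.2 (hle (Ideal.mem_sup_left (Ideal.mem_map_of_mem _ hx))))
  have h1 : (1 : RX ⊗[B] RX) ∈ I.map (sq gX i) ⊔ Ideal.span (Set.range d) := hJ.ge Submodule.mem_top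
  obtain ⟨u₁, hu₁, v₁, hv₁, huv⟩ := Submodule.mem_sup.1 h1
  obtain ⟨T, hT, hvT⟩ := Submodule.mem_span_finite_of_mem_span hv₁
  choose r hr using fun z : T => hT z.2
  obtain ⟨N, g, hg⟩ := hY.surj_fintype r
  obtain ⟨j₁, α₁, hα₁⟩ := hB.exists_lift (ψ.comp (gY N))
  obtain ⟨k, ⟨φ⟩, ⟨χ⟩⟩ := hX.directed i j₁
  let α : G N →ₐ[B] H k := (χ.1.restrictScalars B).comp α₁
  have hα : ∀ n, gX k (α n) = ψ (gY N n) := fun n => (χ.apply (α₁ n)).trans (AlgHom.congr_fun hα₁ n)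
  let dk : G N → H k ⊗[B] H k := fun n => α n ⊗ₜ 1 - 1 ⊗ₜ α n
  let Kk : Ideal (H k ⊗[B] H k) := I.map (sqMap gX φ) ⊔ Ideal.span (Set.range dk)
  have hKk : (1 : RX ⊗[B] RX) ∈ Kk.map (sq gX k) := by
    rw [← huv]
    refine add_mem ?_ ?_
    · refine (?_ : I.map (sq gX i) ≤ Kk.map (sq gX k)) hu₁
      rw [Ideal.map_le_iff_le_comap]
      intro x hx
      show sq gX i x ∈ Kk.map (sq gX k)
      rw [← sq_sqMap gX φ x]
      exact Ideal.mem_map_of_mem _ (Ideal.mem_sup_left (Ideal.mem_map_of_mem _ hx))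
    · refine (?_ : Ideal.span (T : Set (RX ⊗[B] RX)) ≤ Kk.map (sq gX k)) hvT
      rw [Ideal.span_le]
      intro z hz
      have e : sq gX k (dk (g ⟨z, hz⟩)) = z := by
        refine Eq.trans ?_ (hr ⟨z, hz⟩)
        simp only [dk, d, map_sub, sq, Algebra.TensorProduct.map_tmul, map_one, AlgHom.restrictScalars_apply, hα, hg]
      rw [← e]
      exact Ideal.mem_map_of_mem _ (Ideal.mem_sup_right (Ideal.subset_span ⟨_, rfl⟩))
  obtain ⟨n, ν, hν⟩ := exists_sqMap_map_eq_top hX k Kk hKk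
  refine ⟨n, ν.comp φ, N, (ν.1.restrictScalars B).comp α, AlgHom.ext fun x => ?_, fun K _ a b hab θ hθ₁ hθ₂ => ?_⟩
  · exact (ν.apply (α x)).trans (hα x)
  by_contra hne
  push Not at hne
  let θ' : H n ⊗[B] H n →+* K :=
    tlift (R := B) (A := H n) (B := H n) (C := K) a b (RingHom.ext fun x => by
      show a (algebraMap B (H n) x) = b (algebraMap B (H n) x)
      rw [← ((ν.1.restrictScalars B).comp α).commutes x]
      exact congr($hab _))
  have hθ : ∀ x, θ' (sqMap gX (ν.comp φ) x) = θ x := by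
    intro x
    induction x using TensorProduct.induction_on with
    | zero => simp only [map_zero]
    | tmul p q =>
      rw [show p ⊗ₜ[B] q = (p ⊗ₜ 1) * (1 ⊗ₜ q) by rw [Algebra.TensorProduct.tmul_mul_tmul, mul_one, one_mul],
        map_mul θ, hθ₁, hθ₂]
      rw [Algebra.TensorProduct.tmul_mul_tmul, mul_one, one_mul]
      exact tlift_tmul a b _ _ _
    | add p q hp hq => simp only [map_add, hp, hq]
  have hker : Kk.map (sqMap gX ν) ≤ RingHom.ker θ' := by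
    rw [Ideal.map_le_iff_le_comap, sup_le_iff, Ideal.map_le_iff_le_comap, Ideal.span_le]
    refine ⟨fun x hx => ?_, ?_⟩
    · show θ' (sqMap gX ν (sqMap gX φ x)) = 0
      rw [sqMap_comp, hθ]
      exact hne x hx
    · rintro _ ⟨x, rfl⟩
      show θ' (sqMap gX ν (α x ⊗ₜ 1 - 1 ⊗ₜ α x)) = 0
      rw [map_sub, map_sub, sqMap, Algebra.TensorProduct.map_tmul, Algebra.TensorProduct.map_tmul, map_one,
        sub_eq_zero]
      refine (tlift_tmul a b _ _ _).trans (Eq.trans ?_ (tlift_tmul a b _ _ _).symm)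
      rw [map_one, map_one, mul_one, one_mul]
      exact congr($hab x)
  rw [hν] at hker
  have h10 : θ' 1 = 0 := RingHom.mem_ker.1 (hker Submodule.mem_top)
  rw [map_one] at h10
  exact one_ne_zero h10

end Groth.Agent.H0FBC.Square
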