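import Groth.Agent.H0FBC.StrictLocal
import Groth.Agent.H0FBC.GlobalSections
import Groth.Agent.AlgSpDec.EtHenzField
import Groth.Agent.Pi1X.GeomConnFF
import Groth.Agent.H0PBC.BaseChange

/-!
# Base change along morphisms with connected fibres between strict henselizations
-/

set_option autoImplicit false
set_option linter.style.haveILetI false
set_option linter.unusedSectionVars false
set_option backward.isDefEq.respectTransparency false
set_option backward.isDefEq.respectTransparency.types false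
universe u

open CategoryTheory CategoryTheory.Limits AlgebraicGeometry TopologicalSpace Opposite

namespace Groth.Agent.H0FBC

open H0PBC EtFound
open Groth.Agent.Hensel (Henz Nbhd)

variable {X S Y T : Scheme.{u}} {f : X ⟶ S} {g : T ⟶ S} {h : Y ⟶ X} {e : Y ⟶ T}
  {C : Type (u + 2)} [Category.{u + 1} C] [HasColimitsOfSize.{u, u} C] [HasProducts.{u} C]
  [∀ {P Q : Scheme.{u}} (h : P ⟶ Q),
    ((EtCoh.bc h).sheafPushforwardContinuous C Q.smallEtaleTopology P.smallEtaleTopology).IsRightAdjoint]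
  {FC : C → C → Type*} {CC : C → Type (u + 1)}
  [∀ M N, FunLike (FC M N) (CC M) (CC N)] [ConcreteCategory.{u + 1} C FC]
  [PreservesFilteredColimitsOfSize.{u, u} (forget C)]
  [∀ Z : Scheme.{u}, Z.smallEtaleTopology.HasSheafCompose (forget C)] [(forget C).ReflectsIsomorphisms]

/-- near every geometric point the map of the strictly henselian schemes is flat with connected geometric
fibres -/
def GoodLimit (f : X ⟶ S) : Prop :=
  ∀ (Ω : Type u) [Field Ω] [IsAlgClosed Ω] (η : Spec (CommRingCat.of Ω) ⟶ X),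
    ∃ (B A : Type u) (_ : CommRing B) (_ : CommRing A) (_ : Algebra B A) (_ : Algebra A Ω) (_ : Algebra B Ω)
      (_ : IsScalarTower B A Ω) (ιB : Spec (CommRingCat.of B) ⟶ S) (_ : IsOpenImmersion ιB)
      (ιA : Spec (CommRingCat.of A) ⟶ X) (_ : IsOpenImmersion ιA),
      ιA ≫ f = Spec.map (CommRingCat.ofHom (algebraMap B A)) ≫ ιB ∧ ym ιA Ω = η ∧
      ∀ (ψ : Henz B Ω →+* Henz A Ω),
        ψ.comp (algebraMap B (Henz B Ω)) = (algebraMap A (Henz A Ω)).comp (algebraMap B A) →
        (∀ z, Henz.proj A Ω (ψ z) = Henz.proj B Ω z) →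
        Flat (Spec.map (CommRingCat.ofHom ψ)) ∧ GeometricallyConnected (Spec.map (CommRingCat.ofHom ψ))

include FC CC in
/-- base change along a morphism which is flat with connected geometric fibres between strict henselizations -/
theorem isIso_baseChange_of_goodLimit [QuasiCompact g] [QuasiSeparated g] (sq : IsPullback e h g f)
    (hgood : GoodLimit f) (F : Sheaf T.smallEtaleTopology C)
    (β : (pullA C f).obj ((pushA C g).obj F) ⟶ (pushA C h).obj ((pullA C e).obj F))
    (hβ : ∀ V : S.Etale,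
      (((EtCoh.bc f).sheafAdjunctionContinuous C S.smallEtaleTopology X.smallEtaleTopology).unit.app
          ((pushA C g).obj F)).hom.app (op V) ≫ β.hom.app (op ((EtCoh.bc f).obj V)) =
        (((EtCoh.bc e).sheafAdjunctionContinuous C T.smallEtaleTopology Y.smallEtaleTopology).unit.app F).hom.app
          (op ((EtCoh.bc g).obj V)) ≫ ((pullA C e).obj F).obj.map (bcSquare sq.w V).op) :
    IsIso β := by
  refine isIso_of_stalks β fun Ω₀ _ _ η₀ => ?_
  let Ω := AlgebraicClosure Ω₀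
  let l : Spec (CommRingCat.of Ω) ⟶ Spec (CommRingCat.of Ω₀) :=
    Spec.map (CommRingCat.ofHom (algebraMap Ω₀ Ω))
  obtain ⟨B, A, _, _, _, _, _, _, ιB, _, ιA, _, hι, hη, hprop⟩ := hgood Ω (l ≫ η₀)
  obtain ⟨ψ, hψ₁, hψ₂⟩ := exists_henzMap B A Ω
  obtain ⟨hflat, hgc⟩ := hprop ψ hψ₁ hψ₂
  haveI : QuasiCompact (Spec.map (CommRingCat.ofHom ψ)) := quasiCompact_of_compactSpace _
  haveI : Flat (limProj sq hι hψ₁) := MorphismProperty.of_isPullback (isPullback_limProj sq hι hψ₁).flip hflat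
  haveI : QuasiCompact (limProj sq hι hψ₁) :=
    MorphismProperty.of_isPullback (isPullback_limProj sq hι hψ₁).flip ‹QuasiCompact (Spec.map _)›
  haveI : GeometricallyConnected (limProj sq hι hψ₁) :=
    MorphismProperty.of_isPullback (isPullback_limProj sq hι hψ₁).flip hgc
  have hbij : Function.Bijective ((Scheme.pointSmallEtale (l ≫ η₀)).sheafFiber.map β) := by
    rw [← hη]
    exact ⟨injective_stalk_of_strict sq hι hψ₁ hψ₂ β hβ,
      surjective_stalk_of_strict sq hι hψ₁ hψ₂ β hβ fun G => (bijective_unit_top_of_flat _ G).2⟩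
  have : IsIso ((Scheme.pointSmallEtale (l ≫ η₀)).sheafFiber.map β) := (ConcreteCategory.isIso_iff_bijective _).2 hbij
  have := (NatIso.isIso_map_iff (stalkExtIso C η₀ l) β).2 this
  exact (ConcreteCategory.isIso_iff_bijective ((Scheme.pointSmallEtale η₀).sheafFiber.map β)).1 this

open Groth.Agent in
/-- the geometric hypothesis on strict henselizations gives the hypothesis on the limits -/
theorem goodLimit_of_strictHenselization [Flat f]
    (hconn : ∀ (x : X) (RS : Type u) [CommRing RS] [IsLocalRing RS] [Algebra (S.presheaf.stalk (f.base x)) RS]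
      [IsLocalHom (algebraMap (S.presheaf.stalk (f.base x)) RS)]
      [_root_.Hensel.IsStrictHenselization (S.presheaf.stalk (f.base x)) RS]
      (RX : Type u) [CommRing RX] [IsLocalRing RX] [Algebra (X.presheaf.stalk x) RX]
      [IsLocalHom (algebraMap (X.presheaf.stalk x) RX)] [_root_.Hensel.IsStrictHenselization (X.presheaf.stalk x) RX]
      (ψ : RS →+* RX) [IsLocalHom ψ],
      ψ.comp (algebraMap (S.presheaf.stalk (f.base x)) RS) = (algebraMap (X.presheaf.stalk x) RX).comp (f.stalkMap x).hom →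
      ∀ (Ω : Type u) [Field Ω] [IsAlgClosed Ω] (η : Spec (CommRingCat.of Ω) ⟶ Spec (CommRingCat.of RS)),
        ConnectedSpace ↥(pullback (Spec.map (CommRingCat.ofHom ψ)) η)) :
    GoodLimit f := by
  intro Ω _ _ η
  let x : X := η (IsLocalRing.closedPoint Ω)
  obtain ⟨W, hW, hxW, -⟩ := exists_isAffineOpen_mem_and_subset (U := (⊤ : S.Opens)) (x := f x) trivial
  obtain ⟨V, hV, hxV, hVW⟩ := exists_isAffineOpen_mem_and_subset (U := f ⁻¹ᵁ W) (x := x) hxW
  let φ := f.appLE W V hVW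
  let Rx := X.presheaf.stalk x
  let Rs := S.presheaf.stalk (f x)
  let sX : Rx ⟶ CommRingCat.of Ω := Scheme.stalkClosedPointTo η
  let sS : Rs ⟶ CommRingCat.of Ω := f.stalkMap x ≫ sX
  let gX : Γ(X, V) ⟶ Rx := X.presheaf.germ V x hxV
  let gS : Γ(S, W) ⟶ Rs := S.presheaf.germ W (f x) hxW
  have hgerm : φ ≫ gX = gS ≫ f.stalkMap x := by
    show _ = S.presheaf.germ W (f x) hxW ≫ f.stalkMap x
    rw [Scheme.Hom.germ_stalkMap]
    simp only [φ, gX, Scheme.Hom.appLE, Category.assoc, TopCat.Presheaf.germ_res]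
  letI : Algebra Γ(S, W) Γ(X, V) := φ.hom.toAlgebra
  letI : Algebra Γ(X, V) Ω := (gX ≫ sX).hom.toAlgebra
  letI : Algebra Γ(S, W) Ω := (φ ≫ gX ≫ sX).hom.toAlgebra
  haveI : IsScalarTower Γ(S, W) Γ(X, V) Ω := .of_algebraMap_eq' rfl
  have hι : hV.fromSpec ≫ f = Spec.map φ ≫ hW.fromSpec := (hW.SpecMap_appLE_fromSpec f hV hVW).symm
  refine ⟨Γ(S, W), Γ(X, V), inferInstance, inferInstance, inferInstance, inferInstance, inferInstance, inferInstance,
    hW.fromSpec, inferInstance, hV.fromSpec, inferInstance, hι, ?_, fun ψ hψ₁ hψ₂ => ?_⟩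
  · show Spec.map (gX ≫ sX) ≫ hV.fromSpec = η
    rw [Spec.map_comp, Category.assoc]
    exact (congrArg (Spec.map sX ≫ ·) (hV.fromSpecStalk_eq_fromSpecStalk hxV)).trans
      (Scheme.Spec_stalkClosedPointTo_fromSpecStalk η)
  haveI : Module.Flat Γ(S, W) Γ(X, V) := f.flat_appLE hW hV hVW
  refine ⟨(HasRingHomProperty.Spec_iff (P := @Flat)).2 (flat_henzMap hψ₁ hψ₂),
    Pi1X.geometricallyConnected_of_isAlgClosed _ fun L _ _ s => ?_⟩
  -- the strict henselizations of the local rings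
  letI : Algebra Γ(X, V) Rx := gX.hom.toAlgebra
  letI : Algebra Γ(S, W) Rs := gS.hom.toAlgebra
  letI : Algebra Rx Ω := sX.hom.toAlgebra
  letI : Algebra Rs Ω := sS.hom.toAlgebra
  haveI : IsScalarTower Γ(X, V) Rx Ω := .of_algebraMap_eq' rfl
  haveI : IsScalarTower Γ(S, W) Rs Ω := .of_algebraMap_eq' (congrArg CommRingCat.Hom.hom
    (show φ ≫ gX ≫ sX = gS ≫ sS by rw [← Category.assoc, hgerm, Category.assoc]))
  haveI hlX : IsLocalHom (algebraMap Rx Ω) := show IsLocalHom sX.hom by infer_instance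
  haveI hlS : IsLocalHom (algebraMap Rs Ω) :=
    show IsLocalHom (sX.hom.comp (f.stalkMap x).hom) from RingHom.isLocalHom_comp _ _
  haveI := hV.isLocalization_stalk ⟨x, hxV⟩
  haveI := hW.isLocalization_stalk ⟨f x, hxW⟩
  let MX := (hV.primeIdealOf ⟨x, hxV⟩).asIdeal.primeCompl
  let MS := (hW.primeIdealOf ⟨f x, hxW⟩).asIdeal.primeCompl
  let aX := AlgSpDec.EtHenz.fromLocal Γ(X, V) Rx Ω MX
  let aS := AlgSpDec.EtHenz.fromLocal Γ(S, W) Rs Ω MS
  letI : Algebra Rx (Henz Γ(X, V) Ω) := aX.toRingHom.toAlgebra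
  letI : Algebra Rs (Henz Γ(S, W) Ω) := aS.toRingHom.toAlgebra
  obtain ⟨hX₁, hX₂⟩ := AlgSpDec.EtHenz.isStrictHenselization Γ(X, V) Rx Ω MX
  obtain ⟨hS₁, hS₂⟩ := AlgSpDec.EtHenz.isStrictHenselization Γ(S, W) Rs Ω MS
  haveI := isLocalHom_henzMap hψ₁ hψ₂
  refine hconn x (Henz Γ(S, W) Ω) (Henz Γ(X, V) Ω) ψ ?_ L s
  refine IsLocalization.ringHom_ext MS (RingHom.ext fun b => ?_)
  show ψ (aS (algebraMap Γ(S, W) Rs b)) = aX ((f.stalkMap x).hom (gS.hom b))
  rw [AlgHom.commutes, show (f.stalkMap x).hom (gS.hom b) = algebraMap Γ(X, V) Rx (φ.hom b) from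
    (ConcreteCategory.congr_hom hgerm b).symm, AlgHom.commutes]
  exact congr($hψ₁ b)

end Groth.Agent.H0FBC
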