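import Groth.Agent.H0FBC.Generalizing

/-!
# Base change along universally locally 0-acyclic morphisms
-/

set_option autoImplicit false
set_option linter.style.haveILetI false
set_option linter.unusedSectionVars false
set_option backward.isDefEq.respectTransparency false
set_option backward.isDefEq.respectTransparency.types false
universe u

open CategoryTheory CategoryTheory.Limits AlgebraicGeometry TopologicalSpace Opposite
open scoped TensorProduct

attribute [-instance] CategoryTheory.catToReflQuiver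

namespace Groth.Agent.H0FBC

open H0PBC EtFound
open Groth.Agent.Hensel (Henz Nbhd)

section limit

variable {X S : Scheme.{u}} {f : X ⟶ S} {B A Ω : Type u} [CommRing B] [CommRing A] [Field Ω] [Algebra B A]
  [Algebra A Ω] [Algebra B Ω] [IsScalarTower B A Ω] {ιB : Spec (CommRingCat.of B) ⟶ S}
  {ιA : Spec (CommRingCat.of A) ⟶ X} [IsOpenImmersion ιA] [IsOpenImmersion ιB]
  (hι : ιA ≫ f = Spec.map (CommRingCat.ofHom (algebraMap B A)) ≫ ιB)
  {ψ : Henz B Ω →+* Henz A Ω}
  (hψ₁ : ψ.comp (algebraMap B (Henz B Ω)) = (algebraMap A (Henz A Ω)).comp (algebraMap B A))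

include hι hψ₁ in
/-- the strictly henselian scheme upstairs is flat over the base change of the morphism to the one downstairs -/
theorem flat_lift_henz :
    Flat (pullback.lift (Spec.map (CommRingCat.ofHom ψ)) (ym ιA (Henz A Ω))
      (ym_over hι (Henz A Ω) (Henz B Ω) ψ hψ₁) :
        Spec (CommRingCat.of (Henz A Ω)) ⟶ pullback (ym ιB (Henz B Ω)) f) := by
  letI : Algebra B (Henz A Ω) := ((algebraMap A (Henz A Ω)).comp (algebraMap B A)).toAlgebra
  haveI : IsScalarTower B A (Henz A Ω) := .of_algebraMap_eq' rfl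
  let ψB : Henz B Ω →ₐ[B] Henz A Ω := { ψ with commutes' := fun b => congr($hψ₁ b) }
  let χ : A ⊗[B] Henz B Ω →ₐ[A] Henz A Ω :=
    Algebra.TensorProduct.lift (Algebra.ofId A (Henz A Ω)) ψB fun _ _ => .all _ _
  haveI : Flat (Spec.map (CommRingCat.ofHom χ.toRingHom)) :=
    (HasRingHomProperty.Spec_iff (P := @Flat)).2 (flat_of_isColim_etale ((isColim_henz B Ω).baseChange A) χ)
  haveI : AlgebraicGeometry.Etale (tU f ιB (Henz B Ω) ιA hι) := etale_tU f ιB (Henz B Ω) ιA hι
  have e : Spec.map (CommRingCat.ofHom χ.toRingHom) ≫ tU f ιB (Henz B Ω) ιA hι =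
      pullback.lift (Spec.map (CommRingCat.ofHom ψ)) (ym ιA (Henz A Ω))
        (ym_over hι (Henz A Ω) (Henz B Ω) ψ hψ₁) := by
    refine pullback.hom_ext ?_ ?_
    · rw [Category.assoc, tU_fst, pullback.lift_fst, ← Spec.map_comp, ← CommRingCat.ofHom_comp]
      refine congrArg (fun φ : Henz B Ω →+* Henz A Ω => Spec.map (CommRingCat.ofHom φ)) (RingHom.ext fun z => ?_)
      show χ ((1 : A) ⊗ₜ[B] z) = ψ z
      simp only [χ, Algebra.TensorProduct.lift_tmul, map_one, one_mul]
      rfl
    · rw [Category.assoc, tU_snd, pullback.lift_snd, ← Category.assoc, ← Spec.map_comp, ← CommRingCat.ofHom_comp]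
      refine congrArg (fun φ : A →+* Henz A Ω => Spec.map (CommRingCat.ofHom φ) ≫ ιA) (RingHom.ext fun a => ?_)
      exact χ.commutes a
  rw [← e]
  infer_instance

include hι hψ₁ in
/-- base changes of the map of strictly henselian schemes are generalizing -/
theorem generalizingMap_fst_henz (hf : EtAcyc.IsULocZeroAcyclic f) {U : Scheme.{u}}
    (b : U ⟶ Spec (CommRingCat.of (Henz B Ω))) :
    GeneralizingMap (pullback.fst b (Spec.map (CommRingCat.ofHom ψ))) := by
  let P := Spec.map (CommRingCat.ofHom ψ)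
  let sS := ym ιB (Henz B Ω)
  let m₀ : Spec (CommRingCat.of (Henz A Ω)) ⟶ pullback sS f :=
    pullback.lift P (ym ιA (Henz A Ω)) (ym_over hι (Henz A Ω) (Henz B Ω) ψ hψ₁)
  haveI : Flat m₀ := flat_lift_henz hι hψ₁
  let m : pullback b P ⟶ pullback (b ≫ sS) f :=
    pullback.lift (pullback.fst b P) (pullback.snd b P ≫ ym ιA (Henz A Ω)) (by
      exact ((Category.assoc _ _ _).symm.trans (congrArg (· ≫ sS) pullback.condition)).trans
        ((Category.assoc _ _ _).trans ((congrArg (pullback.snd b P ≫ ·) (ym_over hι (Henz A Ω) (Henz B Ω) ψ hψ₁)).trans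
          (Category.assoc _ _ _).symm)))
  let μ : pullback (b ≫ sS) f ⟶ pullback sS f :=
    pullback.lift (pullback.fst (b ≫ sS) f ≫ b) (pullback.snd (b ≫ sS) f)
      ((Category.assoc _ _ _).trans pullback.condition)
  have hμ : IsPullback μ (pullback.fst (b ≫ sS) f) (pullback.fst sS f) b :=
    IsPullback.of_right (h₁₂ := pullback.snd sS f) (v₁₃ := f) (h₂₂ := sS)
      (by rw [pullback.lift_snd]; exact (IsPullback.of_hasPullback (b ≫ sS) f).flip)
      (pullback.lift_fst _ _ _) (IsPullback.of_hasPullback sS f).flip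
  have hm : IsPullback (pullback.snd b P) m m₀ μ := by
    refine IsPullback.of_bot (v₂₁ := pullback.fst (b ≫ sS) f) (v₂₂ := pullback.fst sS f) (h₃₁ := b) ?_ ?_ hμ
    · rw [pullback.lift_fst, pullback.lift_fst]
      exact (IsPullback.of_hasPullback b P).flip
    · refine pullback.hom_ext ?_ ?_
      · rw [Category.assoc, Category.assoc, pullback.lift_fst, pullback.lift_fst, pullback.lift_fst_assoc,
          pullback.condition]
      · rw [Category.assoc, Category.assoc, pullback.lift_snd, pullback.lift_snd, pullback.lift_snd]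
  haveI : Flat m := MorphismProperty.of_isPullback hm ‹Flat m₀›
  have e : m ≫ pullback.fst (b ≫ sS) f = pullback.fst b P := pullback.lift_fst _ _ _
  rw [← e, Scheme.Hom.comp_base, TopCat.coe_comp]
  exact (Flat.generalizingMap m).comp (generalizingMap_of_locZeroAcyclic _
    (hf (pullback.fst (b ≫ sS) f) (pullback.snd (b ≫ sS) f) (b ≫ sS) (IsPullback.of_hasPullback _ _).flip))

end limit

variable {X S Y T : Scheme.{u}} {f : X ⟶ S} {g : T ⟶ S} {h : Y ⟶ X} {e : Y ⟶ T}
  {C : Type (u + 2)} [Category.{u + 1} C] [HasColimitsOfSize.{u, u} C] [HasProducts.{u} C]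
  [∀ {P Q : Scheme.{u}} (h : P ⟶ Q),
    ((EtCoh.bc h).sheafPushforwardContinuous C Q.smallEtaleTopology P.smallEtaleTopology).IsRightAdjoint]
  {FC : C → C → Type*} {CC : C → Type (u + 1)}
  [∀ M N, FunLike (FC M N) (CC M) (CC N)] [ConcreteCategory.{u + 1} C FC]
  [PreservesFilteredColimitsOfSize.{u, u} (forget C)]
  [∀ Z : Scheme.{u}, Z.smallEtaleTopology.HasSheafCompose (forget C)] [(forget C).ReflectsIsomorphisms]

include FC CC in
/-- base change along a universally locally 0-acyclic morphism -/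
theorem isIso_baseChange_of_uLocZeroAcyclic [QuasiCompact g] [QuasiSeparated g] (sq : IsPullback e h g f)
    (hf : EtAcyc.IsULocZeroAcyclic f) (F : Sheaf T.smallEtaleTopology C)
    (β : (pullA C f).obj ((pushA C g).obj F) ⟶ (pushA C h).obj ((pullA C e).obj F))
    (hβ : ∀ V : S.Etale,
      (((EtCoh.bc f).sheafAdjunctionContinuous C S.smallEtaleTopology X.smallEtaleTopology).unit.app
          ((pushA C g).obj F)).hom.app (op V) ≫ β.hom.app (op ((EtCoh.bc f).obj V)) =
        (((EtCoh.bc e).sheafAdjunctionContinuous C T.smallEtaleTopology Y.smallEtaleTopology).unit.app F).hom.app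
          (op ((EtCoh.bc g).obj V)) ≫ ((pullA C e).obj F).obj.map (bcSquare sq.w V).op) :
    IsIso β := by
  refine isIso_of_stalks β fun Ω₀ _ _ η₀ => ?_
  let Ω := AlgebraicClosure Ω₀
  let l : Spec (CommRingCat.of Ω) ⟶ Spec (CommRingCat.of Ω₀) :=
    Spec.map (CommRingCat.ofHom (algebraMap Ω₀ Ω))
  obtain ⟨B, A, _, _, _, _, _, _, ιB, _, ιA, _, hι, hη, hP⟩ := exists_strict_chart f (l ≫ η₀)
  obtain ⟨ψ, hψ₁, hψ₂⟩ := exists_henzMap B A Ω
  have hf₀ : EtAcyc.IsLocZeroAcyclic f :=
    hf f (𝟙 X) (𝟙 S) (IsPullback.of_horiz_isIso ⟨(Category.id_comp f).trans (Category.comp_id f).symm⟩)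
  have hgc := geometricallyConnected_of_onStrict hf₀ ψ (hP ψ hψ₁ hψ₂)
  haveI hqc : QuasiCompact (Spec.map (CommRingCat.ofHom ψ)) := quasiCompact_of_compactSpace _
  haveI : QuasiCompact (limProj sq hι hψ₁) :=
    MorphismProperty.of_isPullback (isPullback_limProj sq hι hψ₁).flip hqc
  haveI : GeometricallyConnected (limProj sq hι hψ₁) :=
    MorphismProperty.of_isPullback (isPullback_limProj sq hι hψ₁).flip hgc
  have hquot : ∀ {U : Scheme.{u}} (p : U ⟶ PB g ιB (Henz B Ω)) [AlgebraicGeometry.Etale p],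
      Topology.IsQuotientMap (pullback.fst p (limProj sq hι hψ₁)) := by
    intro U p _
    haveI : QuasiCompact (pullback.fst p (limProj sq hι hψ₁)) := MorphismProperty.pullback_fst _ _ ‹_›
    haveI : Surjective (pullback.fst p (limProj sq hι hψ₁)) := MorphismProperty.pullback_fst _ _ inferInstance
    refine isQuotientMap_of_generalizingMap _ ?_
    have H := ((IsPullback.of_hasPullback p (limProj sq hι hψ₁)).flip.paste_horiz
      (isPullback_limProj sq hι hψ₁).flip).flip
    rw [← H.isoPullback_hom_fst, Scheme.Hom.comp_base, TopCat.coe_comp]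
    exact (Flat.generalizingMap H.isoPullback.hom).comp (generalizingMap_fst_henz hι hψ₁ hf _)
  have hbij : Function.Bijective ((Scheme.pointSmallEtale (l ≫ η₀)).sheafFiber.map β) := by
    rw [← hη]
    exact ⟨injective_stalk_of_strict sq hι hψ₁ hψ₂ β hβ,
      surjective_stalk_of_strict sq hι hψ₁ hψ₂ β hβ fun G => surjective_unit_top_of_quot _ hquot G⟩
  have : IsIso ((Scheme.pointSmallEtale (l ≫ η₀)).sheafFiber.map β) := (ConcreteCategory.isIso_iff_bijective _).2 hbij
  have := (NatIso.isIso_map_iff (stalkExtIso C η₀ l) β).2 this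
  exact (ConcreteCategory.isIso_iff_bijective ((Scheme.pointSmallEtale η₀).sheafFiber.map β)).1 this

end Groth.Agent.H0FBC
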